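import Cfsg.Agent.Lib.Blocks.LocalRing

/-!
Existence of a modular maximal ideal.
-/

namespace CfsgLib.Blk4.Modular

theorem exists_isPModular (p : ℕ) (hp : p.Prime) : ∃ M : Ideal Cfsg.AlgInt, Cfsg.IsPModular p M := by
  have hne : Ideal.span {(p : Cfsg.AlgInt)} ≠ ⊤ := by
    rw [Ne, Ideal.span_singleton_eq_top, isUnit_iff_exists_inv]
    rintro ⟨b, hb⟩
    have h1 : IsIntegral ℤ ((1 : ℚ) / p) := by
      have hb' : (p : ℂ) * (b : ℂ) = 1 := by simpa using congrArg Subtype.val hb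
      have h2 : (b : ℂ) = algebraMap ℚ ℂ ((1 : ℚ) / p) := by
        rw [map_div₀, map_one, map_natCast, eq_div_iff (by exact_mod_cast hp.ne_zero), mul_comm]
        exact hb'
      have h3 : IsIntegral ℤ (algebraMap ℚ ℂ ((1 : ℚ) / p)) := h2 ▸ b.2
      exact (isIntegral_algebraMap_iff (algebraMap ℚ ℂ).injective).1 h3
    obtain ⟨n, hn⟩ := IsIntegrallyClosed.isIntegral_iff.1 h1
    have h4 : (n : ℚ) * p = 1 := by
      rw [show (n : ℚ) = algebraMap ℤ ℚ n from rfl, hn, one_div,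
        inv_mul_cancel₀ (by exact_mod_cast hp.ne_zero)]
    have h5 : (p : ℤ) ∣ 1 := ⟨n, by exact_mod_cast (by linarith : (1 : ℚ) = p * n)⟩
    exact hp.not_dvd_one (by exact_mod_cast h5)
  obtain ⟨M, hM, hle⟩ := Ideal.exists_le_maximal _ hne
  exact ⟨M, hp, hM, hle (Ideal.mem_span_singleton_self _)⟩

end CfsgLib.Blk4.Modular
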