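import Cfsg.Agent.Lib.Characters.NormalAvg
import Cfsg.Agent.Lib.Characters.Ito
import Cfsg.Agent.Lib.Chars17.IrrBasic

/-!
# The Gallagher factor over an abelian quotient
-/

set_option autoImplicit false
set_option linter.unusedSectionVars false
set_option linter.style.haveILetI false

noncomputable section

namespace CfsgLib.Blk4.Gallagher

open Cfsg CfsgLib.Characters CfsgLib.NormalAvg
open scoped ComplexConjugate

universe u

/-- Over an extendible character with commutative quotient every character is a linear twist. -/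
theorem exists_linear_factor {W : Type u} [Group W] [Fintype W] (B : Subgroup W) [B.Normal]
    [Fintype B] (hab : ∀ a b : W ⧸ B, a * b = b * a) (χ ψ : IrrCharacter W)
    (hψB : IsIrrCharacter B (fun n : B => (ψ : W → ℂ) n))
    (h : classInner (fun n : B => (χ : W → ℂ) n) (fun n : B => (ψ : W → ℂ) n) ≠ 0) :
    ∃ μ : W →* ℂˣ, (∀ b : B, μ b = 1) ∧ (χ : W → ℂ) = fun g => (ψ : W → ℂ) g * (μ g : ℂ) := by
  classical
  set π := pairAvg B (χ : W → ℂ) (ψ : W → ℂ) with hπdef
  have hπ : IsIrrCharacter W π := isIrrCharacter_pairAvg B χ.2 (irr_isCharacter ψ) hψB h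
  have hcon : ∀ (n : B) (g : W), π ((n : W) * g) = π g := fun n g => avgN_mul_left B _ n g
  have hker : B ≤ CfsgLib.Chars17.irrKer (⟨π, hπ⟩ : IrrCharacter W) := fun x hx => by
    show π x = π 1
    rw [← hcon ⟨x, hx⟩ 1, mul_one]
  obtain ⟨σ, hσ⟩ := CfsgLib.Chars17.exists_infl_eq B hker
  haveI : IsMulCommutative (W ⧸ B) := ⟨⟨hab⟩⟩
  have h1 : π 1 = 1 := by
    have := CfsgLib.CharIto.degree_one_of_comm σ.2
    rw [← QuotientGroup.mk_one, ← CfsgLib.Chars17.infl_apply, hσ] at this
    exact this
  have hc := isCharacter_of_irr hπ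
  refine ⟨CfsgLib.CharIto.linearHom hc h1, fun b => Units.ext ?_, ?_⟩
  · rw [CfsgLib.CharIto.coe_linearHom, Units.val_one, ← mul_one (b : W), hcon, h1]
  have e1 : classInner (χ : W → ℂ) ((ψ : W → ℂ) * π) = 1 := by
    rw [← classInner_irr_self hπ]
    conv_rhs => arg 1; rw [hπdef, pairAvg]
    rw [classInner_avgN_left B _ hcon]
    unfold classInner
    congr 1
    exact Finset.sum_congr rfl fun g _ => by simp [mul_assoc]
  have hprodc : IsCharacter W ((ψ : W → ℂ) * π) := isCharacter_mul (irr_isCharacter ψ) hc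
  have e2 : classInner ((ψ : W → ℂ) * π) ((ψ : W → ℂ) * π) = 1 := by
    have h := classInner_avgN_left B
      (fun g => (ψ : W → ℂ) g * conj ((ψ : W → ℂ) g)) (f := fun g => π g * conj (π g))
      (fun n g => by simp only [hcon])
    rw [show avgN B (fun g => (ψ : W → ℂ) g * conj ((ψ : W → ℂ) g)) = fun _ => 1 from
      pairAvg_self B (irr_isCharacter ψ) hψB] at h
    rw [← classInner_irr_self hπ]
    unfold classInner at h ⊢
    refine Eq.trans ?_ (h.symm.trans ?_)
    · congr 1
      exact Finset.sum_congr rfl fun g _ => by simp; ring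
    · congr 1
      exact Finset.sum_congr rfl fun g _ => by simp; ring
  by_contra hne
  have hirr : IsIrrCharacter W ((ψ : W → ℂ) * π) := (isIrrCharacter_iff_classInner_self hprodc).2 e2
  rw [classInner_irr_ne χ.2 hirr (fun h' => hne (h'.trans (funext fun g => by
    rw [CfsgLib.CharIto.coe_linearHom]; rfl)))] at e1
  exact zero_ne_one e1

end CfsgLib.Blk4.Gallagher
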