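import Cfsg.Agent.Lib.Blocks.PrincipalSq
import Cfsg.Agent.Lib.Blocks.RootsMod
import Cfsg.Agent.Lib.Blocks.WeakOrth
import Cfsg.Agent.Lib.BlockCover.Basic
import Cfsg.Agent.Lib.Characters.NormalAvg
import Cfsg.Agent.Lib.Characters.ExtensionUnique
import Cfsg.Agent.Lib.Characters.Ramified
import Cfsg.Agent.Lib.Chars17.IrrBasic
import Cfsg.Agent.Lib.Characters.LocalBrauer
import Cfsg.Agent.Lib.Characters.LinearTwist
import Cfsg.Agent.Lib.Characters.Extension
import Cfsg.Agent.Lib.Involutions.ElementaryOdd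

/-!
# The principal blocks of `G` and of a normal subgroup of index prime to `p` covered by centralisers

If every coset of `N` contains an element whose class has size prime to `p` (for instance when
`G = N C_G(P)`, `P` a Sylow `p`-subgroup) then restriction is a bijection between the principal
blocks (Alperin, Dade).
-/

set_option autoImplicit false
set_option linter.unusedSectionVars false
set_option linter.style.haveILetI false

noncomputable section

namespace CfsgLib.Blk4.AlperinDade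

open Cfsg CfsgLib.Characters CfsgLib.Blocks CfsgLib.PrincipalSq
open scoped ComplexConjugate

universe u

variable {p : ℕ} {M : Ideal AlgInt}

/-- Every coset of `N` has an element with class size prime to `p`. -/
def Good (p : ℕ) {G : Type u} [Group G] (N : Subgroup G) : Prop :=
  ∀ c : G, ∃ g : G, c⁻¹ * g ∈ N ∧ ¬ p ∣ (Subgroup.centralizer ({g} : Set G)).index

variable {G : Type u} [Group G]

theorem good_of_sylow [Fact p.Prime] [Finite G] (N : Subgroup G) [N.Normal] (P : Sylow p G)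
    (hsup : N ⊔ Subgroup.centralizer ((P : Subgroup G) : Set G) = ⊤) : Good p N := by
  intro c
  have hc : c ∈ N ⊔ Subgroup.centralizer ((P : Subgroup G) : Set G) := hsup ▸ Subgroup.mem_top c
  obtain ⟨n, hn, z, hz, rfl⟩ := Subgroup.mem_sup_of_normal_left.1 hc
  refine ⟨z, ?_, fun h => P.not_dvd_index (h.trans (Subgroup.index_dvd_of_le fun x hx => ?_))⟩
  · have := ‹N.Normal›.conj_mem n⁻¹ (N.inv_mem hn) z⁻¹
    simpa [mul_assoc] using this
  · exact Subgroup.mem_centralizer_singleton_iff.2 (Subgroup.mem_centralizer_iff.1 hz x hx)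

/-- A `p'` class of `G` stays a `p'` class in an intermediate subgroup. -/
theorem not_dvd_index_centralizer_subgroup [Finite G] [Fact p.Prime] (N : Subgroup G) [N.Normal]
    (hidx : ¬ p ∣ N.index) {Q : Subgroup G} (hNQ : N ≤ Q) (g : Q)
    (hg : ¬ p ∣ (Subgroup.centralizer ({(g : G)} : Set G)).index) :
    ¬ p ∣ (Subgroup.centralizer ({g} : Set Q)).index := by
  set C := Subgroup.centralizer ({(g : G)} : Set G)
  have he : C.subgroupOf Q = Subgroup.centralizer ({g} : Set Q) := by
    ext x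
    simp [C, Subgroup.mem_subgroupOf, Subgroup.mem_centralizer_singleton_iff, Subtype.ext_iff]
  rw [← he]
  intro h
  have h1 : C.relIndex Q ∣ (C ⊓ N).index :=
    (Subgroup.relIndex_dvd_of_le_left Q inf_le_left).trans
      ⟨Q.index, (Subgroup.relIndex_mul_index (inf_le_right.trans hNQ)).symm⟩
  have h2 : N.relIndex C * C.index = (C ⊓ N).index := by
    rw [← Subgroup.inf_relIndex_left, Subgroup.relIndex_mul_index inf_le_left]
  rw [← h2] at h1
  rcases (Fact.out : p.Prime).dvd_mul.1 (h.trans h1) with h3 | h3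
  · exact hidx (h3.trans (Subgroup.relIndex_dvd_index_of_normal N C))
  · exact hg h3

theorem good_subgroupOf [Finite G] [Fact p.Prime] (N : Subgroup G) [N.Normal]
    (hidx : ¬ p ∣ N.index) (hG : Good p N) {Q : Subgroup G} (hNQ : N ≤ Q) :
    Good p (N.subgroupOf Q) := by
  intro c
  obtain ⟨g, hcg, hg⟩ := hG (c : G)
  have hgQ : g ∈ Q := by
    have := Q.mul_mem c.2 (hNQ hcg)
    rwa [mul_inv_cancel_left] at this
  exact ⟨⟨g, hgQ⟩, hcg, not_dvd_index_centralizer_subgroup N hidx hNQ _ hg⟩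

theorem not_dvd_index_subgroupOf (N : Subgroup G) (hidx : ¬ p ∣ N.index) {Q : Subgroup G}
    (hNQ : N ≤ Q) : ¬ p ∣ (N.subgroupOf Q).index :=
  fun h => hidx (h.trans ⟨Q.index, (Subgroup.relIndex_mul_index hNQ).symm⟩)

/-- The normalised value at `g` is congruent to one. -/
def Congr1 (M : Ideal AlgInt) (χ : G → ℂ) (g : G) : Prop := MemLocalIdeal M (χ g / χ 1 - 1)

theorem congr_of_principal [Finite G] (hM : IsPModular p M) (χ : IrrCharacter G)
    (hχ : χ ∈ principalBlock M G) {g : G}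
    (hg : ¬ p ∣ (Subgroup.centralizer ({g} : Set G)).index) : Congr1 M (χ : G → ℂ) g := by
  have h := hχ g
  rw [centralChar_principal] at h
  set K := (Subgroup.centralizer ({g} : Set G)).index
  have hK : (K : ℂ) ≠ 0 := Nat.cast_ne_zero.2 fun h0 => hg (by rw [h0]; exact dvd_zero p)
  have h2 := MemLocalIdeal.mul_left hM (x := -(K : ℂ)⁻¹)
    (neg_mem (s := lRing hM) (inv_natCast_mem_lRing hM hg)) h
  unfold Congr1
  convert h2 using 1
  rw [centralChar]
  field_simp
  ring

theorem eq_one_of_congr (hM : IsPModular p M) {z : ℂ} {n : ℕ} (hn : ¬ p ∣ n) (hz : z ^ n = 1)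
    (h : MemLocalIdeal M (z - 1)) : z = 1 := by
  have hi : IsIntegral ℤ z := IsIntegral.of_pow
    (n := n) (Nat.pos_of_ne_zero fun h0 => hn (by rw [h0]; exact dvd_zero p)) (by rw [hz]; exact isIntegral_one)
  set a : AlgInt := ⟨z, hi⟩
  have h1 : a - 1 ∈ M := (memLocalIdeal_coe_iff hM (a - 1)).1 (by simpa [a] using h)
  have h2 := rootOfUnity_eq_one_of_mem hM hn (Subtype.ext (by simpa [a] using hz) : a ^ n = 1) h1
  simpa [a] using congrArg Subtype.val h2

/-- A homomorphism trivial on `N` is one where two twisted values are both congruent to one. -/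
theorem hom_eq_one_of_congr (hM : IsPModular p M) (N : Subgroup G) [N.Normal]
    (hidx : ¬ p ∣ N.index) (α : G →* ℂˣ) (hα : ∀ n : N, α n = 1) {φ ψ : G → ℂ}
    (hφψ : ∀ x, ψ x = (α x : ℂ) * φ x) {g : G} (h1 : Congr1 M φ g) (h2 : Congr1 M ψ g) :
    α g = 1 := by
  have hz : ((α g : ℂˣ) : ℂ) ^ N.index = 1 := by
    rw [← Units.val_pow_eq_pow_val, ← map_pow, hα ⟨_, N.pow_index_mem g⟩, Units.val_one]
  refine Units.ext (eq_one_of_congr hM hidx hz ?_)
  have hmem : ((α g : ℂˣ) : ℂ) ∈ lRing hM := isIntegral_mem_lRing hM (IsIntegral.of_pow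
    (n := N.index) (Nat.pos_of_ne_zero fun h0 => hidx (by rw [h0]; exact dvd_zero p)) (by rw [hz]; exact isIntegral_one))
  have h3 := MemLocalIdeal.sub hM h2 (MemLocalIdeal.mul_left hM hmem h1)
  convert h3 using 1
  rw [hφψ g, hφψ 1, map_one, Units.val_one, one_mul]
  ring

/-- Two extensions with congruent values on every coset coincide. -/
theorem eq_of_congr [Finite G] (hM : IsPModular p M) (N : Subgroup G) [N.Normal]
    (hidx : ¬ p ∣ N.index) {θ : N → ℂ} (hθ : IsIrrCharacter N θ) (φ ψ : IrrCharacter G)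
    (hφ : ∀ n : N, (φ : G → ℂ) n = θ n) (hψ : ∀ n : N, (ψ : G → ℂ) n = θ n)
    (h : ∀ c : G, ∃ g : G, c⁻¹ * g ∈ N ∧ Congr1 M (φ : G → ℂ) g ∧ Congr1 M (ψ : G → ℂ) g) :
    φ = ψ := by
  obtain ⟨d, ρ, hρ, rfl⟩ := hθ
  haveI := hρ
  obtain ⟨s, hs, hsφ⟩ := CfsgLib.CharExtension.exists_hom_of_char_top N ρ (irr_isCharacter φ) hφ
  obtain ⟨t, ht, htψ⟩ := CfsgLib.CharExtension.exists_hom_of_char_top N ρ (irr_isCharacter ψ) hψ
  obtain ⟨α, hα, hαN⟩ := CfsgLib.CharExtension.exists_twist N ρ hs ht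
  have hrel : ∀ x, (ψ : G → ℂ) x = (α x : ℂ) * (φ : G → ℂ) x := fun x => by
    rw [← hsφ, ← htψ]
    show LinearMap.trace ℂ _ ((t x : _) : Module.End ℂ (Fin d → ℂ)) =
      (α x : ℂ) * LinearMap.trace ℂ _ ((s x : _) : Module.End ℂ (Fin d → ℂ))
    rw [hα x, Units.val_mul]
    show LinearMap.trace ℂ _ (algebraMap ℂ (Module.End ℂ (Fin d → ℂ)) (α x : ℂ) * _) = _
    rw [Algebra.algebraMap_eq_smul_one, smul_mul_assoc, one_mul, map_smul, smul_eq_mul]
  refine Subtype.ext (funext fun c => ?_)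
  obtain ⟨g, hcg, h1, h2⟩ := h c
  have hg := hom_eq_one_of_congr hM N hidx α hαN hrel h1 h2
  have hc : α c = 1 := by
    have : α g = α c := by
      conv_lhs => rw [show g = c * (c⁻¹ * g) by group]
      rw [map_mul, hαN ⟨_, hcg⟩, mul_one]
    rw [← this, hg]
  rw [hrel c, hc, Units.val_one, one_mul]

section Finite

variable [Fintype G] [Fact p.Prime] (hM : IsPModular p M) (N : Subgroup G) [N.Normal] [Fintype N]
  (hidx : ¬ p ∣ N.index) (hgood : Good p N)

include hM hidx hgood

/-- The only member of the principal block with `N` in its kernel is the principal character. -/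
theorem eq_principal_of_const (χ : IrrCharacter G) (hχ : χ ∈ principalBlock M G)
    (hN : ∀ x ∈ N, (χ : G → ℂ) x = (χ : G → ℂ) 1) : χ = principalIrr G := by
  classical
  have hle : N ≤ CfsgLib.Chars17.irrKer χ := fun x hx => hN x hx
  obtain ⟨π, hπ⟩ := CfsgLib.Chars17.exists_infl_eq N hle
  have hval : ∀ g : G, (π : G ⧸ N → ℂ) (g : G ⧸ N) = (χ : G → ℂ) g := fun g => by
    rw [← hπ, CfsgLib.Chars17.infl_apply]
  have hπB : π ∈ principalBlock M (G ⧸ N) := by
    intro q
    obtain ⟨c, rfl⟩ := QuotientGroup.mk_surjective q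
    obtain ⟨g, hcg, hg⟩ := hgood c
    have hgc : (c : G ⧸ N) = (g : G ⧸ N) := QuotientGroup.eq.2 hcg
    rw [hgc, centralChar_principal, centralChar, hval, ← QuotientGroup.mk_one, hval]
    have h1 := congr_of_principal hM χ hχ hg
    have h2 := MemLocalIdeal.mul_left hM
      (x := -(((Subgroup.centralizer ({(g : G ⧸ N)} : Set (G ⧸ N))).index : ℕ) : ℂ))
      (neg_mem (s := lRing hM) (natCast_mem _ _)) h1
    convert h2 using 1
    ring
  have hconst : ∀ g : G, (χ : G → ℂ) g = (χ : G → ℂ) 1 := fun g => by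
    have h := apply_eq_degree_of_coprime hM (⊤ : Subgroup (G ⧸ N)) (by
      rw [Subgroup.card_top, ← Subgroup.index_eq_card]; exact hidx) π hπB ⟨(g : G ⧸ N), trivial⟩
    rw [← hval g, ← hval 1, h]
    rfl
  by_contra hne
  have h := classInner_irr_ne χ.2 (principalIrr G).2 (fun h => hne (Subtype.ext h))
  rw [classInner] at h
  simp only [principalIrr_apply, map_one, mul_one, hconst, Finset.sum_const, Finset.card_univ,
    nsmul_eq_mul] at h
  rw [Nat.card_eq_fintype_card, inv_mul_cancel_left₀ (Nat.cast_ne_zero.2 Fintype.card_ne_zero)] at h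
  exact irr_one_ne_zero χ h

/-- The trivial character of `N` lies only under the principal character. -/
theorem eq_principal_of_over (χ : IrrCharacter G) (hχ : χ ∈ principalBlock M G)
    (h : classInner (fun n : N => (χ : G → ℂ) n) (fun _ => (1 : ℂ)) ≠ 0) : χ = principalIrr G := by
  have hres := CfsgLib.Ramified.res_eq_smul_of_invariant N χ.2 (θ := fun _ => (1 : ℂ))
    isIrrCharacter_one (fun _ _ => rfl) h
  refine eq_principal_of_const hM N hidx hgood χ hχ fun x hx => ?_
  have h1 := congrFun hres ⟨x, hx⟩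
  have h2 := congrFun hres 1
  simp only [Pi.smul_apply, smul_eq_mul, mul_one, OneMemClass.coe_one] at h1 h2
  exact h1.trans h2.symm

/-- Every member of the principal block of `N` lies under one of the principal block of `G`. -/
theorem exists_over (θ : IrrCharacter N) (hθ : θ ∈ principalBlock M N) :
    ∃ χ : IrrCharacter G, χ ∈ principalBlock M G ∧
      classInner (fun n : N => (χ : G → ℂ) n) (θ : N → ℂ) ≠ 0 := by
  classical
  haveI := Fintype.ofFinite (IrrCharacter G)
  set a := blockCoeff (principalBlock M G) with ha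
  set S := Finset.univ.filter (fun χ : IrrCharacter G => χ ∈ principalBlock M G)
  have hG0 : (Nat.card G : ℂ) ≠ 0 := Nat.cast_ne_zero.2 Nat.card_pos.ne'
  have hN0 : (Nat.card N : ℂ) ≠ 0 := Nat.cast_ne_zero.2 Nat.card_pos.ne'
  have key : ∀ η : N → ℂ, ∑ χ ∈ S, (χ : G → ℂ) 1 * classInner η (fun n : N => (χ : G → ℂ) n) =
      (N.index : ℂ) * ∑ n : N, a n * η n := by
    intro η
    calc ∑ χ ∈ S, (χ : G → ℂ) 1 * classInner η (fun n : N => (χ : G → ℂ) n)
        = (Nat.card N : ℂ)⁻¹ * ∑ n : N, (Nat.card G : ℂ) * (a n * η n) := by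
          simp only [ha, blockCoeff_eq_sum, classInner, Finset.mul_sum, Finset.sum_mul]
          rw [Finset.sum_comm]
          refine Finset.sum_congr rfl fun x _ => Finset.sum_congr (Finset.ext fun y => by simp [S])
            fun χ _ => ?_
          field_simp
      _ = _ := by
          rw [← Finset.mul_sum, ← mul_assoc, ← N.card_mul_index, Nat.cast_mul,
            inv_mul_cancel_left₀ hN0]
  -- the trivial character
  have h1 : (N.index : ℂ) * ∑ n : N, a n = 1 := by
    have h := key (fun _ => 1)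
    simp only [mul_one] at h
    rw [← h, Finset.sum_eq_single (principalIrr G)]
    · simp only [principalIrr_apply]
      rw [classInner_irr_self isIrrCharacter_one, mul_one]
    · intro χ hχ hne
      rw [Finset.mem_filter] at hχ
      by_cases h0 : classInner (fun _ : N => (1 : ℂ)) (fun n : N => (χ : G → ℂ) n) = 0
      · rw [h0, mul_zero]
      · refine absurd (eq_principal_of_over hM N hidx hgood χ hχ.2 fun h' => h0 ?_) hne
        rw [classInner_conj_symm, h', map_zero]
    · intro h'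
      refine absurd ?_ h'
      rw [Finset.mem_filter]
      exact ⟨Finset.mem_univ _, CfsgLib.Blocks.mem_blockOf_self hM (principalIrr G)⟩
  by_contra hcon
  push Not at hcon
  have h2 := key (θ : N → ℂ)
  rw [Finset.sum_eq_zero (fun χ hχ => by
    rw [classInner_conj_symm, hcon χ (Finset.mem_filter.1 hχ).2, map_zero, mul_zero]), eq_comm,
    mul_eq_zero] at h2
  have h3 : ∑ n : N, a n * (θ : N → ℂ) n = 0 :=
    h2.resolve_left (Nat.cast_ne_zero.2 Subgroup.index_ne_zero_of_finite)
  have hcong := CfsgLib.BlockCover.omega_congr hM (χ := principalIrr N) (ψ := θ) hθ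
    (f := fun n : N => a n) (fun n h => blockCoeff_conj _ _ _)
    (fun n => memLocalRing_blockCoeff hM (isPBlock_principalBlock M) _)
  simp only [principalIrr_apply, mul_one, div_one, h3, zero_div, sub_zero] at hcong
  have h4 := MemLocalIdeal.mul_left hM (x := (N.index : ℂ)) (natCast_mem (lRing hM) _) hcong
  rw [h1] at h4
  exact CfsgLib.Blocks.not_memLocalIdeal_one hM h4

end Finite

theorem sum_hom_apply {A : Type*} [CommGroup A] [Finite A] [Fintype (A →* ℂˣ)] (q : A)
    [Decidable (q = 1)] :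
    ∑ f : A →* ℂˣ, ((f q : ℂˣ) : ℂ) = if q = 1 then (Nat.card A : ℂ) else 0 := by
  split_ifs with h
  · subst h
    obtain ⟨e⟩ := CommGroup.monoidHom_mulEquiv_of_hasEnoughRootsOfUnity A ℂ
    simp [← Nat.card_eq_fintype_card, Nat.card_congr e.toEquiv]
  · obtain ⟨f₀, hf₀⟩ := CommGroup.exists_apply_ne_one_of_hasEnoughRootsOfUnity A ℂ h
    have h1 : ((f₀ q : ℂˣ) : ℂ) * ∑ f : A →* ℂˣ, ((f q : ℂˣ) : ℂ) =
        ∑ f : A →* ℂˣ, ((f q : ℂˣ) : ℂ) := by
      rw [Finset.mul_sum]
      exact Fintype.sum_equiv (Equiv.mulLeft f₀) _ _ fun f => by simp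
    by_contra hne
    exact hf₀ (Units.ext (mul_right_cancel₀ hne (by rw [h1, Units.val_one, one_mul])))

/-- Restriction is irreducible along an abelian quotient. -/
theorem abelian_step [Fintype G] [Fact p.Prime] (hM : IsPModular p M) (N : Subgroup G) [N.Normal]
    [Fintype N] (hidx : ¬ p ∣ N.index) (hgood : Good p N)
    (hab : ∀ a b : G ⧸ N, a * b = b * a) (χ : IrrCharacter G) (hχ : χ ∈ principalBlock M G) :
    IsIrrCharacter N (fun n : N => (χ : G → ℂ) n) := by
  classical
  letI : CommGroup (G ⧸ N) := { (inferInstance : Group (G ⧸ N)) with mul_comm := hab }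
  haveI := Fintype.ofFinite (G ⧸ N →* ℂˣ)
  have hC : IsCharacter N (fun n : N => (χ : G → ℂ) n) := by
    obtain ⟨χ, n, ρ, hρ, rfl⟩ := χ
    exact ⟨n, ρ.comp N.subtype, rfl⟩
  rw [isIrrCharacter_iff_classInner_self hC]
  have hF : ∀ f : G ⧸ N →* ℂˣ, f ≠ 1 → classInner
      (fun g => (χ : G → ℂ) g * (f (g : G ⧸ N) : ℂ)) (χ : G → ℂ) = 0 := by
    intro f hf
    refine classInner_irr_ne (CfsgLib.LinearTwist.isIrr_mul_hom χ.2 (f.comp (QuotientGroup.mk' N)))
      χ.2 fun heq => hf ?_
    refine MonoidHom.ext fun q => ?_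
    obtain ⟨c, rfl⟩ := QuotientGroup.mk_surjective q
    obtain ⟨g, hcg, hg⟩ := hgood c
    rw [show (c : G ⧸ N) = (g : G ⧸ N) from QuotientGroup.eq.2 hcg, MonoidHom.one_apply]
    have h1 := congr_of_principal hM χ hχ hg
    exact hom_eq_one_of_congr hM N hidx (f.comp (QuotientGroup.mk' N))
      (fun n => by simp [(QuotientGroup.eq_one_iff (n : G)).2 n.2])
      (φ := (χ : G → ℂ)) (ψ := (χ : G → ℂ))
      (fun x => by rw [mul_comm]; exact (congrFun heq x).symm) h1 h1
  have h1 : classInner (fun n : N => (χ : G → ℂ) n) (fun n : N => (χ : G → ℂ) n) =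
      ∑ f : G ⧸ N →* ℂˣ, classInner (fun g => (χ : G → ℂ) g * (f (g : G ⧸ N) : ℂ)) (χ : G → ℂ) := by
    simp only [classInner]
    rw [← Finset.mul_sum, Finset.sum_comm]
    have e : ∀ g : G, ∑ f : G ⧸ N →* ℂˣ,
        (χ : G → ℂ) g * (f (g : G ⧸ N) : ℂ) * conj ((χ : G → ℂ) g) =
        if g ∈ N then (N.index : ℂ) * ((χ : G → ℂ) g * conj ((χ : G → ℂ) g)) else 0 := by
      intro g
      have : ∑ f : G ⧸ N →* ℂˣ, (χ : G → ℂ) g * (f (g : G ⧸ N) : ℂ) * conj ((χ : G → ℂ) g) =
          (∑ f : G ⧸ N →* ℂˣ, (f (g : G ⧸ N) : ℂ)) * ((χ : G → ℂ) g * conj ((χ : G → ℂ) g)) := by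
        rw [Finset.sum_mul]
        exact Finset.sum_congr rfl fun f _ => by ring
      rw [this, sum_hom_apply, ite_mul, zero_mul, ← Subgroup.index_eq_card]
      exact if_congr (QuotientGroup.eq_one_iff g) rfl rfl
    rw [Finset.sum_congr rfl (fun g _ => e g), ← Finset.sum_filter,
      Finset.sum_subtype (p := fun g => g ∈ N) _ (by simp), ← Finset.mul_sum, ← mul_assoc,
      ← N.card_mul_index, Nat.cast_mul]
    congr 1
    rw [mul_inv, mul_assoc, inv_mul_cancel₀ (Nat.cast_ne_zero.2 Subgroup.index_ne_zero_of_finite),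
      mul_one]
  rw [h1, Finset.sum_eq_single (1 : G ⧸ N →* ℂˣ) (fun f _ hf => hF f hf) (fun h => absurd (Finset.mem_univ _) h)]
  simp only [MonoidHom.one_apply, Units.val_one, mul_one]
  exact classInner_irr_self χ.2

theorem principal_subgroupOf [Finite G] {K : Subgroup G} {N : Subgroup G} [Fintype K] (h : N ≤ K)
    [Fintype (N.subgroupOf K)] [Fintype N] (θ : IrrCharacter N) (hθ : θ ∈ principalBlock M N) :
    ∃ θ' : IrrCharacter (N.subgroupOf K), θ' ∈ principalBlock M (N.subgroupOf K) ∧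
      ∀ x : N.subgroupOf K, (θ' : N.subgroupOf K → ℂ) x = (θ : N → ℂ) ⟨((x : K) : G), x.2⟩ :=
  ⟨CfsgLib.CharCorr.twistIrr (Subgroup.subgroupOfEquivOfLe h) θ,
    fun g => CfsgLib.BlockCover.sameBlock_twistIrr (Subgroup.subgroupOfEquivOfLe h)
      (χ := principalIrr N) (ψ := θ) hθ g, fun _ => rfl⟩

theorem isSolvable_quotient_subgroupOf (N K : Subgroup G) [N.Normal]
    [Group.IsSolvable (G ⧸ N)] : Group.IsSolvable (K ⧸ N.subgroupOf K) := by
  refine Group.isSolvable_of_isSolvable_injective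
    (f := QuotientGroup.map (N.subgroupOf K) N K.subtype fun x hx => hx) ?_
  rw [← MonoidHom.ker_eq_bot_iff, eq_bot_iff]
  intro q hq
  obtain ⟨x, rfl⟩ := QuotientGroup.mk_surjective q
  rw [MonoidHom.mem_ker] at hq
  change ((x : G) : G ⧸ N) = 1 at hq
  exact (QuotientGroup.eq_one_iff x).2 ((QuotientGroup.eq_one_iff (x : G)).1 hq)

/-- Extensions along a solvable quotient. -/
theorem solvable_ext (hM : IsPModular p M) [Fact p.Prime] :
    ∀ (n : ℕ) (G : Type u) [Group G] [Fintype G] (N : Subgroup G) [N.Normal] [Fintype N],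
      N.index = n → ¬ p ∣ N.index → Good p N → Group.IsSolvable (G ⧸ N) →
      ∀ θ : IrrCharacter N, θ ∈ principalBlock M N →
      ∃ φ : IrrCharacter G, φ ∈ principalBlock M G ∧ ∀ x : N, (φ : G → ℂ) x = (θ : N → ℂ) x := by
  intro n
  induction n using Nat.strong_induction_on with
  | _ n ih =>
  intro G _ _ N _ _ hn hidx hgood hsol θ hθ
  classical
  by_cases htop : N = ⊤
  · obtain ⟨φ, hφ, hover⟩ := exists_over hM N hidx hgood θ hθ
    have hab : ∀ a b : G ⧸ N, a * b = b * a := by
      intro a b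
      obtain ⟨a, rfl⟩ := QuotientGroup.mk_surjective a
      obtain ⟨b, rfl⟩ := QuotientGroup.mk_surjective b
      rw [← QuotientGroup.mk_mul, ← QuotientGroup.mk_mul, QuotientGroup.eq]
      exact htop ▸ Subgroup.mem_top _
    refine ⟨φ, hφ, fun x => ?_⟩
    by_contra hne
    exact hover (classInner_irr_ne (abelian_step hM N hidx hgood hab φ hφ) θ.2
      fun e => hne (congrFun e x))
  · set K := N ⊔ commutator G
    have hNK : N ≤ K := le_sup_left
    have hKn : K.Normal := Subgroup.sup_normal N (commutator G)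
    have hKtop : K ≠ ⊤ := by
      intro hK
      have h1 : commutator (G ⧸ N) = ⊤ := by
        rw [_root_.commutator_def, ← Subgroup.map_top_of_surjective (QuotientGroup.mk' N)
          (QuotientGroup.mk'_surjective N), ← Subgroup.map_commutator, ← _root_.commutator_def]
        have := congrArg (Subgroup.map (QuotientGroup.mk' N)) hK
        rw [Subgroup.map_sup, QuotientGroup.map_mk'_self, bot_sup_eq] at this
        exact this
      haveI : Nontrivial (G ⧸ N) := QuotientGroup.nontrivial_iff.2 htop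
      exact (Group.IsSolvable.commutator_lt_top_of_nontrivial (G ⧸ N)).ne h1
    have hidxK : ¬ p ∣ K.index := fun h => hidx (h.trans (Subgroup.index_dvd_of_le hNK))
    have hgoodK : Good p K := fun c => (hgood c).imp fun g hg => ⟨hNK hg.1, hg.2⟩
    have habK : ∀ a b : G ⧸ K, a * b = b * a := fun a b =>
      ((Subgroup.Normal.quotient_commutative_iff_commutator_le (N := K)).2 le_sup_right).1.1 a b
    have hlt : (N.subgroupOf K).index < n := by
      have h1 : N.relIndex K * K.index = n := hn ▸ Subgroup.relIndex_mul_index hNK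
      have h2 : 1 < K.index := Nat.one_lt_iff_ne_zero_and_ne_one.2
        ⟨Subgroup.index_ne_zero_of_finite, fun h => hKtop (Subgroup.index_eq_one.1 h)⟩
      have h3 : N.relIndex K ≠ 0 := Subgroup.index_ne_zero_of_finite
      show N.relIndex K < n
      calc N.relIndex K = N.relIndex K * 1 := (mul_one _).symm
        _ < N.relIndex K * K.index := Nat.mul_lt_mul_of_pos_left h2 (Nat.pos_of_ne_zero h3)
        _ = n := h1
    obtain ⟨θ', hθ', hθ'v⟩ := principal_subgroupOf (K := K) hNK θ hθ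
    obtain ⟨ψ, hψ, hψv⟩ := ih _ hlt K (N.subgroupOf K) rfl (not_dvd_index_subgroupOf N hidx hNK)
      (good_subgroupOf N hidx hgood hNK) (isSolvable_quotient_subgroupOf N K) θ' hθ'
    obtain ⟨φ, hφ, hover⟩ := exists_over hM K hidxK hgoodK ψ hψ
    have hres : (fun k : K => (φ : G → ℂ) k) = (ψ : K → ℂ) := by
      by_contra hne
      exact hover (classInner_irr_ne (abelian_step hM K hidxK hgoodK habK φ hφ) ψ.2 hne)
    refine ⟨φ, hφ, fun x => ?_⟩
    have h1 := congrFun hres ⟨x, hNK x.2⟩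
    have h2 := hψv ⟨⟨x, hNK x.2⟩, x.2⟩
    rw [hθ'v] at h2
    exact h1.trans h2

section Canonical

variable [Fintype G] [Fact p.Prime]

/-- The canonical extension of `θ` to a subgroup `Q` above `N`. -/
def IsCan (p : ℕ) (M : Ideal AlgInt) (N : Subgroup G) (θ : N → ℂ) (Q : Subgroup G)
    (F : Q → ℂ) : Prop :=
  IsIrrCharacter Q F ∧ (∀ (x : Q) (h : (x : G) ∈ N), F x = θ ⟨x, h⟩) ∧
    ∀ x : Q, ¬ p ∣ (Subgroup.centralizer ({(x : G)} : Set G)).index → Congr1 M F x

theorem exists_can (hM : IsPModular p M) (N : Subgroup G) [N.Normal] [Fintype N]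
    (hidx : ¬ p ∣ N.index) (hgood : Good p N) (θ : IrrCharacter N) (hθ : θ ∈ principalBlock M N)
    (Q : Subgroup G) (hNQ : N ≤ Q) (hsol : Group.IsSolvable (Q ⧸ N.subgroupOf Q)) :
    ∃ F : IrrCharacter Q, F ∈ principalBlock M Q ∧ IsCan p M N (θ : N → ℂ) Q (F : Q → ℂ) := by
  classical
  haveI := Fintype.ofFinite Q
  haveI := Fintype.ofFinite (N.subgroupOf Q)
  obtain ⟨θ', hθ', hθ'v⟩ := principal_subgroupOf (K := Q) hNQ θ hθ
  obtain ⟨F, hF, hFv⟩ := solvable_ext hM _ Q (N.subgroupOf Q) rfl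
    (not_dvd_index_subgroupOf N hidx hNQ) (good_subgroupOf N hidx hgood hNQ) hsol θ' hθ'
  exact ⟨F, hF, F.2, fun x h => (hFv ⟨x, h⟩).trans (hθ'v ⟨x, h⟩), fun x hx =>
    congr_of_principal hM F hF (not_dvd_index_centralizer_subgroup N hidx hNQ x hx)⟩

theorem can_unique (hM : IsPModular p M) (N : Subgroup G) [N.Normal]
    (hidx : ¬ p ∣ N.index) (hgood : Good p N) {θ : N → ℂ} (hθ : IsIrrCharacter N θ)
    {Q : Subgroup G} (hNQ : N ≤ Q) {F F' : Q → ℂ} (hF : IsCan p M N θ Q F)
    (hF' : IsCan p M N θ Q F') : F = F' := by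
  refine congrArg Subtype.val (eq_of_congr hM (N.subgroupOf Q)
    (not_dvd_index_subgroupOf N hidx hNQ)
    (CfsgLib.CharCorr.isIrrCharacter_comp_equiv hθ (Subgroup.subgroupOfEquivOfLe hNQ))
    ⟨F, hF.1⟩ ⟨F', hF'.1⟩ (fun n => hF.2.1 n n.2) (fun n => hF'.2.1 n n.2) fun c => ?_)
  obtain ⟨g, hcg, hg⟩ := hgood (c : G)
  have hgQ : g ∈ Q := by
    have := Q.mul_mem c.2 (hNQ hcg)
    rwa [mul_inv_cancel_left] at this
  exact ⟨⟨g, hgQ⟩, hcg, hF.2.2 ⟨g, hgQ⟩ hg, hF'.2.2 ⟨g, hgQ⟩ hg⟩

theorem can_transport (N : Subgroup G) [hN : N.Normal] {θ : N → ℂ} (hθ : IsIrrCharacter N θ)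
    (hinv : ∀ (a : G) (n : N), θ ⟨a * n * a⁻¹, hN.conj_mem (n : G) n.2 a⟩ = θ n)
    {Q Q' : Subgroup G} (hNQ' : N ≤ Q') (a : G) (f : Q' →* Q)
    (hf : ∀ x : Q', (f x : G) = a * x * a⁻¹) {F : Q → ℂ} (hF : IsCan p M N θ Q F) :
    IsCan p M N θ Q' (fun x => F (f x)) := by
  have hN' : ∀ (x : Q') (h : (x : G) ∈ N), F (f x) = θ ⟨x, h⟩ := fun x h => by
    have hm : (f x : G) ∈ N := by rw [hf]; exact hN.conj_mem _ h a
    rw [hF.2.1 (f x) hm, ← hinv a ⟨x, h⟩]
    exact congrArg θ (Subtype.ext (hf x))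
  refine ⟨?_, hN', fun x hx => ?_⟩
  · refine CfsgLib.CharExtension.isIrrCharacter_of_restrict (N.subgroupOf Q')
      (CfsgLib.Clifford.isCharacter_pullback (isCharacter_of_irr hF.1) f) ?_
    rw [show (fun n : N.subgroupOf Q' => F (f n)) = θ ∘ Subgroup.subgroupOfEquivOfLe hNQ' from
      funext fun n => hN' n n.2]
    exact CfsgLib.CharCorr.isIrrCharacter_comp_equiv hθ _
  · have h1 : ¬ p ∣ (Subgroup.centralizer ({(f x : G)} : Set G)).index := by
      rw [hf]
      have := CfsgLib.BlockCover.index_centralizer_map (MulAut.conj a) (x : G)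
      rw [MulAut.conj_apply] at this
      rwa [this]
    have h2 := hF.2.2 (f x) h1
    unfold Congr1 at h2 ⊢
    simp only [map_one]
    exact h2

/-- A solvable subgroup gives a solvable quotient of its join with `N`. -/
theorem isSolvable_sup_quotient (N E : Subgroup G) [N.Normal] [Group.IsSolvable E] :
    Group.IsSolvable (↥(N ⊔ E) ⧸ N.subgroupOf (N ⊔ E)) := by
  refine Group.isSolvable_of_surjective (f := (QuotientGroup.mk' (N.subgroupOf (N ⊔ E))).comp
    (Subgroup.inclusion (le_sup_right : E ≤ N ⊔ E))) fun q => ?_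
  obtain ⟨x, rfl⟩ := QuotientGroup.mk_surjective q
  obtain ⟨n, hn, e, he, hne⟩ := Subgroup.mem_sup_of_normal_left.1 x.2
  refine ⟨⟨e, he⟩, ?_⟩
  simp only [MonoidHom.comp_apply, QuotientGroup.mk'_apply, QuotientGroup.eq,
    Subgroup.mem_subgroupOf]
  have := ‹N.Normal›.conj_mem n hn e⁻¹
  simpa [← hne, mul_assoc] using this

instance isSolvable_zpowers (g : G) : Group.IsSolvable (Subgroup.zpowers g) :=
  Group.isSolvable_of_comm fun a b => by
    obtain ⟨i, hi⟩ := Subgroup.mem_zpowers_iff.1 a.2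
    obtain ⟨j, hj⟩ := Subgroup.mem_zpowers_iff.1 b.2
    exact Subtype.ext (by rw [Subgroup.coe_mul, Subgroup.coe_mul, ← hi, ← hj, ← zpow_add,
      ← zpow_add, add_comm])

theorem relIndex_eq_of_le_sup (N C H : Subgroup G) [N.Normal] (hNH : N ≤ H)
    (hH : (H ⊓ C) ⊔ N = H) :
    C.relIndex H = C.relIndex N ∧ C.relIndex N ∣ C.index := by
  have e : ∀ A B : Subgroup G, A.relIndex B * B.index = B.relIndex A * A.index := fun A B => by
    rw [← Subgroup.inf_relIndex_right A B, Subgroup.relIndex_mul_index inf_le_right,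
      ← Subgroup.inf_relIndex_left A B, Subgroup.relIndex_mul_index inf_le_left]
  have h1 : N.relIndex C = N.relIndex H * H.relIndex C := by
    have h2 : N.relIndex H = N.relIndex (H ⊓ C) := by
      conv_lhs => rw [← hH, Subgroup.relIndex_sup_right]
    rw [h2, ← Subgroup.inf_relIndex_right N C, ← Subgroup.inf_relIndex_right H C,
      ← Subgroup.relIndex_mul_relIndex (N ⊓ C) (H ⊓ C) C (inf_le_inf_right C hNH) inf_le_right,
      ← Subgroup.inf_relIndex_right (N ⊓ C) (H ⊓ C), ← Subgroup.inf_relIndex_right N (H ⊓ C)]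
    congr 2
    apply le_antisymm
    · exact le_inf (inf_le_inf_right _ inf_le_left |>.trans inf_le_left) inf_le_right
    · exact le_inf (le_inf inf_le_left (inf_le_right.trans inf_le_right)) inf_le_right
  have h0 := e C H
  have h3 := e C N
  have h4 := Subgroup.relIndex_mul_index hNH
  refine ⟨?_, ?_⟩
  · refine Nat.eq_of_mul_eq_mul_right (Nat.pos_of_ne_zero
      (Subgroup.index_ne_zero_of_finite (H := N))) ?_
    calc C.relIndex H * N.index = N.relIndex H * (C.relIndex H * H.index) := by rw [← h4]; ring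
      _ = N.relIndex C * C.index := by rw [h0, h1]; ring
      _ = C.relIndex N * N.index := h3.symm
  · obtain ⟨k, hk⟩ := Subgroup.relIndex_dvd_index_of_normal N C
    refine ⟨k, Nat.eq_of_mul_eq_mul_left (Nat.pos_of_ne_zero (show N.relIndex C ≠ 0 from
      Subgroup.index_ne_zero_of_finite)) ?_⟩
    rw [← h3, hk]; ring

variable (hM : IsPModular p M) (N : Subgroup G) [hN : N.Normal] [Fintype N]
  (hidx : ¬ p ∣ N.index) (hgood : Good p N) (θ : IrrCharacter N) (hθ : θ ∈ principalBlock M N)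

include hM hidx hgood hθ

/-- A member of the principal block of `N` is invariant. -/
theorem invariant (a : G) (n : N) :
    (θ : N → ℂ) ⟨a * n * a⁻¹, hN.conj_mem (n : G) n.2 a⟩ = (θ : N → ℂ) n := by
  obtain ⟨F, -, -, hFN, -⟩ := exists_can hM N hidx hgood θ hθ (N ⊔ Subgroup.zpowers a) le_sup_left
    (isSolvable_sup_quotient N _)
  have h1 := hFN ⟨(n : G), Subgroup.mem_sup_left n.2⟩ n.2
  have h2 := irr_isClassFunction F ⟨(n : G), Subgroup.mem_sup_left n.2⟩
    ⟨a, Subgroup.mem_sup_right (Subgroup.mem_zpowers a)⟩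
  rw [h1, hFN _ (hN.conj_mem (n : G) n.2 a)] at h2
  exact h2

/-- Restriction is surjective on principal blocks. -/
theorem exists_extension :
    ∃ η : IrrCharacter G, η ∈ principalBlock M G ∧ ∀ n : N, (η : G → ℂ) n = (θ : N → ℂ) n := by
  classical
  choose F hFB hF using fun g : G => exists_can hM N hidx hgood θ hθ (N ⊔ Subgroup.zpowers g)
    le_sup_left (isSolvable_sup_quotient N (Subgroup.zpowers g))
  let η : G → ℂ := fun g => (F g : ↥(N ⊔ Subgroup.zpowers g) → ℂ) ⟨g, Subgroup.mem_sup_right (Subgroup.mem_zpowers g)⟩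
  have hinv := invariant hM N hidx hgood θ hθ
  have key : ∀ (Q : Subgroup G), N ≤ Q → ∀ (R : Q → ℂ), IsCan p M N (θ : N → ℂ) Q R →
      ∀ (g : G) (hg : g ∈ Q), η g = R ⟨g, hg⟩ := by
    intro Q hNQ R hR g hg
    have hle : N ⊔ Subgroup.zpowers g ≤ Q := sup_le hNQ (Subgroup.zpowers_le.2 hg)
    exact congrFun (can_unique hM N hidx hgood θ.2 le_sup_left (hF g)
      (can_transport N θ.2 hinv le_sup_left 1 (Subgroup.inclusion hle) (fun x => by simp) hR))
      ⟨g, Subgroup.mem_sup_right (Subgroup.mem_zpowers g)⟩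
  have hηN : ∀ n : N, η n = (θ : N → ℂ) n := fun n =>
    (hF (n : G)).2.1 ⟨n, Subgroup.mem_sup_right (Subgroup.mem_zpowers (n : G))⟩ n.2
  have hcl : IsClassFunction G η := by
    intro g a
    have hmem : ∀ x ∈ N ⊔ Subgroup.zpowers (a * g * a⁻¹), a⁻¹ * x * a⁻¹⁻¹ ∈ N ⊔ Subgroup.zpowers g := by
      intro x hx
      have hle : N ⊔ Subgroup.zpowers (a * g * a⁻¹) ≤
          (N ⊔ Subgroup.zpowers g).comap (MulAut.conj a⁻¹).toMonoidHom := by
        refine sup_le (fun y hy => Subgroup.mem_sup_left ?_) (Subgroup.zpowers_le.2 ?_)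
        · exact hN.conj_mem y hy a⁻¹
        · refine Subgroup.mem_sup_right ?_
          simp [mul_assoc]
      simpa using hle hx
    let f : ↥(N ⊔ Subgroup.zpowers (a * g * a⁻¹)) →* ↥(N ⊔ Subgroup.zpowers g) :=
      ((MulAut.conj a⁻¹).toMonoidHom.comp (N ⊔ Subgroup.zpowers (a * g * a⁻¹)).subtype).codRestrict
        _ fun x => by simpa using hmem x x.2
    rw [key _ le_sup_left _ (can_transport N θ.2 hinv le_sup_left a⁻¹ f
      (fun x => by simp [f]) (hF g)) (a * g * a⁻¹) (Subgroup.mem_sup_right (Subgroup.mem_zpowers _))]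
    exact congrArg (F g : ↥(N ⊔ Subgroup.zpowers g) → ℂ) (Subtype.ext (by simp [f, mul_assoc]))
  have hgen : IsGeneralizedCharacter G η := by
    refine CfsgLib.BrauerInd.isGeneralizedCharacter_of_elementary hcl fun q E hq hE => ?_
    haveI := CfsgLib.Involutions.isNilpotent_of_isElementary hq hE
    obtain ⟨R, -, hR⟩ := exists_can hM N hidx hgood θ hθ (N ⊔ E) le_sup_left
      (isSolvable_sup_quotient N E)
    rw [show (fun y : E => η y) =
      fun y => (R : ↥(N ⊔ E) → ℂ) (Subgroup.inclusion (le_sup_right : E ≤ N ⊔ E) y) from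
      funext fun y => key _ le_sup_left _ hR y (Subgroup.mem_sup_right y.2)]
    exact isGeneralizedCharacter_of_isCharacter
      (CfsgLib.Clifford.isCharacter_pullback (irr_isCharacter R) _)
  have havg : ∀ g : G, ∑ n : N, η ((n : G) * g) * conj (η ((n : G) * g)) = (Nat.card N : ℂ) := by
    intro g
    have hQ := hF g
    set Q := N ⊔ Subgroup.zpowers g
    have hNQ : N ≤ Q := le_sup_left
    haveI := Fintype.ofFinite Q
    haveI := Fintype.ofFinite (N.subgroupOf Q)
    let e := Subgroup.subgroupOfEquivOfLe hNQ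
    have h := congrFun (CfsgLib.NormalAvg.pairAvg_self (N.subgroupOf Q) (irr_isCharacter (F g)) (by
      rw [show (fun n : N.subgroupOf Q => (F g : Q → ℂ) n) = (θ : N → ℂ) ∘ e from
        funext fun n => hQ.2.1 n n.2]
      exact CfsgLib.CharCorr.isIrrCharacter_comp_equiv θ.2 _)) ⟨g, Subgroup.mem_sup_right (Subgroup.mem_zpowers g)⟩
    rw [CfsgLib.NormalAvg.pairAvg_apply, inv_mul_eq_one₀ (Nat.cast_ne_zero.2 Nat.card_pos.ne')] at h
    rw [← Nat.card_congr e.toEquiv, h]
    refine (Fintype.sum_equiv e.toEquiv _ _ fun n => ?_).symm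
    show _ = η (((e n : N) : G) * g) * conj (η (((e n : N) : G) * g))
    rw [key Q hNQ _ hQ ((e n : N) * g) (Q.mul_mem (hNQ (e n).2)
      (Subgroup.mem_sup_right (Subgroup.mem_zpowers g)))]
    rfl
  have hnorm : classInner η η = 1 := by
    unfold classInner
    have h1 : ∀ n : N, ∑ g : G, η ((n : G) * g) * conj (η ((n : G) * g)) =
        ∑ g : G, η g * conj (η g) := fun n =>
      Fintype.sum_equiv (Equiv.mulLeft (n : G)) _ _ fun g => rfl
    have h2 : ∑ n : N, ∑ g : G, η ((n : G) * g) * conj (η ((n : G) * g)) =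
        (Nat.card G : ℂ) * (Nat.card N : ℂ) := by
      rw [Finset.sum_comm, Finset.sum_congr rfl (fun g _ => havg g), Finset.sum_const,
        Finset.card_univ, nsmul_eq_mul, ← Nat.card_eq_fintype_card]
    rw [Finset.sum_congr rfl (fun n _ => h1 n), Finset.sum_const, Finset.card_univ, nsmul_eq_mul,
      ← Nat.card_eq_fintype_card, mul_comm (Nat.card G : ℂ)] at h2
    rw [mul_left_cancel₀ (Nat.cast_ne_zero.2 Nat.card_pos.ne') h2,
      inv_mul_cancel₀ (Nat.cast_ne_zero.2 Nat.card_pos.ne')]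
  have hone : η 1 = (θ : N → ℂ) 1 := hηN 1
  have hirr : IsIrrCharacter G η := isIrrCharacter_of_generalized_norm_one hgen hnorm (by
    obtain ⟨d, -, hd⟩ := irr_exists_degree θ.2
    rw [hone, hd, Complex.natCast_re]
    exact Nat.cast_nonneg d)
  refine ⟨⟨η, hirr⟩, fun g => ?_, hηN⟩
  set Q := N ⊔ Subgroup.zpowers g with hQ
  set C := Subgroup.centralizer ({g} : Set G) with hC
  have hgQ : g ∈ Q := Subgroup.mem_sup_right (Subgroup.mem_zpowers g)
  have hQC : (Q ⊓ C) ⊔ N = Q := le_antisymm (sup_le inf_le_left le_sup_left) (sup_le le_sup_right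
    (Subgroup.zpowers_le.2 (Subgroup.mem_sup_left
      ⟨hgQ, Subgroup.mem_centralizer_singleton_iff.2 rfl⟩)))
  obtain ⟨h1, t, ht⟩ := relIndex_eq_of_le_sup N C Q le_sup_left hQC
  have he : C.subgroupOf Q = Subgroup.centralizer ({(⟨g, hgQ⟩ : Q)} : Set Q) := by
    ext x
    simp [C, Subgroup.mem_subgroupOf, Subgroup.mem_centralizer_singleton_iff, Subtype.ext_iff]
  have h2 := MemLocalIdeal.mul_left hM (x := (t : ℂ)) (natCast_mem (lRing hM) _)
    (hFB g ⟨g, hgQ⟩)
  rw [centralChar_principal] at h2 ⊢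
  rw [centralChar, ← he] at h2
  rw [centralChar, ← hC, ht, ← h1, Nat.cast_mul]
  have hF1 : (F g : Q → ℂ) 1 = η 1 := by
    rw [hone]
    exact (hF g).2.1 1 N.one_mem
  rw [hF1] at h2
  convert h2 using 1
  show _ = (t : ℂ) * (((C.relIndex Q : ℕ) : ℂ) - ((C.relIndex Q : ℕ) : ℂ) * η g / η 1)
  ring

end Canonical

/-- The Alperin–Dade bijection. -/
theorem restriction_bijection [Fintype G] [Fact p.Prime] (hM : IsPModular p M) (N : Subgroup G)
    [N.Normal] [Fintype N] (hidx : ¬ p ∣ N.index) (hgood : Good p N) :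
    (∀ χ ∈ principalBlock M G, ∃ θ ∈ principalBlock M N,
        ∀ n : N, (χ : G → ℂ) n = (θ : N → ℂ) n) ∧
      ∀ θ ∈ principalBlock M N, ∃! χ : IrrCharacter G,
        χ ∈ principalBlock M G ∧ ∀ n : N, (χ : G → ℂ) n = (θ : N → ℂ) n := by
  classical
  refine ⟨fun χ hχ => ?_, fun θ hθ => ?_⟩
  swap
  · obtain ⟨η, hη, hηv⟩ := exists_extension hM N hidx hgood θ hθ
    refine ⟨η, ⟨hη, hηv⟩, fun χ hχ => ?_⟩
    refine eq_of_congr hM N hidx θ.2 χ η hχ.2 hηv fun c => ?_
    obtain ⟨g, hcg, hg⟩ := hgood c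
    exact ⟨g, hcg, congr_of_principal hM χ hχ.1 hg, congr_of_principal hM η hη hg⟩
  obtain ⟨ψ, hover⟩ := CfsgLib.BlockCover.exists_constituent N χ
  have h1N : principalIrr N ∈ principalBlock M N := CfsgLib.Blocks.mem_blockOf_self hM (principalIrr N)
  have htriv : classInner (fun n : N => (principalIrr G : G → ℂ) n)
      (principalIrr N : N → ℂ) ≠ 0 := by
    rw [show (fun n : N => (principalIrr G : G → ℂ) n) = (principalIrr N : N → ℂ) from
      funext fun n => by simp [principalIrr_apply], classInner_irr_self (principalIrr N).2]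
    exact one_ne_zero
  have hψ : ψ ∈ principalBlock M N := by
    obtain ⟨a, θ', hθ', rfl⟩ := CfsgLib.BlockCover.mem_orbitSet_of_congr N hM
      (isPBlock_principalBlock M) h1N (ψ := ψ) fun n =>
        CfsgLib.BlockCover.induced_congr_of_cover N hM
          (χ := principalIrr G) (χ' := χ) (fun g => hχ g) htriv hover n
    exact fun n => CfsgLib.BlockCover.sameBlock_twistIrr (MulAut.conjNormal (H := N) a)
      (χ := principalIrr N) (ψ := θ') hθ' n
  obtain ⟨η, hη, hηv⟩ := exists_extension hM N hidx hgood ψ hψ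
  refine ⟨ψ, hψ, ?_⟩
  have hres : (fun n : N => (η : G → ℂ) n) = (ψ : N → ℂ) := funext hηv
  have hηN : IsIrrCharacter N (fun n : N => (η : G → ℂ) n) := hres ▸ ψ.2
  set π : G → ℂ := CfsgLib.NormalAvg.pairAvg N (χ : G → ℂ) (η : G → ℂ) with hπdef
  have hπ : IsIrrCharacter G π :=
    CfsgLib.NormalAvg.isIrrCharacter_pairAvg N χ.2 (irr_isCharacter η) hηN (by rw [hres]; exact hover)
  have hcon : ∀ (n : N) (g : G), π ((n : G) * g) = π g := fun n g =>
    CfsgLib.NormalAvg.avgN_mul_left N _ n g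
  have hconr : ∀ (n : N) (g : G), π (g * n) = π g := fun n g =>
    CfsgLib.NormalAvg.avgN_mul_right N _ n g
  have hprodc : IsCharacter G ((η : G → ℂ) * π) :=
    isCharacter_mul (irr_isCharacter η) (isCharacter_of_irr hπ)
  have e1 : classInner (χ : G → ℂ) ((η : G → ℂ) * π) = 1 := by
    rw [← classInner_irr_self hπ]
    conv_rhs => arg 1; rw [hπdef, CfsgLib.NormalAvg.pairAvg]
    rw [CfsgLib.NormalAvg.classInner_avgN_left N _ hcon]
    unfold classInner
    congr 1
    exact Finset.sum_congr rfl fun g _ => by simp [mul_assoc]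
  have e2 : classInner ((η : G → ℂ) * π) ((η : G → ℂ) * π) = 1 := by
    have h := CfsgLib.NormalAvg.classInner_avgN_left N
      (fun g => (η : G → ℂ) g * conj ((η : G → ℂ) g)) (f := fun g => π g * conj (π g))
      (fun n g => by simp only [hcon])
    rw [show CfsgLib.NormalAvg.avgN N (fun g => (η : G → ℂ) g * conj ((η : G → ℂ) g)) =
      fun _ => 1 from CfsgLib.NormalAvg.pairAvg_self N (irr_isCharacter η) hηN] at h
    rw [← classInner_irr_self hπ]
    unfold classInner at h ⊢
    refine Eq.trans ?_ (h.symm.trans ?_)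
    · congr 1
      exact Finset.sum_congr rfl fun g _ => by simp; ring
    · congr 1
      exact Finset.sum_congr rfl fun g _ => by simp; ring
  have hprod : IsIrrCharacter G ((η : G → ℂ) * π) :=
    (isIrrCharacter_iff_classInner_self hprodc).2 e2
  have hfac : (χ : G → ℂ) = (η : G → ℂ) * π := by
    by_contra hne
    rw [classInner_irr_ne χ.2 hprod hne] at e1
    exact zero_ne_one e1
  have hπB : (⟨π, hπ⟩ : IrrCharacter G) ∈ principalBlock M G := by
    intro c
    rw [centralChar_principal]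
    obtain ⟨g, hcg, hg⟩ := hgood c
    have hcg' : π c = π g := by
      rw [show g = c * (c⁻¹ * g) by group, hconr ⟨_, hcg⟩ c]
    have hb : π g / π 1 ∈ lRing hM := by
      have h := mul_mem (inv_natCast_mem_lRing hM hg) (centralChar_mem_lRing hM ⟨π, hπ⟩ g)
      convert h using 1
      have hK : ((Subgroup.centralizer ({g} : Set G)).index : ℂ) ≠ 0 :=
        Nat.cast_ne_zero.2 Subgroup.index_ne_zero_of_finite
      simp only [centralChar]
      field_simp
    have h1 := MemLocalIdeal.sub hM (congr_of_principal hM χ hχ hg)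
      (MemLocalIdeal.mul_left hM hb (congr_of_principal hM η hη hg))
    have h2 := MemLocalIdeal.mul_left hM
      (x := -((Subgroup.centralizer ({c} : Set G)).index : ℂ))
      (neg_mem (s := lRing hM) (natCast_mem _ _)) h1
    convert h2 using 1
    simp only [centralChar, hcg', hfac, Pi.mul_apply]
    rw [mul_div_mul_comm]
    ring
  have hπ1 := eq_principal_of_const hM N hidx hgood ⟨π, hπ⟩ hπB fun x hx => by
    show π x = π 1
    rw [← hcon ⟨x, hx⟩ 1, mul_one]
  intro n
  have hπn : π n = 1 := by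
    have := congrArg (fun f : IrrCharacter G => (f : G → ℂ) n) hπ1
    simpa [principalIrr_apply] using this
  rw [congrFun hfac n, Pi.mul_apply, hπn, mul_one, hηv]

end CfsgLib.Blk4.AlperinDade
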