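import Cfsg.Agent.Lib.Characters.Generalized
import Cfsg.Agent.Lib.Characters.PermChar
import Cfsg.Agent.Lib.CharCorr.Basic
import Cfsg.Agent.Lib.Characters.Clifford
import Mathlib.GroupTheory.GroupAction.MultipleTransitivity
import Mathlib.GroupTheory.Perm.Cycle.Type
import Mathlib.GroupTheory.Perm.Cycle.PossibleTypes
import Mathlib.Data.Sym.Sym2

/-!
# Moments of fixed point counts on the alternating group

The two irreducible constituents of the symmetric and exterior square of the standard character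
restricted to the alternating group.
-/

set_option autoImplicit false
set_option linter.unusedSectionVars false
set_option linter.style.haveILetI false

noncomputable section

namespace CfsgLib.Blk4.AltMoments

open Cfsg CfsgLib.Characters
open scoped ComplexConjugate

/-- `k` is the least-representative function of a partition. -/
def IsKer {m : ℕ} (k : Fin m → Fin m) : Prop := ∀ i, k i ≤ i ∧ k (k i) = k i

/-- The partition `k` is invariant under `π`. -/
def IsInv {m : ℕ} (π : Equiv.Perm (Fin m)) (k : Fin m → Fin m) : Prop :=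
  ∀ i j, k i = k j ↔ k (π i) = k (π j)

instance {m : ℕ} : DecidablePred (IsKer (m := m)) := fun k => by
  unfold IsKer; infer_instance

instance {m : ℕ} (π : Equiv.Perm (Fin m)) : DecidablePred (IsInv π) := fun k => by
  unfold IsInv; infer_instance

variable {n m : ℕ}

/-- The canonical representative function of a tuple. -/
def kerOf (v : Fin m → Fin n) (i : Fin m) : Fin m :=
  (Finset.univ.filter fun j => v j = v i).min' ⟨i, by simp⟩

theorem apply_kerOf (v : Fin m → Fin n) (i : Fin m) : v (kerOf v i) = v i := by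
  have h := (Finset.univ.filter fun j => v j = v i).min'_mem ⟨i, by simp⟩
  exact (Finset.mem_filter.1 h).2

theorem kerOf_eq_iff (v : Fin m → Fin n) (i j : Fin m) : kerOf v i = kerOf v j ↔ v i = v j := by
  refine ⟨fun h => (apply_kerOf v i).symm.trans (by rw [h]; exact apply_kerOf v j), fun h => ?_⟩
  unfold kerOf
  simp only [h]

theorem isKer_kerOf (v : Fin m → Fin n) : IsKer (kerOf v) := fun i =>
  ⟨Finset.min'_le _ _ (by simp), (kerOf_eq_iff v _ _).2 (apply_kerOf v i)⟩

theorem eq_kerOf (v : Fin m → Fin n) {k : Fin m → Fin m} (hk : IsKer k)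
    (h : ∀ i j, k i = k j ↔ v i = v j) : kerOf v = k := funext fun i => by
  have h1 : kerOf v i ≤ k i := Finset.min'_le _ _ (by simpa using (h _ _).1 (hk i).2)
  have h2 : k i ≤ kerOf v i := by
    rw [← (h _ _).2 (apply_kerOf v i)]
    exact (hk _).1
  exact le_antisymm h1 h2

theorem exists_alt_map (hm : m + 2 ≤ n) {v w : Fin m → Fin n} (h : kerOf v = kerOf w) :
    ∃ g : alternatingGroup (Fin n), ∀ i, (g : Equiv.Perm (Fin n)) (v i) = w i := by
  classical
  set R := Finset.univ.image (kerOf v)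
  have hR : R.card ≤ n - 2 := by
    have : R.card ≤ m := (Finset.card_le_univ R).trans (le_of_eq (Fintype.card_fin m))
    omega
  have : MulAction.IsMultiplyPretransitive (alternatingGroup (Fin n)) (Fin n) (Nat.card (Fin n) - 2) :=
    alternatingGroup.isMultiplyPretransitive (Fin n)
  haveI : MulAction.IsMultiplyPretransitive (alternatingGroup (Fin n)) (Fin n) R.card :=
    MulAction.isMultiplyPretransitive_of_le (n := Nat.card (Fin n) - 2)
      (by simpa using hR) (by simp)
  let e := R.equivFin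
  let emb : (u : Fin m → Fin n) → kerOf u = kerOf v → (Fin R.card ↪ Fin n) := fun u hu =>
    ⟨fun r => u (e.symm r : Fin m), fun r s hrs => by
      have h1 := (kerOf_eq_iff u _ _).2 hrs
      obtain ⟨i, -, hi⟩ := Finset.mem_image.1 (e.symm r).2
      obtain ⟨j, -, hj⟩ := Finset.mem_image.1 (e.symm s).2
      refine e.symm.injective (Subtype.ext ?_)
      rw [hu, ← hi, ← hj, (isKer_kerOf v i).2, (isKer_kerOf v j).2] at h1
      rw [← hi, ← hj, h1]⟩
  obtain ⟨g, hg⟩ := MulAction.exists_smul_eq (alternatingGroup (Fin n)) (emb v rfl) (emb w h.symm)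
  refine ⟨g, fun i => ?_⟩
  have hi : kerOf v i ∈ R := Finset.mem_image_of_mem _ (Finset.mem_univ i)
  have h2 := congrArg (fun f : Fin R.card ↪ Fin n => f (e ⟨kerOf v i, hi⟩)) hg
  simp only [Function.Embedding.smul_apply] at h2
  change (g : Equiv.Perm (Fin n)) (v ((e.symm (e ⟨_, hi⟩) : R) : Fin m)) =
    w ((e.symm (e ⟨_, hi⟩) : R) : Fin m) at h2
  simp only [Equiv.symm_apply_apply] at h2
  rwa [apply_kerOf v i, h, apply_kerOf w i] at h2

theorem sum_twist (hm : m + 2 ≤ n) (G : Subgroup (Equiv.Perm (Fin n))) [Fintype G]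
    (hG : alternatingGroup (Fin n) ≤ G) (π : Equiv.Perm (Fin m)) :
    ∑ g : G,
      (Finset.univ.filter fun v : Fin m → Fin n => ∀ i, (g : Equiv.Perm (Fin n)) (v i) = v (π i)).card =
    Fintype.card G *
      (Finset.univ.filter fun k : Fin m → Fin m => IsKer k ∧ IsInv π k).card := by
  classical
  set cnt : (Fin m → Fin n) → (Fin m → Fin n) → ℕ := fun v w =>
    (Finset.univ.filter fun g : G => ∀ i, (g : Equiv.Perm (Fin n)) (v i) = w i).card with hcnt
  have hker_of_map : ∀ (g : G) (v w : Fin m → Fin n),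
      (∀ i, (g : Equiv.Perm (Fin n)) (v i) = w i) → kerOf v = kerOf w := fun g v w h =>
    (eq_kerOf v (isKer_kerOf w) fun i j => by
      rw [kerOf_eq_iff, ← h i, ← h j, EmbeddingLike.apply_eq_iff_eq])
  have hconst : ∀ v w v' w', kerOf v = kerOf w → kerOf v' = kerOf v → kerOf w' = kerOf w →
      cnt v w = cnt v' w' := by
    intro v w v' w' _ hv hw
    obtain ⟨⟨a, haA⟩, ha⟩ := exists_alt_map hm hv
    obtain ⟨⟨b, hbA⟩, hb⟩ := exists_alt_map hm hw
    refine Finset.card_bij' (fun g _ => (⟨b, hG hbA⟩ : G)⁻¹ * g * ⟨a, hG haA⟩)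
      (fun g _ => ⟨b, hG hbA⟩ * g * (⟨a, hG haA⟩ : G)⁻¹) ?_ ?_ ?_ ?_
    · intro g hg
      refine Finset.mem_filter.2 ⟨Finset.mem_univ _, fun i => ?_⟩
      simp only [Subgroup.coe_mul, Equiv.Perm.mul_apply, ha, (Finset.mem_filter.1 hg).2 i, ← hb i]
      simp
    · intro g hg
      refine Finset.mem_filter.2 ⟨Finset.mem_univ _, fun i => ?_⟩
      simp only [Subgroup.coe_mul, Equiv.Perm.mul_apply, ← ha i]
      simp [(Finset.mem_filter.1 hg).2 i, hb]
    · intro g _; group
    · intro g _; group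
  have hsum : ∀ v : Fin m → Fin n,
      ∑ w ∈ Finset.univ.filter (fun w => kerOf w = kerOf v), cnt v w = Fintype.card G := by
    intro v
    rw [← Finset.card_univ]
    symm
    rw [Finset.card_eq_sum_card_fiberwise (f := fun g : G => fun i => (g : Equiv.Perm (Fin n)) (v i))
      (t := Finset.univ.filter (fun w => kerOf w = kerOf v)) fun g _ => by
        simp only [Finset.mem_coe, Finset.mem_filter, Finset.mem_univ, true_and]
        exact (hker_of_map g v _ fun i => rfl).symm]
    refine Finset.sum_congr rfl fun w _ => ?_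
    simp only [hcnt, funext_iff]
  calc ∑ g : G, (Finset.univ.filter fun v : Fin m → Fin n =>
        ∀ i, (g : Equiv.Perm (Fin n)) (v i) = v (π i)).card
      = ∑ v : Fin m → Fin n, cnt v (v ∘ π) := by
        simp only [hcnt, Finset.card_filter, Function.comp_apply]
        exact Finset.sum_comm
    _ = ∑ k : Fin m → Fin m, ∑ v ∈ Finset.univ.filter (fun v => kerOf v = k), cnt v (v ∘ π) :=
        (Finset.sum_fiberwise _ _ _).symm
    _ = ∑ k ∈ Finset.univ.filter (fun k : Fin m → Fin m => IsKer k ∧ IsInv π k),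
          Fintype.card G := by
        rw [Finset.sum_filter (p := fun k : Fin m → Fin m => IsKer k ∧ IsInv π k)]
        refine Finset.sum_congr rfl fun k _ => ?_
        split_ifs with hk
        · let v₀ : Fin m → Fin n := fun i => Fin.castLE (by omega) (k i)
          have hv₀ : kerOf v₀ = k := eq_kerOf v₀ hk.1 fun i j => by simp [v₀]
          rw [← hsum v₀, hv₀]
          refine Finset.sum_congr rfl fun v hv => ?_
          have hv' := (Finset.mem_filter.1 hv).2
          have hπ : ∀ u : Fin m → Fin n, kerOf u = k → kerOf (u ∘ π) = k := fun u hu =>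
            eq_kerOf _ hk.1 fun i j => by
              rw [hk.2 i j, ← hu, kerOf_eq_iff]; rfl
          exact hconst v _ v₀ v (by rw [hπ v hv', hv']) (by rw [hv', hv₀]) (by rw [hπ v hv', hv'])
        · refine Finset.sum_eq_zero fun v hv => ?_
          have hv' := (Finset.mem_filter.1 hv).2
          rw [hcnt, Finset.card_eq_zero, Finset.filter_eq_empty_iff]
          intro g _ hg
          have h := hker_of_map g v _ hg
          refine hk ⟨hv' ▸ isKer_kerOf v, fun i j => ?_⟩
          rw [← hv', kerOf_eq_iff v (π i) (π j)]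
          conv_lhs => rw [h, kerOf_eq_iff]
          rfl
    _ = _ := by rw [Finset.sum_const, smul_eq_mul, mul_comm]

/-! ### Fixed point counts -/

/-- Fixed points of a permutation. -/
def fx (g : Equiv.Perm (Fin n)) : ℕ := Nat.card {x : Fin n // g x = x}

/-- Fixed points of the square of a permutation. -/
def fx2 (g : Equiv.Perm (Fin n)) : ℕ := Nat.card {x : Fin n // g (g x) = x}

theorem card_tuple (g : Equiv.Perm (Fin n)) (π : Equiv.Perm (Fin m)) :
    (Finset.univ.filter fun v : Fin m → Fin n => ∀ i, g (v i) = v (π i)).card =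
      Nat.card {v : Fin m → Fin n // ∀ i, g (v i) = v (π i)} := by
  rw [Nat.card_eq_fintype_card, Fintype.card_subtype]

theorem count1 (g : Equiv.Perm (Fin n)) :
    Nat.card {v : Fin 1 → Fin n // ∀ i, g (v i) = v i} = fx g := by
  refine Nat.card_congr
    { toFun := fun v => ⟨v.1 0, v.2 0⟩
      invFun := fun x => ⟨fun _ => x.1, fun _ => x.2⟩
      left_inv := fun v => Subtype.ext (funext fun i => by rw [Subsingleton.elim i 0])
      right_inv := fun x => rfl }

theorem count_pair (g : Equiv.Perm (Fin n)) :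
    Nat.card {v : Fin 2 → Fin n // ∀ i, g (v i) = v (Equiv.swap 0 1 i)} = fx2 g := by
  refine Nat.card_congr
    { toFun := fun v => ⟨v.1 0, by
        have h0 := v.2 0; have h1 := v.2 1
        simp at h0 h1
        rw [h0, h1]⟩
      invFun := fun x => ⟨![x.1, g x.1], fun i => by fin_cases i <;> simp [x.2]⟩
      left_inv := fun v => Subtype.ext (funext fun i => by
        fin_cases i
        · rfl
        · have h0 := v.2 0; simp at h0; simpa using h0)
      right_inv := fun x => rfl }

theorem count_id (g : Equiv.Perm (Fin n)) (m : ℕ) :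
    Nat.card {v : Fin m → Fin n // ∀ i, g (v i) = v i} = fx g ^ m := by
  rw [Nat.card_congr (Equiv.subtypePiEquivPi (p := fun _ x => g x = x)), Nat.card_pi]
  simp [fx]

/-- Concatenation of the counts. -/
theorem count_sum (g : Equiv.Perm (Fin n)) {a b : ℕ} (σ : Equiv.Perm (Fin a)) (τ : Equiv.Perm (Fin b))
    (π : Equiv.Perm (Fin (a + b))) (hl : ∀ i, π (Fin.castAdd b i) = Fin.castAdd b (σ i))
    (hr : ∀ i, π (Fin.natAdd a i) = Fin.natAdd a (τ i)) :
    Nat.card {v : Fin (a + b) → Fin n // ∀ i, g (v i) = v (π i)} =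
      Nat.card {v : Fin a → Fin n // ∀ i, g (v i) = v (σ i)} *
        Nat.card {v : Fin b → Fin n // ∀ i, g (v i) = v (τ i)} := by
  rw [← Nat.card_prod]
  refine Nat.card_congr
    { toFun := fun v => (⟨fun i => v.1 (Fin.castAdd b i), fun i => by rw [v.2, hl]⟩,
        ⟨fun i => v.1 (Fin.natAdd a i), fun i => by rw [v.2, hr]⟩)
      invFun := fun v => ⟨Fin.append v.1.1 v.2.1, fun i => by
        refine Fin.addCases (fun i => ?_) (fun i => ?_) i
        · rw [hl, Fin.append_left, Fin.append_left, v.1.2]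
        · rw [hr, Fin.append_right, Fin.append_right, v.2.2]⟩
      left_inv := fun v => Subtype.ext (funext fun i => by
        refine Fin.addCases (fun i => ?_) (fun i => ?_) i <;> simp)
      right_inv := fun v => by ext i <;> simp }

variable (hn : 7 ≤ n) (G : Subgroup (Equiv.Perm (Fin n))) [Fintype G]
  (hG : alternatingGroup (Fin n) ≤ G)
include hn hG

theorem moment_id (m : ℕ) (hm : m ≤ 4) :
    ∑ g : G, (fx (g : Equiv.Perm (Fin n))) ^ m =
      Fintype.card G *
        (Finset.univ.filter fun k : Fin m → Fin m => IsKer k ∧ IsInv 1 k).card := by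
  rw [← sum_twist (by omega) G hG 1]
  refine Finset.sum_congr rfl fun g _ => ?_
  rw [card_tuple, ← count_id]
  rfl

theorem moments :
    let N := Fintype.card G
    (∑ g : G, fx (g : Equiv.Perm (Fin n)) = N) ∧
    (∑ g : G, fx (g : Equiv.Perm (Fin n)) ^ 2 = N * 2) ∧
    (∑ g : G, fx (g : Equiv.Perm (Fin n)) ^ 3 = N * 5) ∧
    (∑ g : G, fx (g : Equiv.Perm (Fin n)) ^ 4 = N * 15) ∧
    (∑ g : G, fx2 (g : Equiv.Perm (Fin n)) = N * 2) ∧
    (∑ g : G,
      fx (g : Equiv.Perm (Fin n)) * fx2 (g : Equiv.Perm (Fin n)) = N * 3) ∧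
    (∑ g : G,
      fx (g : Equiv.Perm (Fin n)) ^ 2 * fx2 (g : Equiv.Perm (Fin n)) = N * 7) ∧
    (∑ g : G,
      fx2 (g : Equiv.Perm (Fin n)) * fx2 (g : Equiv.Perm (Fin n)) = N * 7) := by
  intro N
  have e1 := moment_id hn G hG 1 (by norm_num)
  have e2 := moment_id hn G hG 2 (by norm_num)
  have e3 := moment_id hn G hG 3 (by norm_num)
  have e4 := moment_id hn G hG 4 (by norm_num)
  rw [show (Finset.univ.filter fun k : Fin 1 → Fin 1 => IsKer k ∧ IsInv 1 k).card = 1 by decide,
    mul_one] at e1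
  rw [show (Finset.univ.filter fun k : Fin 2 → Fin 2 => IsKer k ∧ IsInv 1 k).card = 2 by decide]
    at e2
  rw [show (Finset.univ.filter fun k : Fin 3 → Fin 3 => IsKer k ∧ IsInv 1 k).card = 5 by decide]
    at e3
  rw [show (Finset.univ.filter fun k : Fin 4 → Fin 4 => IsKer k ∧ IsInv 1 k).card = 15 by decide]
    at e4
  simp only [pow_one] at e1
  refine ⟨e1, e2, e3, e4, ?_, ?_, ?_, ?_⟩
  · rw [show N * 2 = N * (Finset.univ.filter fun k : Fin 2 → Fin 2 =>
      IsKer k ∧ IsInv (Equiv.swap 0 1) k).card by congr 1, ← sum_twist (by omega) G hG]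
    exact Finset.sum_congr rfl fun g _ => by rw [card_tuple, count_pair]
  · rw [show N * 3 = N * (Finset.univ.filter fun k : Fin (1 + 2) → Fin (1 + 2) =>
      IsKer k ∧ IsInv (Equiv.swap 1 2) k).card by congr 1, ← sum_twist (by omega) G hG]
    refine Finset.sum_congr rfl fun g _ => ?_
    rw [card_tuple, count_sum _ 1 (Equiv.swap 0 1) (Equiv.swap 1 2) (by decide) (by decide),
      count_pair]
    congr 1
    exact (count1 _).symm
  · rw [show N * 7 = N * (Finset.univ.filter fun k : Fin (2 + 2) → Fin (2 + 2) =>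
      IsKer k ∧ IsInv (Equiv.swap 2 3) k).card by congr 1, ← sum_twist (by omega) G hG]
    refine Finset.sum_congr rfl fun g _ => ?_
    rw [card_tuple, count_sum _ 1 (Equiv.swap 0 1) (Equiv.swap 2 3) (by decide) (by decide),
      count_pair]
    congr 1
    exact (count_id _ 2).symm
  · rw [show N * 7 = N * (Finset.univ.filter fun k : Fin (2 + 2) → Fin (2 + 2) =>
      IsKer k ∧ IsInv (Equiv.swap 0 1 * Equiv.swap 2 3) k).card by congr 1, ← sum_twist (by omega) G hG]
    refine Finset.sum_congr rfl fun g _ => ?_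
    rw [card_tuple, count_sum _ (Equiv.swap 0 1) (Equiv.swap 0 1)
      (Equiv.swap 0 1 * Equiv.swap 2 3) (by decide) (by decide), count_pair]

omit hn hG

/-! ### Characters -/

/-- Permutations act on unordered pairs. -/
local instance sym2Action : MulAction (Equiv.Perm (Fin n)) (Sym2 (Fin n)) where
  smul g z := z.map g
  one_smul z := by show z.map _ = z; simp [Sym2.map_id]
  mul_smul g h z := by show z.map _ = (z.map h).map g; rw [Sym2.map_map]; rfl

theorem two_mul_fix_sym2 (g : Equiv.Perm (Fin n)) :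
    2 * CfsgLib.PermChar.fixCount (Sym2 (Fin n)) g = fx g ^ 2 + fx2 g := by
  classical
  have hA : Nat.card {v : Fin 2 → Fin n // ∀ i, g (v i) = v i} =
      ∑ p : Fin n × Fin n, if g p.1 = p.1 ∧ g p.2 = p.2 then 1 else 0 := by
    rw [← Finset.card_filter, ← Fintype.card_subtype, ← Nat.card_eq_fintype_card]
    exact Nat.card_congr ((finTwoArrowEquiv (Fin n)).subtypeEquiv fun v => by
      simp [Fin.forall_fin_two, finTwoArrowEquiv])
  have hB : Nat.card {v : Fin 2 → Fin n // ∀ i, g (v i) = v (Equiv.swap 0 1 i)} =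
      ∑ p : Fin n × Fin n, if g p.1 = p.2 ∧ g p.2 = p.1 then 1 else 0 := by
    rw [← Finset.card_filter, ← Fintype.card_subtype, ← Nat.card_eq_fintype_card]
    exact Nat.card_congr ((finTwoArrowEquiv (Fin n)).subtypeEquiv fun v => by
      simp [Fin.forall_fin_two, finTwoArrowEquiv])
  rw [CfsgLib.PermChar.fixCount, Nat.card_eq_fintype_card, Fintype.card_subtype, ← count_id g 2,
    ← count_pair g, hA, hB, Finset.card_filter, Finset.mul_sum, ← Finset.sum_add_distrib,
    ← Finset.sum_fiberwise Finset.univ (fun p : Fin n × Fin n => Sym2.mk p.1 p.2)]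
  refine Finset.sum_congr rfl fun z _ => ?_
  induction z using Sym2.ind with
  | _ a b =>
    have hf : (Finset.univ.filter fun p : Fin n × Fin n => Sym2.mk p.1 p.2 = s(a, b)) =
        {(a, b), (b, a)} := by
      ext ⟨x, y⟩
      simp [Sym2.eq_iff]
    rw [hf]
    have hsm : (g • s(a, b) = s(a, b)) ↔ (g a = a ∧ g b = b) ∨ (g a = b ∧ g b = a) := by
      show Sym2.map g s(a, b) = s(a, b) ↔ _
      rw [Sym2.map_mk, Sym2.eq_iff]
    by_cases hab : a = b
    · subst hab
      simp [hsm]
      split_ifs <;> rfl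
    · rw [Finset.sum_pair (by simp [hab])]
      simp [hsm]
      by_cases h1 : g a = a <;> by_cases h2 : g b = b <;> by_cases h3 : g a = b <;>
        by_cases h4 : g b = a <;> simp_all

theorem isCharacter_fixCount {G : Type} [Group G] [Fintype G] (X : Type) [MulAction G X]
    [Finite X] : IsCharacter G (fun g => (CfsgLib.PermChar.fixCount X g : ℂ)) := by
  haveI : Fintype (Quotient (MulAction.orbitRel G X)) := Fintype.ofFinite _
  rw [CfsgLib.PermChar.fixCount_eq_sum_orbits X]
  exact isCharacter_sum _ fun ω _ =>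
    CfsgLib.Induction.isCharacter_indFun _ CfsgLib.Induction.isCharacter_const_one

theorem fx_eq_fixCount (g : Equiv.Perm (Fin n)) :
    fx g = CfsgLib.PermChar.fixCount (Fin n) g := rfl

/-- The standard character. -/
def chiStd (g : Equiv.Perm (Fin n)) : ℂ := (fx g : ℂ) - 1

/-- The character of `(n - 2, 2)`. -/
def chiSym (g : Equiv.Perm (Fin n)) : ℂ :=
  (CfsgLib.PermChar.fixCount (Sym2 (Fin n)) g : ℂ) - 2 * (fx g : ℂ)

/-- The exterior square of the standard character. -/
def chiExt (g : Equiv.Perm (Fin n)) : ℂ :=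
  (fx g : ℂ) * (fx g : ℂ) - (CfsgLib.PermChar.fixCount (Sym2 (Fin n)) g : ℂ) - (fx g : ℂ) + 1

theorem fix_sym2_cast (g : Equiv.Perm (Fin n)) :
    (CfsgLib.PermChar.fixCount (Sym2 (Fin n)) g : ℂ) = ((fx g : ℂ) ^ 2 + (fx2 g : ℂ)) / 2 := by
  rw [eq_div_iff two_ne_zero, mul_comm]
  exact_mod_cast two_mul_fix_sym2 g

include hn hG

theorem irr_parts :
    IsIrrCharacter G (fun g : G => chiStd (g : Equiv.Perm (Fin n))) ∧
    IsIrrCharacter G (fun g : G => chiSym (g : Equiv.Perm (Fin n))) ∧
    IsIrrCharacter G (fun g : G => chiExt (g : Equiv.Perm (Fin n))) := by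
  have hfc : IsCharacter G (fun g : G => (fx (g : Equiv.Perm (Fin n)) : ℂ)) :=
    CfsgLib.Clifford.isCharacter_subtype (isCharacter_fixCount (G := Equiv.Perm (Fin n)) (Fin n)) G
  have hSc : IsCharacter G
      (fun g : G => (CfsgLib.PermChar.fixCount (Sym2 (Fin n)) (g : Equiv.Perm (Fin n)) : ℂ)) :=
    CfsgLib.Clifford.isCharacter_subtype
      (isCharacter_fixCount (G := Equiv.Perm (Fin n)) (Sym2 (Fin n))) G
  have hf := isGeneralizedCharacter_of_isCharacter hfc
  have hS := isGeneralizedCharacter_of_isCharacter hSc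
  have hone : IsGeneralizedCharacter G (fun _ : G => (1 : ℂ)) := isGeneralizedCharacter_one
  obtain ⟨m1, m2, m3, m4, m5, m6, m7, m8⟩ := moments hn G hG
  have c1 := congrArg (fun x : ℕ => (x : ℂ)) m1
  have c2 := congrArg (fun x : ℕ => (x : ℂ)) m2
  have c3 := congrArg (fun x : ℕ => (x : ℂ)) m3
  have c4 := congrArg (fun x : ℕ => (x : ℂ)) m4
  have c5 := congrArg (fun x : ℕ => (x : ℂ)) m5
  have c6 := congrArg (fun x : ℕ => (x : ℂ)) m6
  have c7 := congrArg (fun x : ℕ => (x : ℂ)) m7
  have c8 := congrArg (fun x : ℕ => (x : ℂ)) m8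
  push_cast at c1 c2 c3 c4 c5 c6 c7 c8
  have hN : (Fintype.card G : ℂ) ≠ 0 := Nat.cast_ne_zero.2 Fintype.card_ne_zero
  have h1fx : fx (1 : Equiv.Perm (Fin n)) = n := by
    simp [fx]
  have h1fx2 : fx2 (1 : Equiv.Perm (Fin n)) = n := by
    simp [fx2]
  have hre : (7 : ℝ) ≤ n := by exact_mod_cast hn
  refine ⟨?_, ?_, ?_⟩
  · refine isIrrCharacter_of_generalized_norm_one (isGeneralizedCharacter_sub hf hone) ?_ ?_
    · simp only [classInner, chiStd, map_sub, map_natCast, map_one, Pi.sub_apply]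
      have e : ∀ g : G, ((fx (g : Equiv.Perm (Fin n)) : ℂ) - 1) * ((fx (g : Equiv.Perm (Fin n)) : ℂ) - 1)
          = (fx (g : Equiv.Perm (Fin n)) : ℂ) ^ 2 - 2 * (fx (g : Equiv.Perm (Fin n)) : ℂ) + 1 :=
        fun g => by ring
      simp only [e, Finset.sum_add_distrib, Finset.sum_sub_distrib, ← Finset.mul_sum,
        Finset.sum_const, Finset.card_univ, nsmul_eq_mul, c1, c2, Nat.card_eq_fintype_card]
      field_simp
      ring
    · simp [chiStd, h1fx]; linarith
  · refine isIrrCharacter_of_generalized_norm_one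
      (isGeneralizedCharacter_sub hS (isGeneralizedCharacter_natCast_smul hf 2)) ?_ ?_
    · simp only [classInner, chiSym, fix_sym2_cast, map_sub, map_natCast, map_mul, map_div₀,
        map_add, map_pow, map_ofNat, Pi.sub_apply, Pi.smul_apply, smul_eq_mul, Nat.cast_ofNat]
      have e : ∀ a b : ℂ, ((a ^ 2 + b) / 2 - 2 * a) * ((a ^ 2 + b) / 2 - 2 * a) =
          (1 / 4 : ℂ) * a ^ 4 + (1 / 2 : ℂ) * (a ^ 2 * b) + (1 / 4 : ℂ) * (b * b) - 2 * a ^ 3
            - 2 * (a * b) + 4 * a ^ 2 := fun a b => by ring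
      simp only [e, Finset.sum_add_distrib, Finset.sum_sub_distrib, ← Finset.mul_sum,
        c2, c3, c4, c6, c7, c8, Nat.card_eq_fintype_card]
      field_simp
      ring
    · simp [chiSym, fix_sym2_cast, h1fx, h1fx2, pow_two]
      nlinarith
  · refine isIrrCharacter_of_generalized_norm_one (isGeneralizedCharacter_add
      (isGeneralizedCharacter_sub (isGeneralizedCharacter_sub (isGeneralizedCharacter_mul hf hf) hS) hf)
      hone) ?_ ?_
    · simp only [classInner, chiExt, fix_sym2_cast, map_sub, map_natCast, map_mul, map_div₀,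
        map_add, map_pow, map_ofNat, map_one, Pi.sub_apply, Pi.add_apply, Pi.mul_apply]
      have e : ∀ a b : ℂ, (a * a - (a ^ 2 + b) / 2 - a + 1) * (a * a - (a ^ 2 + b) / 2 - a + 1) =
          (1 / 4 : ℂ) * a ^ 4 - (1 / 2 : ℂ) * (a ^ 2 * b) + (1 / 4 : ℂ) * (b * b) - a ^ 3
            + a * b + 2 * a ^ 2 - b - 2 * a + 1 := fun a b => by ring
      simp only [e, Finset.sum_add_distrib, Finset.sum_sub_distrib, ← Finset.mul_sum,
        Finset.sum_const, Finset.card_univ, nsmul_eq_mul,
        c1, c2, c3, c4, c5, c6, c7, c8, Nat.card_eq_fintype_card]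
      field_simp
      ring
    · simp [chiExt, fix_sym2_cast, h1fx, h1fx2, pow_two]
      nlinarith

omit hG in
theorem irr_pair {X : Equiv.Perm (Fin n) → ℂ}
    (h : ∀ (G : Subgroup (Equiv.Perm (Fin n))) [Fintype G], alternatingGroup (Fin n) ≤ G →
      IsIrrCharacter G (fun g : G => X g)) :
    ∃ χ : IrrCharacter (alternatingGroup (Fin n)), (∀ g, (χ : alternatingGroup (Fin n) → ℂ) g = X g) ∧
      ∃ ψ : IrrCharacter (Equiv.Perm (Fin n)), ∀ x : alternatingGroup (Fin n),
        (ψ : Equiv.Perm (Fin n) → ℂ) x = (χ : alternatingGroup (Fin n) → ℂ) x := by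
  haveI : Fintype (⊤ : Subgroup (Equiv.Perm (Fin n))) := Fintype.ofFinite _
  exact ⟨⟨_, h _ le_rfl⟩, fun g => rfl,
    ⟨_, CfsgLib.CharCorr.isIrrCharacter_comp_equiv (h ⊤ le_top) Subgroup.topEquiv.symm⟩,
    fun x => rfl⟩

omit hG in
theorem pair_std : ∃ χ : IrrCharacter (alternatingGroup (Fin n)),
    (∀ g, (χ : alternatingGroup (Fin n) → ℂ) g = chiStd (g : Equiv.Perm (Fin n))) ∧
    ∃ ψ : IrrCharacter (Equiv.Perm (Fin n)), ∀ x : alternatingGroup (Fin n),
      (ψ : Equiv.Perm (Fin n) → ℂ) x = (χ : alternatingGroup (Fin n) → ℂ) x :=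
  irr_pair hn fun G _ hG => (irr_parts hn G hG).1

omit hG in
theorem pair_sym : ∃ χ : IrrCharacter (alternatingGroup (Fin n)),
    (∀ g, (χ : alternatingGroup (Fin n) → ℂ) g = chiSym (g : Equiv.Perm (Fin n))) ∧
    ∃ ψ : IrrCharacter (Equiv.Perm (Fin n)), ∀ x : alternatingGroup (Fin n),
      (ψ : Equiv.Perm (Fin n) → ℂ) x = (χ : alternatingGroup (Fin n) → ℂ) x :=
  irr_pair hn fun G _ hG => (irr_parts hn G hG).2.1

omit hG in
theorem pair_ext : ∃ χ : IrrCharacter (alternatingGroup (Fin n)),
    (∀ g, (χ : alternatingGroup (Fin n) → ℂ) g = chiExt (g : Equiv.Perm (Fin n))) ∧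
    ∃ ψ : IrrCharacter (Equiv.Perm (Fin n)), ∀ x : alternatingGroup (Fin n),
      (ψ : Equiv.Perm (Fin n) → ℂ) x = (χ : alternatingGroup (Fin n) → ℂ) x :=
  irr_pair hn fun G _ hG => (irr_parts hn G hG).2.2

omit hn hG

/-- Fixed points from the cycle type. -/
theorem fx_of_cycleType (g : Equiv.Perm (Fin n)) : fx g = n - g.cycleType.sum := by
  classical
  rw [Equiv.Perm.sum_cycleType, fx, Nat.card_eq_fintype_card, Fintype.card_subtype]
  have : (Finset.univ.filter fun x => g x = x) = g.supportᶜ := by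
    ext x; simp
  rw [this, Finset.card_compl, Fintype.card_fin]

/-- Without transpositions among the cycles, the square has no new fixed point. -/
theorem fx2_of_cycleType (g : Equiv.Perm (Fin n)) (h2 : 2 ∉ g.cycleType) : fx2 g = fx g := by
  classical
  refine Nat.card_congr (Equiv.subtypeEquivRight fun x => ⟨fun h => ?_, fun h => by rw [h, h]⟩)
  by_contra hx
  apply h2
  have hc := Equiv.Perm.isCycle_cycleOf g hx
  have hd := Equiv.Perm.cycleType_def g
  have hcard : (g.cycleOf x).support.card = 2 := by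
    rw [← hc.orderOf]
    refine orderOf_eq_prime ?_ ?_
    · refine hc.pow_eq_one_iff.2 ⟨x, ?_, ?_⟩
      · rwa [Equiv.Perm.cycleOf_apply_self]
      · rw [Equiv.Perm.cycleOf_pow_apply_self, pow_two, Equiv.Perm.mul_apply, h]
    · intro h1
      have := Equiv.Perm.cycleOf_apply_self g x
      rw [h1, Equiv.Perm.one_apply] at this
      exact hx this.symm
  rw [hd, Multiset.mem_map]
  exact ⟨g.cycleOf x, Finset.mem_def.1 (Equiv.Perm.cycleOf_mem_cycleFactorsFinset_iff.2
    (Equiv.Perm.mem_support.2 hx)), hcard⟩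

/-- An even permutation with prescribed cycle type. -/
theorem exists_alt (m : Multiset ℕ) (hsum : m.sum ≤ n) (h2 : ∀ a ∈ m, 2 ≤ a)
    (hpar : Even (m.sum + Multiset.card m)) :
    ∃ g : alternatingGroup (Fin n), (g : Equiv.Perm (Fin n)).cycleType = m ∧ orderOf g = m.lcm := by
  obtain ⟨g, hg⟩ := (Equiv.Perm.exists_with_cycleType_iff (α := Fin n)).2
    ⟨by simpa using hsum, h2⟩
  have hgA : g ∈ alternatingGroup (Fin n) := by
    rw [Equiv.Perm.mem_alternatingGroup, Equiv.Perm.sign_of_cycleType, hg]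
    exact hpar.neg_one_pow
  refine ⟨⟨g, hgA⟩, hg, ?_⟩
  rw [← hg, Equiv.Perm.lcm_cycleType,
    ← orderOf_injective (alternatingGroup (Fin n)).subtype Subtype.val_injective]
  rfl

end CfsgLib.Blk4.AltMoments
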