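import Mathlib.LinearAlgebra.Matrix.Rank
import Mathlib.LinearAlgebra.Trace
import Mathlib.LinearAlgebra.FreeModule.PID
import Mathlib.Data.Matrix.Basic
import Mathlib.Algebra.BigOperators.Field
import Mathlib.RingTheory.Localization.Module
import Mathlib.LinearAlgebra.Matrix.ToLin

/-!
# Integral symmetric matrices with `C * C = N • C` and trace at most `2 * N`

Such a matrix is the Gram matrix of integral pairs for a reduced positive binary form.
-/

set_option autoImplicit false

namespace CfsgLib.Blk4.BinaryForm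

variable {ι : Type*}

/-- The values of a binary form on two families of pairs. -/
def val (A B D : ℤ) (x y : ι → ℤ) (i j : ι) : ℤ :=
  A * (x i * x j) + B * (x i * y j + y i * x j) + D * (y i * y j)

/-- Reduction. -/
theorem reduce : ∀ (n : ℕ) (A B D : ℤ) (x y : ι → ℤ),
    (∀ a c : ℤ, (a ≠ 0 ∨ c ≠ 0) → 0 < A * (a * a) + 2 * B * (a * c) + D * (c * c)) →
    A + D ≤ n →
    ∃ (A' B' D' : ℤ) (x' y' : ι → ℤ), 0 < A' ∧ 2 * |B'| ≤ A' ∧ A' ≤ D' ∧
      ∀ i j, val A B D x y i j = val A' B' D' x' y' i j := by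
  intro n
  induction n using Nat.strong_induction_on with
  | _ n ih =>
    intro A B D x y hpos hn
    have hA : 0 < A := by simpa using hpos 1 0 (Or.inl one_ne_zero)
    have hD : 0 < D := by simpa using hpos 0 1 (Or.inr one_ne_zero)
    -- shorten the longer vector
    have step : ∀ (A B D : ℤ) (x y : ι → ℤ),
        (∀ a c : ℤ, (a ≠ 0 ∨ c ≠ 0) → 0 < A * (a * a) + 2 * B * (a * c) + D * (c * c)) →
        A + D ≤ n → A < 2 * |B| →
        ∃ (A' B' D' : ℤ) (x' y' : ι → ℤ), 0 < A' ∧ 2 * |B'| ≤ A' ∧ A' ≤ D' ∧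
          ∀ i j, val A B D x y i j = val A' B' D' x' y' i j := by
      intro A B D x y hpos hn hlt
      obtain ⟨s, hs, hsB⟩ : ∃ s : ℤ, s * s = 1 ∧ s * B = |B| := by
        rcases le_total 0 B with h | h
        · exact ⟨1, rfl, by rw [one_mul, abs_of_nonneg h]⟩
        · exact ⟨-1, rfl, by rw [neg_one_mul, abs_of_nonpos h]⟩
      have hpos' : ∀ a c : ℤ, (a ≠ 0 ∨ c ≠ 0) →
          0 < A * (a * a) + 2 * (B - s * A) * (a * c) + (D - 2 * |B| + A) * (c * c) := by
        intro a c hac
        have := hpos (a - s * c) c (by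
          rcases eq_or_ne c 0 with hc | hc
          · exact Or.inl (by simpa [hc] using hac)
          · exact Or.inr hc)
        have e : A * (a * a) + 2 * (B - s * A) * (a * c) + (D - 2 * |B| + A) * (c * c) =
            A * ((a - s * c) * (a - s * c)) + 2 * B * ((a - s * c) * c) + D * (c * c) := by
          rw [← hsB]; linear_combination (-(A * (c * c))) * hs
        rw [e]; exact this
      have hA' : 0 < A := by simpa using hpos 1 0 (Or.inl one_ne_zero)
      have hD' : 0 < D - 2 * |B| + A := by simpa using hpos' 0 1 (Or.inr one_ne_zero)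
      obtain ⟨A', B', D', x', y', h1, h2, h3, h4⟩ :=
        ih (A + (D - 2 * |B| + A)).toNat (by omega) A (B - s * A) (D - 2 * |B| + A)
          (fun i => x i + s * y i) y hpos' (by omega)
      refine ⟨A', B', D', x', y', h1, h2, h3, fun i j => (Eq.trans ?_ (h4 i j))⟩
      simp only [val, ← hsB]
      linear_combination (A * (y i * y j)) * hs
    rcases le_or_gt A D with hAD | hAD
    · rcases le_or_gt (2 * |B|) A with hB | hB
      · exact ⟨A, B, D, x, y, hA, hB, hAD, fun _ _ => rfl⟩
      · exact step A B D x y hpos hn hB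
    · have hpos' : ∀ a c : ℤ, (a ≠ 0 ∨ c ≠ 0) →
          0 < D * (a * a) + 2 * B * (a * c) + A * (c * c) := fun a c hac => by
        have := hpos c a hac.symm
        linarith
      have hsw : ∀ i j, val A B D x y i j = val D B A y x i j := fun i j => by
        simp only [val]; ring
      rcases le_or_gt (2 * |B|) D with hB | hB
      · exact ⟨D, B, A, y, x, hD, hB, hAD.le, hsw⟩
      · obtain ⟨A', B', D', x', y', h1, h2, h3, h4⟩ := step D B A y x hpos' (by omega) hB
        exact ⟨A', B', D', x', y', h1, h2, h3, fun i j => (hsw i j).trans (h4 i j)⟩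

open Finset in
/-- The Gram presentation. -/
theorem exists_form [Fintype ι] (C : ι → ι → ℤ) {N : ℤ} (hN : 0 < N) (hsymm : ∀ i j, C i j = C j i)
    (hmul : ∀ i j, ∑ k, C i k * C k j = N * C i j) (htr : ∑ i, C i i ≤ 2 * N) :
    ∃ (A B D : ℤ) (x y : ι → ℤ), 0 < A ∧ 2 * |B| ≤ A ∧ A ≤ D ∧
      ∀ i j, C i j = val A B D x y i j := by
  classical
  set L : Submodule ℤ (ι → ℤ) := Submodule.span ℤ (Set.range fun i => (fun k => C k i)) with hL
  obtain ⟨r, bas⟩ := Submodule.basisOfPid (Pi.basisFun ℤ ι) L
  -- the rank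
  have hr : r ≤ 2 := by
    let P : Matrix ι ι ℚ := Matrix.of fun i j => (C i j : ℚ) / N
    have hN0 : (N : ℚ) ≠ 0 := by exact_mod_cast hN.ne'
    have hP : P * P = P := by
      ext i j
      simp only [P, Matrix.mul_apply, Matrix.of_apply]
      rw [Finset.sum_congr rfl fun k _ => show (C i k : ℚ) / N * ((C k j : ℚ) / N) =
        ((C i k * C k j : ℤ) : ℚ) / ((N : ℚ) * N) by push_cast; field_simp,
        ← Finset.sum_div, ← Int.cast_sum, hmul]
      push_cast; field_simp
    let f : (ι → ℚ) →ₗ[ℚ] (ι → ℚ) := Matrix.toLin' P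
    have hproj : LinearMap.IsProj (LinearMap.range f) f := by
      refine ⟨fun v => LinearMap.mem_range_self f v, fun v hv => ?_⟩
      obtain ⟨w, rfl⟩ := hv
      show Matrix.toLin' P (Matrix.toLin' P w) = _
      rw [← LinearMap.comp_apply, ← Matrix.toLin'_mul, hP]
    have h1 : (Module.finrank ℚ (LinearMap.range f) : ℚ) = ((∑ i, C i i : ℤ) : ℚ) / N := by
      rw [← hproj.trace, Matrix.trace_toLin'_eq, Matrix.trace]
      push_cast
      simp [P, Matrix.diag, Matrix.of_apply, Finset.sum_div]
    have h2 : (Module.finrank ℚ (LinearMap.range f) : ℚ) ≤ 2 := by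
      rw [h1, div_le_iff₀ (by exact_mod_cast hN)]
      exact_mod_cast htr
    have h3 : r ≤ Module.finrank ℚ (LinearMap.range f) := by
      let v : Fin r → (ι → ℚ) := fun i k => (((bas i : ι → ℤ) k : ℤ) : ℚ)
      have hv : LinearIndependent ℚ v := by
        rw [← LinearIndependent.iff_fractionRing (R := ℤ) (K := ℚ)]
        exact (bas.linearIndependent.map' L.subtype (Submodule.ker_subtype L)).map'
          ((Int.castAddHom ℚ).toIntLinearMap.compLeft ι)
          (LinearMap.ker_eq_bot.2 fun a a' h => funext fun k => Int.cast_injective (congrFun h k))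
      have hmem : ∀ i, v i ∈ LinearMap.range f := by
        intro i
        have hsub : ∀ u ∈ L, (fun k => ((u k : ℤ) : ℚ)) ∈ LinearMap.range f := by
          intro u hu
          refine Submodule.span_induction (p := fun u _ => (fun k => ((u k : ℤ) : ℚ)) ∈ LinearMap.range f)
            ?_ ?_ (fun a c _ _ ha hc => ?_) (fun t u _ hu => ?_) hu
          · rintro _ ⟨j, rfl⟩
            refine ⟨(N : ℚ) • Pi.single j 1, ?_⟩
            ext k
            simp only [f, map_smul, Matrix.toLin'_apply, Matrix.mulVec_single_one, Pi.smul_apply,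
              smul_eq_mul, Matrix.col_apply, P, Matrix.of_apply]
            field_simp
          · convert Submodule.zero_mem (LinearMap.range f)
            simp
          · convert Submodule.add_mem _ ha hc using 1
            ext k; simp
          · convert Submodule.smul_mem _ (t : ℚ) hu using 1
            ext k; simp
        exact hsub _ (bas i).2
      have := (LinearIndependent.of_comp (LinearMap.range f).subtype
        (v := fun i => (⟨v i, hmem i⟩ : LinearMap.range f)) hv).fintype_card_le_finrank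
      simpa using this
    exact_mod_cast le_trans (show (r : ℚ) ≤ _ by exact_mod_cast h3) h2
  -- integral coordinates
  choose co hco using fun i => show ∃ c : Fin r → ℤ, ∑ l, c l • (bas l : ι → ℤ) = fun k => C k i from
    ⟨fun l => bas.repr ⟨_, Submodule.subset_span ⟨i, rfl⟩⟩ l, by
      have := congrArg L.subtype (bas.sum_repr ⟨_, Submodule.subset_span ⟨i, rfl⟩⟩)
      simp only [map_sum, map_smul, Submodule.subtype_apply] at this
      exact this⟩
  -- the inner products are multiples of `N`
  set ip : (ι → ℤ) → (ι → ℤ) → ℤ := fun u w => ∑ k, u k * w k with hip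
  have hdvd : ∀ u ∈ L, ∀ w ∈ L, N ∣ ip u w := by
    intro u hu w hw
    refine Submodule.span_induction (p := fun u _ => N ∣ ip u w) ?_ (by simp [hip])
      (fun a c _ _ ha hc => by simpa [hip, add_mul, Finset.sum_add_distrib] using dvd_add ha hc)
      (fun t u _ hu => by simpa [hip, mul_assoc, ← Finset.mul_sum] using dvd_mul_of_dvd_right hu t) hu
    rintro _ ⟨i, rfl⟩
    refine Submodule.span_induction (p := fun w _ => N ∣ ip (fun k => C k i) w) ?_ (by simp [hip])
      (fun a c _ _ ha hc => by simpa [hip, mul_add, Finset.sum_add_distrib] using dvd_add ha hc)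
      (fun t u _ hu => by simpa [hip, mul_left_comm, ← Finset.mul_sum] using dvd_mul_of_dvd_right hu t) hw
    rintro _ ⟨j, rfl⟩
    exact ⟨C i j, by simp only [hip, hsymm _ i]; exact hmul i j⟩
  have hC : ∀ i j, ip (fun k => C k i) (fun k => C k j) = N * C i j := fun i j => by
    simp only [hip, hsymm _ i]; exact hmul i j
  -- two vectors carrying all columns
  have hcase : ∃ (u1 u2 : ι → ℤ) (x y : ι → ℤ), u1 ∈ L ∧ u2 ∈ L ∧
      (∀ i, (fun k => C k i) = x i • u1 + y i • u2) ∧
      ((∀ a c : ℤ, a • u1 + c • u2 = 0 → a = 0 ∧ c = 0) ∨ ((∀ i, y i = 0) ∧ (u1 ≠ 0 ∨ ∀ i, x i = 0))) := by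
    match r, hr with
    | 0, _ =>
      exact ⟨0, 0, 0, 0, L.zero_mem, L.zero_mem, fun i => by rw [← hco i]; simp,
        Or.inr ⟨fun _ => rfl, Or.inr fun _ => rfl⟩⟩
    | 1, _ =>
      exact ⟨bas 0, 0, fun i => co i 0, 0, (bas 0).2, L.zero_mem, fun i => by rw [← hco i]; simp,
        Or.inr ⟨fun _ => rfl, Or.inl fun h => bas.ne_zero 0 (Subtype.ext h)⟩⟩
    | 2, _ =>
      refine ⟨bas 0, bas 1, fun i => co i 0, fun i => co i 1, (bas 0).2, (bas 1).2,
        fun i => by rw [← hco i, Fin.sum_univ_two], Or.inl fun a c h => ?_⟩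
      have h' := Fintype.linearIndependent_iff.1 bas.linearIndependent ![a, c] (by
        apply Subtype.ext
        simpa [Fin.sum_univ_two] using h)
      exact ⟨by simpa using h' 0, by simpa using h' 1⟩
  obtain ⟨u1, u2, x, y, h1, h2, hcol, hind⟩ := hcase
  obtain ⟨A, hA⟩ := hdvd u1 h1 u1 h1
  obtain ⟨B, hB⟩ := hdvd u1 h1 u2 h2
  obtain ⟨D, hD⟩ := hdvd u2 h2 u2 h2
  have hbil : ∀ a c a' c' : ℤ, ip (a • u1 + c • u2) (a' • u1 + c' • u2) =
      N * (A * (a * a') + B * (a * c' + c * a') + D * (c * c')) := by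
    intro a c a' c'
    have : ip (a • u1 + c • u2) (a' • u1 + c' • u2) =
        a * a' * ip u1 u1 + (a * c' + c * a') * ip u1 u2 + c * c' * ip u2 u2 := by
      simp only [hip, Finset.mul_sum, ← Finset.sum_add_distrib, Pi.add_apply, Pi.smul_apply, smul_eq_mul]
      exact Finset.sum_congr rfl fun k _ => by ring
    rw [this, hA, hB, hD]; ring
  have hval : ∀ i j, C i j = val A B D x y i j := fun i j => by
    have h := hC i j
    rw [hcol i, hcol j, hbil] at h
    exact (mul_left_cancel₀ hN.ne' h).symm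
  have hipos : ∀ u : ι → ℤ, u ≠ 0 → 0 < ip u u := fun u hu => by
    obtain ⟨k, hk⟩ := Function.ne_iff.1 hu
    exact Finset.sum_pos' (fun _ _ => mul_self_nonneg _) ⟨k, Finset.mem_univ _, mul_self_pos.2 hk⟩
  rcases hind with hind | ⟨hy, hx⟩
  · have hpos : ∀ a c : ℤ, (a ≠ 0 ∨ c ≠ 0) → 0 < A * (a * a) + 2 * B * (a * c) + D * (c * c) := by
      intro a c hac
      have h := hipos (a • u1 + c • u2) fun h0 => by
        obtain ⟨ha, hc⟩ := hind a c h0; exact hac.elim (· ha) (· hc)
      rw [hbil] at h
      have := (pos_iff_pos_of_mul_pos h).1 hN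
      linarith
    obtain ⟨A', B', D', x', y', g1, g2, g3, g4⟩ :=
      reduce (A + D).toNat A B D x y hpos (Int.self_le_toNat _)
    exact ⟨A', B', D', x', y', g1, g2, g3, fun i j => (hval i j).trans (g4 i j)⟩
  · rcases hx with hu | hx
    · have hApos : 0 < A := (pos_iff_pos_of_mul_pos (hA ▸ hipos u1 hu)).1 hN
      refine ⟨A, 0, A, x, 0, hApos, by simpa using hApos.le, le_rfl, fun i j => ?_⟩
      rw [hval]; simp [val, hy]
    · refine ⟨1, 0, 1, x, y, one_pos, by simp, le_rfl, fun i j => ?_⟩
      rw [hval]; simp [val, hy, hx]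

end CfsgLib.Blk4.BinaryForm
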