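import Cfsg.Agent.Lib.Blk4.CentralizedPQuot
import Cfsg.Agent.Lib.Characters.Ramified
import Cfsg.Agent.Lib.Characters.Scalar

/-!
# Characters and blocks of central products
-/

set_option autoImplicit false
set_option linter.unusedSectionVars false
set_option linter.style.haveILetI false

noncomputable section

namespace CfsgLib.Blk4.CentralProduct

open Cfsg CfsgLib.Characters CfsgLib.Blocks CfsgLib.PrincipalSq
open scoped ComplexConjugate

universe u

variable {G : Type u} [Group G]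

theorem exists_mul (U V : Subgroup G) (hcomm : ∀ u ∈ U, ∀ v ∈ V, u * v = v * u)
    (hgen : U ⊔ V = ⊤) (g : G) : ∃ (a : U) (b : V), g = a * b := by
  refine Subgroup.closure_induction (k := (U : Set G) ∪ V)
    (p := fun g _ => ∃ (a : U) (b : V), g = a * b) ?_ ?_ ?_ ?_
    (x := g) (by rw [← Subgroup.sup_eq_closure, hgen]; trivial)
  · rintro x (hx | hx)
    · exact ⟨⟨x, hx⟩, 1, by simp⟩
    · exact ⟨1, ⟨x, hx⟩, by simp⟩
  · exact ⟨1, 1, by simp⟩
  · rintro x y _ _ ⟨a, b, rfl⟩ ⟨a', b', rfl⟩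
    refine ⟨a * a', b * b', ?_⟩
    rw [Subgroup.coe_mul, Subgroup.coe_mul, mul_assoc, ← mul_assoc (b : G),
      ← hcomm a' a'.2 b b.2]
    group
  · rintro x _ ⟨a, b, rfl⟩
    refine ⟨a⁻¹, b⁻¹, ?_⟩
    rw [mul_inv_rev, Subgroup.coe_inv, Subgroup.coe_inv]
    exact (hcomm _ (U.inv_mem a.2) _ (V.inv_mem b.2)).symm

theorem normal_left (U V : Subgroup G) (hcomm : ∀ u ∈ U, ∀ v ∈ V, u * v = v * u)
    (hgen : U ⊔ V = ⊤) : U.Normal := ⟨fun x hx g => by
  obtain ⟨a, b, rfl⟩ := exists_mul U V hcomm hgen g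
  have : (a : G) * b * x * ((a : G) * b)⁻¹ = a * x * (a : G)⁻¹ := by
    rw [mul_assoc (a : G) (b : G) x, ← hcomm x hx b b.2]; group
  rw [this]
  exact U.mul_mem (U.mul_mem a.2 hx) (U.inv_mem a.2)⟩

variable [Fintype G] {p : ℕ} [Fact p.Prime] {M : Ideal AlgInt} (U V : Subgroup G) [Fintype U]
  [Fintype V] (hcomm : ∀ u ∈ U, ∀ v ∈ V, u * v = v * u) (hgen : U ⊔ V = ⊤)

include hcomm hgen

/-- Values on the first factor are those of the constituent. -/
theorem ratio_left (χ : IrrCharacter G) (ψ : IrrCharacter U)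
    (h : classInner (fun u : U => (χ : G → ℂ) u) (ψ : U → ℂ) ≠ 0) (u : U) :
    (χ : G → ℂ) u / (χ : G → ℂ) 1 = (ψ : U → ℂ) u / (ψ : U → ℂ) 1 := by
  haveI := normal_left U V hcomm hgen
  have hres := CfsgLib.Ramified.res_eq_smul_of_invariant U χ.2 ψ.2 (fun g n => by
    obtain ⟨a, b, rfl⟩ := exists_mul U V hcomm hgen g
    rw [← irr_isClassFunction ψ n a]
    refine congrArg _ (Subtype.ext ?_)
    show (a : G) * b * n * ((a : G) * b)⁻¹ = a * n * (a : G)⁻¹
    rw [mul_assoc (a : G) (b : G) n, ← hcomm n n.2 b b.2]; group) h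
  have h1 := congrFun hres u
  have h2 := congrFun hres 1
  simp only [Pi.smul_apply, smul_eq_mul, OneMemClass.coe_one] at h1 h2
  rw [h1, h2, mul_div_mul_left _ _ h]

/-- The product formula. -/
theorem value_mul (χ : IrrCharacter G) (u : U) (v : V) :
    (χ : G → ℂ) ((u : G) * v) =
      (χ : G → ℂ) u * ((χ : G → ℂ) v / (χ : G → ℂ) 1) := by
  obtain ⟨χ, n, ρ, hρ, rfl⟩ := χ
  haveI := hρ
  show ρ.character ((u : G) * v) = ρ.character u * (ρ.character v / ρ.character 1)
  set K : Module.End ℂ (Fin n → ℂ) := ∑ b : V, ρ ((b : G) * v * (b : G)⁻¹) with hK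
  have hKc : ∀ g, K * ρ g = ρ g * K := by
    intro g
    obtain ⟨a, b, rfl⟩ := exists_mul U V hcomm hgen g
    simp only [hK, Finset.sum_mul, Finset.mul_sum, ← map_mul]
    refine (Fintype.sum_equiv (Equiv.mulLeft b) _ _ fun c => ?_).symm
    congr 1
    have hm : ((b * c : V) : G) * v * ((b * c : V) : G)⁻¹ ∈ V :=
      V.mul_mem (V.mul_mem (b * c).2 v.2) (V.inv_mem (b * c).2)
    rw [Equiv.coe_mulLeft, ← mul_assoc _ (a : G) (b : G), ← hcomm a a.2 _ hm]
    simp only [Subgroup.coe_mul]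
    group
  obtain ⟨c, hc⟩ := CfsgLib.CharScalar.exists_scalar ρ K hKc
  have h1 : LinearMap.trace ℂ _ K = (Fintype.card V : ℂ) * ρ.character v := by
    rw [hK, map_sum]
    show ∑ b : V, ρ.character ((b : G) * v * (b : G)⁻¹) = _
    rw [Finset.sum_congr rfl (g := fun _ => ρ.character v) fun (b : V) _ =>
      Representation.char_conj ρ (v : G) (b : G), Finset.sum_const, Finset.card_univ, nsmul_eq_mul]
  have h1' : LinearMap.trace ℂ _ K = c * ρ.character 1 := by
    rw [hc, map_smul, smul_eq_mul, LinearMap.trace_one, Representation.char_one]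
  have h2 : LinearMap.trace ℂ _ (ρ u * K) =
      (Fintype.card V : ℂ) * ρ.character ((u : G) * v) := by
    rw [hK, Finset.mul_sum, map_sum, Finset.sum_congr rfl
      (g := fun _ => ρ.character ((u : G) * v)) fun b _ => by
        rw [← map_mul, ← Representation.char_conj ρ ((u : G) * v) (b : G)]
        show ρ.character _ = ρ.character _
        congr 1
        rw [← mul_assoc (b : G) (u : G) (v : G), ← hcomm u u.2 b b.2]
        group, Finset.sum_const, Finset.card_univ, nsmul_eq_mul]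
  have h2' : LinearMap.trace ℂ _ (ρ u * K) = c * ρ.character u := by
    rw [hc, mul_smul_comm, mul_one, map_smul, smul_eq_mul]; rfl
  have h0 : ρ.character 1 ≠ 0 := irr_one_ne_zero ⟨_, n, ρ, hρ, rfl⟩
  have hc' : c = (Fintype.card V : ℂ) * (ρ.character v / ρ.character 1) := by
    rw [← mul_div_assoc, eq_div_iff h0, ← h1', h1]
  rw [hc', h2] at h2'
  exact mul_left_cancel₀ (Nat.cast_ne_zero.2 Fintype.card_ne_zero) (by rw [h2']; ring)

/-- Class sizes in the first factor. -/
theorem index_left (u : U) :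
    (Subgroup.centralizer ({(u : G)} : Set G)).index =
      (Subgroup.centralizer ({u} : Set U)).index := by
  rw [← CfsgLib.Blocks.natCard_isConj, ← CfsgLib.Blocks.natCard_isConj]
  refine (Nat.card_congr (Equiv.ofBijective (fun x : {x : U // IsConj u x} =>
    (⟨(x.1 : G), U.subtype.map_isConj x.2⟩ : {x : G // IsConj (u : G) x})) ⟨?_, ?_⟩)).symm
  · intro a b h
    exact Subtype.ext (Subtype.ext (congrArg (fun x : {x : G // IsConj (u : G) x} => (x : G)) h))
  · rintro ⟨y, hy⟩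
    obtain ⟨g, hg⟩ := isConj_iff.1 hy
    obtain ⟨a, b, rfl⟩ := exists_mul U V hcomm hgen g
    have e : (a : G) * u * (a : G)⁻¹ = y := by
      rw [← hg, mul_assoc (a : G) (b : G) (u : G), ← hcomm u u.2 b b.2]; group
    exact ⟨⟨a * u * a⁻¹, isConj_iff.2 ⟨a, rfl⟩⟩, Subtype.ext (by simpa using e)⟩

/-- Class sizes of products of regular elements. -/
theorem index_mul (hZ : IsPGroup p ↥(U ⊓ V)) (u : U) (v : V) (hu : IsPRegular p (u : G)) :
    (Subgroup.centralizer ({(u : G) * v} : Set G)).index =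
      (Subgroup.centralizer ({u} : Set U)).index * (Subgroup.centralizer ({v} : Set V)).index := by
  rw [← CfsgLib.Blocks.natCard_isConj, ← CfsgLib.Blocks.natCard_isConj,
    ← CfsgLib.Blocks.natCard_isConj, ← Nat.card_prod]
  have hconj : ∀ (a : U) (b : V),
      ((a : G) * b) * ((u : G) * v) * ((a : G) * b)⁻¹ =
        ((a * u * a⁻¹ : U) : G) * ((b * v * b⁻¹ : V) : G) := by
    intro a b
    simp only [Subgroup.coe_mul, Subgroup.coe_inv]
    have h1 := hcomm u u.2 b b.2
    have h2 : (a : G)⁻¹ * ((b : G) * v * (b : G)⁻¹) = ((b : G) * v * (b : G)⁻¹) * (a : G)⁻¹ :=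
      hcomm _ (U.inv_mem a.2) _ (V.mul_mem (V.mul_mem b.2 v.2) (V.inv_mem b.2))
    calc (a : G) * b * ((u : G) * v) * ((a : G) * b)⁻¹
        = (a : G) * ((b : G) * u) * v * (b : G)⁻¹ * (a : G)⁻¹ := by group
      _ = (a : G) * u * (((b : G) * v * (b : G)⁻¹) * (a : G)⁻¹) := by rw [← h1]; group
      _ = _ := by rw [← h2]; group
  refine (Nat.card_congr (Equiv.ofBijective
    (fun x : {x : U // IsConj u x} × {y : V // IsConj v y} =>
      (⟨(x.1.1 : G) * x.2.1, by
        obtain ⟨a, ha⟩ := isConj_iff.1 x.1.2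
        obtain ⟨b, hb⟩ := isConj_iff.1 x.2.2
        exact isConj_iff.2 ⟨(a : G) * b, by rw [hconj, ha, hb]⟩⟩ :
          {z : G // IsConj ((u : G) * v) z})) ⟨?_, ?_⟩)).symm
  · rintro ⟨⟨a, ha⟩, ⟨b, hb⟩⟩ ⟨⟨a', ha'⟩, ⟨b', hb'⟩⟩ h
    have h' : (a : G) * b = (a' : G) * b' := congrArg Subtype.val h
    have hord : ∀ x : U, IsConj u x → IsPRegular p (x : G) := by
      intro x hx
      obtain ⟨c, rfl⟩ := isConj_iff.1 hx
      intro hd
      apply hu
      rwa [Subgroup.coe_mul, Subgroup.coe_mul, Subgroup.coe_inv, ← MulAut.conj_apply,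
        MulEquiv.orderOf_eq] at hd
    set z := (a : G)⁻¹ * a' with hz
    have hzV : z ∈ V := by
      have e : z = (b : G) * (b' : G)⁻¹ := by
        calc z = (a : G)⁻¹ * ((a' : G) * b') * (b' : G)⁻¹ := by rw [hz]; group
          _ = _ := by rw [← h']; group
      rw [e]; exact V.mul_mem b.2 (V.inv_mem b'.2)
    have hzU : z ∈ U := U.mul_mem (U.inv_mem a.2) a'.2
    have hc : Commute (a : G)⁻¹ (a' : G) := by
      have h1 : (a : G) * z = z * a := hcomm a a.2 z hzV
      show (a : G)⁻¹ * a' = a' * (a : G)⁻¹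
      have h2 : (a' : G) = z * a := by rw [← h1, hz]; group
      rw [← hz, h2]; group
    obtain ⟨k, hk⟩ := IsPGroup.iff_orderOf.1 hZ ⟨z, hzU, hzV⟩
    rw [← orderOf_injective (U ⊓ V).subtype (U ⊓ V).subtype_injective, Subgroup.coe_subtype] at hk
    have hd : orderOf z ∣ orderOf (a : G) * orderOf (a' : G) := by
      refine orderOf_dvd_of_pow_eq_one ?_
      rw [hz, hc.mul_pow, pow_mul, inv_pow, pow_orderOf_eq_one, pow_mul', pow_orderOf_eq_one,
        inv_one, one_pow, one_pow, one_mul]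
    have hz1 : orderOf z = 1 := Nat.eq_one_of_dvd_coprimes
      (Nat.Coprime.pow_left k (((Fact.out : p.Prime).coprime_iff_not_dvd).2 fun hd => by
        rcases (Fact.out : p.Prime).dvd_mul.1 hd with hd | hd
        · exact hord a ha hd
        · exact hord a' ha' hd)) (hk ▸ dvd_rfl) hd
    have haa : a = a' := Subtype.ext (inv_mul_eq_one.1 (orderOf_eq_one_iff.1 hz1))
    subst haa
    have hbb : b = b' := Subtype.ext (mul_left_cancel h')
    subst hbb
    rfl
  · rintro ⟨y, hy⟩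
    obtain ⟨g, hg⟩ := isConj_iff.1 hy
    obtain ⟨a, b, rfl⟩ := exists_mul U V hcomm hgen g
    exact ⟨(⟨a * u * a⁻¹, isConj_iff.2 ⟨a, rfl⟩⟩, ⟨b * v * b⁻¹, isConj_iff.2 ⟨b, rfl⟩⟩),
      Subtype.ext (show ((a * u * a⁻¹ : U) : G) * ((b * v * b⁻¹ : V) : G) = y from (hconj a b).symm.trans hg)⟩

/-- Regular elements split into regular factors. -/
theorem exists_regular_mul {g : G} (hg : IsPRegular p g) :
    ∃ (u : U) (v : V), g = u * v ∧ IsPRegular p (u : G) ∧ IsPRegular p (v : G) := by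
  obtain ⟨a, b, rfl⟩ := exists_mul U V hcomm hgen g
  obtain ⟨i, m, hm, hn⟩ :=
    Nat.exists_eq_pow_mul_and_not_dvd (Nat.card_pos (α := G)).ne' p (Fact.out : p.Prime).ne_one
  have hco : Nat.Coprime (p ^ i) m := (((Fact.out : p.Prime).coprime_iff_not_dvd).2 hm).pow_left i
  obtain ⟨e, he0, he1⟩ := Nat.chineseRemainder hco 0 1
  have hord : ∀ x : G, IsPRegular p (x ^ e) := by
    intro x hd
    obtain ⟨c, hc⟩ := Nat.modEq_zero_iff_dvd.1 he0
    have h1 : (x ^ e) ^ m = 1 := by
      rw [← pow_mul, hc, mul_right_comm, ← hn, pow_mul, pow_card_eq_one', one_pow]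
    exact hm (hd.trans (orderOf_dvd_of_pow_eq_one h1))
  have hgm : orderOf ((a : G) * b) ∣ m :=
    (Nat.Coprime.pow_right i ((((Fact.out : p.Prime).coprime_iff_not_dvd).2 hg).symm)).dvd_of_dvd_mul_left
      (hn ▸ orderOf_dvd_natCard _)
  have he : ((a : G) * b) ^ e = (a : G) * b := by
    conv_rhs => rw [← pow_one ((a : G) * b)]
    exact pow_eq_pow_iff_modEq.2 (he1.of_dvd hgm)
  refine ⟨a ^ e, b ^ e, ?_, ?_, ?_⟩
  · rw [SubmonoidClass.coe_pow, SubmonoidClass.coe_pow,
      ← (show Commute (a : G) b from hcomm a a.2 b b.2).mul_pow, he]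
  · rw [SubmonoidClass.coe_pow]; exact hord _
  · rw [SubmonoidClass.coe_pow]; exact hord _

/-- A member of the principal block has its constituent there. -/
theorem principal_left (χ : IrrCharacter G) (ψ : IrrCharacter U)
    (h : classInner (fun u : U => (χ : G → ℂ) u) (ψ : U → ℂ) ≠ 0)
    (hχ : χ ∈ principalBlock M G) : ψ ∈ principalBlock M U := by
  intro u
  have h1 := hχ (u : G)
  rw [centralChar_principal] at h1 ⊢
  rw [centralChar, index_left U V hcomm hgen u, mul_div_assoc,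
    ratio_left U V hcomm hgen χ ψ h u] at h1
  rwa [centralChar, mul_div_assoc]

end CfsgLib.Blk4.CentralProduct
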