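import Cfsg.Agent.Lib.Blocks.RankOrth
import Cfsg.Agent.Lib.Blocks.PrincipalSq
import Cfsg.Agent.Lib.BlockCover.Basic
import Cfsg.Agent.Lib.Characters.PermChar
import Cfsg.Agent.Lib.Characters.Decomp
import Cfsg.Agent.Lib.Chars17.IrrBasic

/-!
# Principal blocks modulo a centralised normal `p`-subgroup

If `G = Q C_G(Q)` for a normal `p`-subgroup `Q`, the principal blocks of `G` and `G / Q` have the
same `p`-regular rank.
-/

set_option autoImplicit false
set_option linter.unusedSectionVars false
set_option linter.style.haveILetI false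

noncomputable section

namespace CfsgLib.Blk4.CentralizedPQuot

open Cfsg CfsgLib.Characters CfsgLib.Blocks CfsgLib.PrincipalSq
open scoped ComplexConjugate

universe u

variable {p : ℕ} {M : Ideal AlgInt}

/-- Congruences on the `p`-regular classes suffice for the principal block. -/
theorem mem_principal_of_regular {G : Type u} [Group G] [Fintype G] (hM : IsPModular p M)
    (χ : IrrCharacter G)
    (h : ∀ g : G, IsPRegular p g →
      MemLocalIdeal M (centralChar (fun _ : G => (1 : ℂ)) g - centralChar (χ : G → ℂ) g)) :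
    χ ∈ principalBlock M G := by
  classical
  by_contra hχ
  have hB : IsPBlock M (principalBlock M G) := isPBlock_principalBlock M
  have h0 := CfsgLib.BlockCover.sum_blockCoeff_mul (principalBlock M G) χ
  rw [if_neg hχ] at h0
  have h1 := CfsgLib.BlockCover.sum_blockCoeff_mul (principalBlock M G) (principalIrr G)
  rw [if_pos (show principalIrr G ∈ principalBlock M G from mem_blockOf_self hM (principalIrr G))]
    at h1
  simp only [principalIrr_apply, mul_one, div_one] at h1
  have key := CfsgLib.BlockCover.congr_of_classes hM (X := G) ConjClasses.mk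
    (fun c => blockCoeff (principalBlock M G) c.out)
    (fun c => memLocalRing_blockCoeff hM hB _)
    (fun x => if IsPRegular p x then 1 - (χ : G → ℂ) x / (χ : G → ℂ) 1 else 0) fun c => by
    obtain ⟨g, rfl⟩ := ConjClasses.mk_surjective c
    have hreg : ∀ x ∈ Finset.univ.filter (fun x => ConjClasses.mk x = ConjClasses.mk g),
        (if IsPRegular p x then 1 - (χ : G → ℂ) x / (χ : G → ℂ) 1 else (0 : ℂ)) =
          (if IsPRegular p g then 1 - (χ : G → ℂ) g / (χ : G → ℂ) 1 else 0) := by
      intro x hx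
      obtain ⟨w, hw⟩ := isConj_iff.1 (ConjClasses.mk_eq_mk_iff_isConj.1 (Finset.mem_filter.1 hx).2)
      have ho : orderOf g = orderOf x := by
        rw [← hw]
        exact ((MulAut.conj w).orderOf_eq x)
      rw [← hw, irr_isClassFunction χ x w]
      simp only [IsPRegular, hw, ho]
      by_cases hpx : p ∣ orderOf x <;> simp [hpx]
    rw [Finset.sum_congr rfl hreg, Finset.sum_const, nsmul_eq_mul]
    split_ifs with hg
    · have e : (Finset.univ.filter (fun x => ConjClasses.mk x = ConjClasses.mk g)).card =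
          (Subgroup.centralizer ({g} : Set G)).index := by
        rw [← CfsgLib.Blocks.natCard_isConj, Nat.card_eq_fintype_card, Fintype.card_subtype]
        congr 1
        ext x
        simp only [Finset.mem_filter, Finset.mem_univ, true_and, ConjClasses.mk_eq_mk_iff_isConj]
        exact isConj_comm
      have := h g hg
      rw [centralChar_principal] at this
      convert this using 1
      rw [e, centralChar]
      ring
    · rw [mul_zero]; exact CfsgLib.Blocks.memLocalIdeal_zero hM
  refine CfsgLib.Blocks.not_memLocalIdeal_one hM ?_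
  convert key using 1
  have e : ∀ x : G, blockCoeff (principalBlock M G) (ConjClasses.mk x).out *
      (if IsPRegular p x then 1 - (χ : G → ℂ) x / (χ : G → ℂ) 1 else 0) =
      blockCoeff (principalBlock M G) x -
        blockCoeff (principalBlock M G) x * (χ : G → ℂ) x / (χ : G → ℂ) 1 := by
    intro x
    rw [blockCoeff_of_isConj _ (ConjClasses.mk_eq_mk_iff_isConj.1 (Quotient.out_eq (ConjClasses.mk x)))]
    by_cases hx : IsPRegular p x
    · rw [if_pos hx]; ring
    · rw [if_neg hx, blockCoeff_eq_zero_of_singular hM hB (not_not.1 hx)]; ring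
  rw [Finset.sum_congr rfl (fun x _ => e x), Finset.sum_sub_distrib, ← Finset.sum_div, h0, h1,
    sub_zero]

variable {G : Type u} [Group G] [Fintype G] [Fact p.Prime] (Q : Subgroup G) [Q.Normal]
  (hQ : IsPGroup p Q) (hsup : Q ⊔ Subgroup.centralizer (Q : Set G) = ⊤)

include hQ hsup

theorem mem_centralizer_of_regular {x : G} (hx : IsPRegular p x) :
    x ∈ Subgroup.centralizer (Q : Set G) := by
  set C := Subgroup.centralizer (Q : Set G)
  haveI : C.Normal := Subgroup.normal_centralizer
  obtain ⟨q, hq, c, hc, rfl⟩ := Subgroup.mem_sup_of_normal_left.1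
    (hsup ▸ Subgroup.mem_top x : x ∈ Q ⊔ C)
  obtain ⟨k, hk⟩ := IsPGroup.iff_orderOf.1 hQ ⟨q, hq⟩
  rw [← orderOf_injective Q.subtype Q.subtype_injective, Subgroup.coe_subtype] at hk
  have e : ((q * c : G) : G ⧸ C) = (q : G ⧸ C) := by
    rw [QuotientGroup.mk_mul, (QuotientGroup.eq_one_iff c).2 hc, mul_one]
  have h1 : orderOf (q : G ⧸ C) ∣ p ^ k := hk ▸ orderOf_map_dvd (QuotientGroup.mk' C) q
  have h2 : orderOf (q : G ⧸ C) ∣ orderOf (q * c) := by
    rw [← e]; exact orderOf_map_dvd (QuotientGroup.mk' C) _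
  have h3 := Nat.eq_one_of_dvd_coprimes
    ((((Fact.out : p.Prime).coprime_iff_not_dvd).2 hx).pow_left k) h1 h2
  rw [← QuotientGroup.eq_one_iff, e]
  exact orderOf_eq_one_iff.1 h3

theorem regular_unique {x y : G} (hx : IsPRegular p x) (hy : IsPRegular p y)
    (h : (x : G ⧸ Q) = (y : G ⧸ Q)) : x = y := by
  have hq : x⁻¹ * y ∈ Q := QuotientGroup.eq.1 h
  set q := x⁻¹ * y with hqdef
  have hyx : y = x * q := by rw [hqdef, mul_inv_cancel_left]
  have hcomm : Commute x q :=
    ((mem_centralizer_of_regular Q hQ hsup hx) q hq).symm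
  obtain ⟨k, hk⟩ := IsPGroup.iff_orderOf.1 hQ ⟨q, hq⟩
  rw [← orderOf_injective Q.subtype Q.subtype_injective, Subgroup.coe_subtype] at hk
  have h1 : q ^ (orderOf x * orderOf y) = 1 := by
    have h2 : y ^ (orderOf x * orderOf y) = 1 := by
      rw [pow_mul', pow_orderOf_eq_one, one_pow]
    have h3 : x ^ (orderOf x * orderOf y) = 1 := by
      rw [pow_mul, pow_orderOf_eq_one, one_pow]
    rwa [hyx, hcomm.mul_pow, ← hyx, h3, one_mul] at h2
  have h4 : orderOf q = 1 := Nat.eq_one_of_dvd_coprimes
    (Nat.Coprime.pow_left k (((Fact.out : p.Prime).coprime_iff_not_dvd).2 fun hd => by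
      rcases (Fact.out : p.Prime).dvd_mul.1 hd with hd | hd
      · exact hx hd
      · exact hy hd)) (hk ▸ dvd_rfl) (orderOf_dvd_of_pow_eq_one h1)
  rw [hyx, orderOf_eq_one_iff.1 h4, mul_one]

omit hQ hsup in
theorem regular_mk {x : G} (hx : IsPRegular p x) : IsPRegular p (x : G ⧸ Q) := fun h =>
  hx (h.trans (orderOf_map_dvd (QuotientGroup.mk' Q) x))

omit hQ hsup in
theorem exists_regular_lift {q : G ⧸ Q} (hq : IsPRegular p q) :
    ∃ x : G, IsPRegular p x ∧ (x : G ⧸ Q) = q := by
  obtain ⟨g, rfl⟩ := QuotientGroup.mk_surjective q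
  obtain ⟨u, v, huv, -, hu, -, ⟨a, ha⟩, hv⟩ :=
    CfsgLib.PermChar.exists_p_decomp (Fact.out : p.Prime) g
  have hvr : IsPRegular p v := fun h =>
    (Fact.out : p.Prime).coprime_iff_not_dvd.1 hv.symm h
  refine ⟨v, hvr, ?_⟩
  obtain ⟨i, rfl⟩ := Subgroup.mem_zpowers_iff.1 hu
  have h1 : orderOf ((g ^ i : G) : G ⧸ Q) ∣ p ^ a :=
    (orderOf_map_dvd (QuotientGroup.mk' Q) (g ^ i)).trans ha
  have h2 : orderOf ((g ^ i : G) : G ⧸ Q) ∣ orderOf (g : G ⧸ Q) :=
    orderOf_dvd_of_pow_eq_one (by
      rw [QuotientGroup.mk_zpow, ← zpow_natCast, ← zpow_mul, mul_comm, zpow_mul, zpow_natCast,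
        pow_orderOf_eq_one, one_zpow])
  have h3 := Nat.eq_one_of_dvd_coprimes
    ((((Fact.out : p.Prime).coprime_iff_not_dvd).2 hq).pow_left a) h1 h2
  conv_rhs => rw [huv, QuotientGroup.mk_mul, orderOf_eq_one_iff.1 h3, one_mul]

theorem index_centralizer_regular {x : G} (hx : IsPRegular p x) :
    (Subgroup.centralizer ({(x : G ⧸ Q)} : Set (G ⧸ Q))).index =
      (Subgroup.centralizer ({x} : Set G)).index := by
  rw [← Subgroup.index_comap_of_surjective _ (QuotientGroup.mk'_surjective Q)]
  congr 1
  ext g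
  rw [Subgroup.mem_comap, Subgroup.mem_centralizer_singleton_iff,
    Subgroup.mem_centralizer_singleton_iff, QuotientGroup.mk'_apply]
  constructor
  · intro h
    have hr : IsPRegular p (g * x * g⁻¹) := by
      intro hd
      refine hx ?_
      rwa [← MulAut.conj_apply, MulEquiv.orderOf_eq] at hd
    have := regular_unique Q hQ hsup hr hx (by
      rw [QuotientGroup.mk_mul, QuotientGroup.mk_mul, QuotientGroup.mk_inv, h, mul_inv_cancel_right])
    calc g * x = g * x * g⁻¹ * g := by group
      _ = x * g := by rw [this]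
  · intro h
    rw [← QuotientGroup.mk_mul, h, QuotientGroup.mk_mul]

theorem infl_mem_iff (hM : IsPModular p M) (π : IrrCharacter (G ⧸ Q)) :
    CfsgLib.Chars17.infl Q π ∈ principalBlock M G ↔ π ∈ principalBlock M (G ⧸ Q) := by
  have hone : (CfsgLib.Chars17.infl Q π : G → ℂ) 1 = (π : G ⧸ Q → ℂ) 1 := rfl
  constructor
  · intro h
    haveI := Fintype.ofFinite (G ⧸ Q)
    refine mem_principal_of_regular hM π fun q hq => ?_
    obtain ⟨x, hx, rfl⟩ := exists_regular_lift Q hq
    have h1 := h x
    simp only [centralChar, mul_one, div_one, CfsgLib.Chars17.infl_apply, QuotientGroup.mk_one]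
      at h1 ⊢
    rwa [index_centralizer_regular Q hQ hsup hx]
  · intro h
    refine mem_principal_of_regular hM _ fun g hg => ?_
    have h1 := h (g : G ⧸ Q)
    simp only [centralChar, mul_one, div_one, CfsgLib.Chars17.infl_apply, QuotientGroup.mk_one]
      at h1 ⊢
    rwa [← index_centralizer_regular Q hQ hsup hg]

/-- The principal blocks have equal `p`-regular rank. -/
theorem blockRank_eq (hM : IsPModular p M) :
    blockRank p (principalBlock M G) = blockRank p (principalBlock M (G ⧸ Q)) := by
  classical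
  haveI := Fintype.ofFinite (G ⧸ Q)
  choose lift hliftr hlift using fun (q : G ⧸ Q) (hq : IsPRegular p q) =>
    exists_regular_lift Q hq
  let Φ : (G ⧸ Q → ℂ) →ₗ[ℂ] (G → ℂ) :=
    { toFun := fun F g => if IsPRegular p g then F g else 0
      map_add' := fun a b => funext fun g => by simp only [Pi.add_apply]; split_ifs <;> simp
      map_smul' := fun c a => funext fun g => by simp }
  let Ψ : (G → ℂ) →ₗ[ℂ] (G ⧸ Q → ℂ) :=
    { toFun := fun f q => if h : IsPRegular p q then f (lift q h) else 0
      map_add' := fun a b => funext fun q => by simp only [Pi.add_apply]; split_ifs <;> simp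
      map_smul' := fun c a => funext fun q => by simp }
  set S := (fun χ : IrrCharacter G => pRegularPart p (χ : G → ℂ)) '' principalBlock M G with hS
  set S' := (fun π : IrrCharacter (G ⧸ Q) => pRegularPart p (π : G ⧸ Q → ℂ)) ''
    principalBlock M (G ⧸ Q) with hS'
  have hΦπ : ∀ π : IrrCharacter (G ⧸ Q), Φ (pRegularPart p (π : G ⧸ Q → ℂ)) =
      pRegularPart p (CfsgLib.Chars17.infl Q π : G → ℂ) := by
    intro π
    funext g
    show (if IsPRegular p g then pRegularPart p (π : G ⧸ Q → ℂ) g else 0) = _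
    simp only [pRegularPart, CfsgLib.Chars17.infl_apply]
    split_ifs with h h' <;> first | rfl | exact absurd (regular_mk Q h) h'
  have hΨΦ : ∀ π : IrrCharacter (G ⧸ Q), Ψ (Φ (pRegularPart p (π : G ⧸ Q → ℂ))) =
      pRegularPart p (π : G ⧸ Q → ℂ) := by
    intro π
    funext q
    show (if h : IsPRegular p q then
      (if IsPRegular p (lift q h) then pRegularPart p (π : G ⧸ Q → ℂ) (lift q h) else 0) else 0) = _
    split_ifs with h h'
    · rw [hlift q h]
    · exact absurd (hliftr q h) h'
    · simp [pRegularPart, h]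
  have hspan : ∀ χ ∈ principalBlock M G, ∃ c : IrrCharacter (G ⧸ Q) → ℂ,
      (∀ π, c π ≠ 0 → π ∈ principalBlock M (G ⧸ Q)) ∧
      pRegularPart p (χ : G → ℂ) = Φ (∑ π, c π • pRegularPart p (π : G ⧸ Q → ℂ)) := by
    intro χ hχ
    let F : G ⧸ Q → ℂ := fun q => if h : IsPRegular p q then (χ : G → ℂ) (lift q h) else 0
    have hFx : ∀ x : G, IsPRegular p x → F x = (χ : G → ℂ) x := fun x hx => by
      simp only [F, dif_pos (regular_mk Q hx)]
      rw [regular_unique Q hQ hsup (hliftr _ _) hx (hlift _ _)]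
    have hFcl : IsClassFunction (G ⧸ Q) F := by
      intro q b
      obtain ⟨a, rfl⟩ := QuotientGroup.mk_surjective b
      by_cases hq : IsPRegular p q
      · obtain ⟨x, hx, rfl⟩ := exists_regular_lift Q hq
        have hr : IsPRegular p (a * x * a⁻¹) := fun hd => hx (by
          rwa [← MulAut.conj_apply, MulEquiv.orderOf_eq] at hd)
        rw [← QuotientGroup.mk_inv, ← QuotientGroup.mk_mul, ← QuotientGroup.mk_mul, hFx x hx,
          hFx _ hr, irr_isClassFunction χ x a]
      · have hq' : ¬ IsPRegular p ((a : G ⧸ Q) * q * (a : G ⧸ Q)⁻¹) := by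
          rw [← MulAut.conj_apply, IsPRegular, MulEquiv.orderOf_eq]; exact hq
        simp only [F, dif_neg hq, dif_neg hq']
    refine ⟨fun π => classInner F (π : G ⧸ Q → ℂ), fun π hπ => ?_, ?_⟩
    · by_contra hπB
      apply hπ
      have hns : ¬ SameBlock M (χ : G → ℂ) (CfsgLib.Chars17.infl Q π : G → ℂ) := fun h =>
        hπB ((infl_mem_iff Q hQ hsup hM π).1 (fun g => by
          have h1 := hχ g
          have h2 := h g
          have := CfsgLib.Blocks.MemLocalIdeal.add hM h1 h2
          rwa [sub_add_sub_cancel] at this))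
      have h0 := sum_regular_eq_zero_of_not_sameBlock hM hns
      show classInner F (π : G ⧸ Q → ℂ) = 0
      rw [classInner, mul_eq_zero]
      right
      rw [← Finset.sum_filter_of_ne (p := fun q : G ⧸ Q => IsPRegular p q) (fun q _ hne => by
        by_contra hq
        simp only [F, dif_neg hq, zero_mul, ne_eq, not_true_eq_false] at hne), ← h0]
      symm
      refine Finset.sum_bij (fun x _ => (x : G ⧸ Q)) (fun x hx => ?_) (fun x hx y hy h => ?_)
        (fun q hq => ?_) (fun x hx => ?_)
      · exact Finset.mem_filter.2 ⟨Finset.mem_univ _, regular_mk Q (Finset.mem_filter.1 hx).2⟩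
      · exact regular_unique Q hQ hsup (Finset.mem_filter.1 hx).2 (Finset.mem_filter.1 hy).2 h
      · obtain ⟨x, hx, rfl⟩ := exists_regular_lift Q (Finset.mem_filter.1 hq).2
        exact ⟨x, Finset.mem_filter.2 ⟨Finset.mem_univ _, hx⟩, rfl⟩
      · rw [hFx x (Finset.mem_filter.1 hx).2, CfsgLib.Chars17.infl_apply]
    · funext g
      show _ = if IsPRegular p g then _ else _
      by_cases hg : IsPRegular p g
      · rw [if_pos hg, pRegularPart, if_pos hg, ← hFx g hg]
        conv_lhs => rw [classFunction_eq_sum hFcl]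
        simp only [Finset.sum_apply, Pi.smul_apply, pRegularPart, if_pos (regular_mk Q hg)]
      · rw [if_neg hg, pRegularPart, if_neg hg]
  have hA : Submodule.span ℂ S ≤ (Submodule.span ℂ S').map Φ := by
    rw [Submodule.span_le]
    rintro _ ⟨χ, hχ, rfl⟩
    obtain ⟨c, hc, he⟩ := hspan χ hχ
    refine ⟨_, Submodule.sum_mem _ fun π _ => ?_, he.symm⟩
    by_cases h0 : c π = 0
    · rw [h0, zero_smul]; exact zero_mem _
    · exact Submodule.smul_mem _ _ (Submodule.subset_span ⟨π, hc π h0, rfl⟩)
  have hB : Submodule.span ℂ S' ≤ (Submodule.span ℂ S).map Ψ := by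
    rw [Submodule.span_le]
    rintro _ ⟨π, hπ, rfl⟩
    refine ⟨Φ (pRegularPart p (π : G ⧸ Q → ℂ)), ?_, hΨΦ π⟩
    rw [hΦπ]
    exact Submodule.subset_span ⟨_, (infl_mem_iff Q hQ hsup hM π).2 hπ, rfl⟩
  exact le_antisymm ((Submodule.finrank_mono hA).trans (Submodule.finrank_map_le _ _))
    ((Submodule.finrank_mono hB).trans (Submodule.finrank_map_le _ _))

end CfsgLib.Blk4.CentralizedPQuot
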