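import Mathlib

/-!
# Chevalley–Warning counts with few equations

When the total degree of a system of polynomial equations does not exceed the number of variables, the
number of solutions modulo the characteristic does not depend on the constants.  Applied to the
coefficients of the characteristic polynomials of `u` and `u x`, this counts, modulo the characteristic,
the unipotent `u` for which `u x` has a given characteristic polynomial.
-/

set_option autoImplicit false
set_option linter.unusedSectionVars false

namespace CfsgLib.Blk4.Chevalley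

open MvPolynomial
open scoped Matrix

variable {F : Type*} [Field F] [Fintype F]

section

variable {σ κ : Type*} [Fintype σ] [DecidableEq σ] [Fintype κ]

/-- The indicator of a fibre as a polynomial. -/
noncomputable def fibrePoly (f : κ → MvPolynomial σ F) (a : κ → F) (k : κ) : MvPolynomial σ F :=
  1 - (f k - C (a k)) ^ (Fintype.card F - 1)

theorem eval_prod_fibrePoly (f : κ → MvPolynomial σ F) (a : κ → F) (v : σ → F)
    [Decidable (∀ k, eval v (f k) = a k)] :
    eval v (∏ k, fibrePoly f a k) = if ∀ k, eval v (f k) = a k then 1 else 0 := by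
  classical
  have hq : Fintype.card F - 1 ≠ 0 := by
    have := Fintype.one_lt_card (α := F)
    omega
  rw [map_prod]
  simp only [fibrePoly, map_sub, map_one, map_pow, eval_C]
  split_ifs with h
  · exact Finset.prod_eq_one fun k _ => by rw [h k, sub_self, zero_pow hq, sub_zero]
  · push Not at h
    obtain ⟨k, hk⟩ := h
    exact Finset.prod_eq_zero (Finset.mem_univ k) (by
      rw [FiniteField.pow_card_sub_one_eq_one _ (sub_ne_zero.2 hk), sub_self])

theorem natCard_fibre (f : κ → MvPolynomial σ F) (a : κ → F) :
    (Nat.card {v : σ → F // ∀ k, eval v (f k) = a k} : F) = ∑ v : σ → F, eval v (∏ k, fibrePoly f a k) := by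
  classical
  simp only [eval_prod_fibrePoly]
  rw [Finset.sum_boole, Nat.card_eq_fintype_card, Fintype.card_subtype]

theorem totalDegree_sub_C_le {f : MvPolynomial σ F} {d : ℕ} (hf : f.totalDegree ≤ d) (c : F) :
    (f - C c).totalDegree ≤ d := by
  refine (totalDegree_sub _ _).trans ?_
  simp [hf]

theorem totalDegree_fibrePoly_le (f : κ → MvPolynomial σ F) (d : κ → ℕ)
    (hf : ∀ k, (f k).totalDegree ≤ d k) (a : κ → F) (k : κ) :
    (fibrePoly f a k).totalDegree ≤ (Fintype.card F - 1) * d k := by
  refine (totalDegree_sub _ _).trans ?_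
  rw [totalDegree_one]
  exact max_le (Nat.zero_le _) ((totalDegree_pow _ _).trans
    (Nat.mul_le_mul_left _ (totalDegree_sub_C_le (hf k) _)))

/-- Changing one constant does not change the count modulo the characteristic. -/
theorem natCard_fibre_update [DecidableEq κ] (f : κ → MvPolynomial σ F) (d : κ → ℕ)
    (hf : ∀ k, (f k).totalDegree ≤ d k) (hd : ∀ k, 1 ≤ d k) (hsum : ∑ k, d k ≤ Fintype.card σ)
    (a : κ → F) (k₀ : κ) (c : F) :
    (Nat.card {v : σ → F // ∀ k, eval v (f k) = Function.update a k₀ c k} : F) =
      (Nat.card {v : σ → F // ∀ k, eval v (f k) = a k} : F) := by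
  classical
  set q := Fintype.card F
  have hq : 1 < q := Fintype.one_lt_card
  rw [natCard_fibre, natCard_fibre, ← sub_eq_zero, ← Finset.sum_sub_distrib]
  simp only [← map_sub]
  apply sum_eval_eq_zero
  set R := ∏ k ∈ Finset.univ.erase k₀, fibrePoly f a k with hR
  set A := f k₀ - C (a k₀) with hA
  set B := f k₀ - C c with hB
  have e : (∏ k, fibrePoly f (Function.update a k₀ c) k) - ∏ k, fibrePoly f a k =
      (A ^ (q - 1) - B ^ (q - 1)) * R := by
    rw [← Finset.mul_prod_erase _ _ (Finset.mem_univ k₀), ← Finset.mul_prod_erase _ _ (Finset.mem_univ k₀),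
      Finset.prod_congr rfl (g := fibrePoly f a) fun k hk => by
        simp [fibrePoly, Function.update_of_ne (Finset.ne_of_mem_erase hk)]]
    rw [← hR, fibrePoly, fibrePoly, Function.update_self, ← hA, ← hB]
    ring
  have h1 : (A ^ (q - 1) - B ^ (q - 1)).totalDegree ≤ (q - 2) * d k₀ := by
    rw [← geom_sum₂_mul]
    refine (totalDegree_mul _ _).trans ?_
    have hAB : (A - B).totalDegree = 0 := by
      rw [hA, hB, sub_sub_sub_cancel_left, ← C_sub]
      exact totalDegree_C _
    rw [hAB, add_zero]
    refine (totalDegree_finsetSum _ _).trans (Finset.sup_le fun i hi => ?_)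
    rw [Finset.mem_range] at hi
    refine (totalDegree_mul _ _).trans ?_
    refine (add_le_add ((totalDegree_pow _ _).trans (Nat.mul_le_mul_left _ (totalDegree_sub_C_le (hf k₀) _)))
      ((totalDegree_pow _ _).trans (Nat.mul_le_mul_left _ (totalDegree_sub_C_le (hf k₀) _)))).trans ?_
    rw [← add_mul]
    exact Nat.mul_le_mul_right _ (by omega)
  have h2 : R.totalDegree ≤ (q - 1) * ∑ k ∈ Finset.univ.erase k₀, d k := by
    refine (totalDegree_finsetProd _ _).trans ?_
    rw [Finset.mul_sum]
    exact Finset.sum_le_sum fun k _ => totalDegree_fibrePoly_le f d hf a k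
  rw [e]
  refine lt_of_le_of_lt ((totalDegree_mul _ _).trans (add_le_add h1 h2)) ?_
  refine lt_of_lt_of_le ?_ (Nat.mul_le_mul_left (q - 1) hsum)
  rw [← Finset.add_sum_erase _ _ (Finset.mem_univ k₀), mul_add, Nat.add_lt_add_iff_right]
  exact Nat.mul_lt_mul_of_pos_right (by omega) (hd k₀)

/-- The count modulo the characteristic does not depend on the constants. -/
theorem natCard_fibre_eq (f : κ → MvPolynomial σ F) (d : κ → ℕ)
    (hf : ∀ k, (f k).totalDegree ≤ d k) (hd : ∀ k, 1 ≤ d k) (hsum : ∑ k, d k ≤ Fintype.card σ)
    (a b : κ → F) :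
    (Nat.card {v : σ → F // ∀ k, eval v (f k) = a k} : F) =
      (Nat.card {v : σ → F // ∀ k, eval v (f k) = b k} : F) := by
  classical
  have h : ∀ s : Finset κ, ∀ a' : κ → F, (∀ k ∉ s, a' k = b k) →
      (Nat.card {v : σ → F // ∀ k, eval v (f k) = a' k} : F) =
        (Nat.card {v : σ → F // ∀ k, eval v (f k) = b k} : F) := by
    intro s
    induction s using Finset.induction_on with
    | empty =>
      intro a' ha
      rw [show a' = b from funext fun k => ha k (by simp)]
    | insert k₀ s hk₀ ih =>
      intro a' ha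
      rw [← natCard_fibre_update f d hf hd hsum a' k₀ (b k₀)]
      refine ih _ fun k hk => ?_
      rcases eq_or_ne k k₀ with rfl | hne
      · rw [Function.update_self]
      · rw [Function.update_of_ne hne]
        exact ha k (by simp [hne, hk])
  exact h Finset.univ a fun k hk => absurd (Finset.mem_univ k) hk

end

section

variable {n : ℕ}

theorem eval_univ_coeff (v : Fin n × Fin n → F) (i : ℕ) :
    eval v ((Matrix.charpoly.univ F (Fin n)).coeff i) = (Matrix.of (Function.curry v)).charpoly.coeff i :=
  Matrix.charpoly.univ_coeff_eval₂Hom (Fin n) (RingHom.id F) v i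

/-- The entries of `X * x` as linear forms. -/
noncomputable def rightMulForm (x : Matrix (Fin n) (Fin n) F) (ij : Fin n × Fin n) :
    MvPolynomial (Fin n × Fin n) F :=
  ∑ k, C (x k ij.2) * X (ij.1, k)

theorem eval_univ_coeff_mul (x : Matrix (Fin n) (Fin n) F) (v : Fin n × Fin n → F) (i : ℕ) :
    eval v (aeval (rightMulForm x) ((Matrix.charpoly.univ F (Fin n)).coeff i)) =
      (Matrix.of (Function.curry v) * x).charpoly.coeff i := by
  have h : eval v (aeval (rightMulForm x) ((Matrix.charpoly.univ F (Fin n)).coeff i)) =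
      eval (fun ij => eval v (rightMulForm x ij)) ((Matrix.charpoly.univ F (Fin n)).coeff i) := by
    rw [← aeval_eq_eval, ← aeval_eq_eval]
    exact comp_aeval_apply (rightMulForm x) (aeval v) _
  rw [h, eval_univ_coeff]
  congr 2
  ext a b
  simp [rightMulForm, Matrix.mul_apply, Function.curry, mul_comm]

theorem two_mul_sum_sub_fin (m : ℕ) : 2 * ∑ k : Fin m, (m - k.val) = m * (m + 1) := by
  induction m with
  | zero => simp
  | succ m ih =>
    rw [Fin.sum_univ_succ, mul_add]
    simp only [Fin.val_zero, Nat.sub_zero, Fin.val_succ, Nat.succ_sub_succ]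
    rw [ih]
    ring

/-- The counts of `u` with given characteristic polynomials of `u` and of `u x`, leaving out the
constant coefficient of the second, are independent of the polynomials modulo the characteristic. -/
theorem natCard_charpoly_pair_eq (x : Matrix (Fin n) (Fin n) F) (a a' b b' : ℕ → F) :
    (Nat.card {u : Matrix (Fin n) (Fin n) F // (∀ i < n, u.charpoly.coeff i = a i) ∧
        ∀ i, 1 ≤ i → i < n → (u * x).charpoly.coeff i = b i} : F) =
      Nat.card {u : Matrix (Fin n) (Fin n) F // (∀ i < n, u.charpoly.coeff i = a' i) ∧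
        ∀ i, 1 ≤ i → i < n → (u * x).charpoly.coeff i = b' i} := by
  classical
  let f : Fin n ⊕ Fin (n - 1) → MvPolynomial (Fin n × Fin n) F :=
    Sum.elim (fun k => (Matrix.charpoly.univ F (Fin n)).coeff k.val)
      (fun k => aeval (rightMulForm x) ((Matrix.charpoly.univ F (Fin n)).coeff (k.val + 1)))
  let d : Fin n ⊕ Fin (n - 1) → ℕ := Sum.elim (fun k => n - k.val) (fun k => n - 1 - k.val)
  have hf : ∀ k, (f k).totalDegree ≤ d k := by
    rintro (k | k)
    · exact (Matrix.charpoly.univ_coeff_isHomogeneous F (Fin n) k.val (n - k.val)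
        (by rw [Fintype.card_fin]; omega)).totalDegree_le
    · have h1 := (Matrix.charpoly.univ_coeff_isHomogeneous F (Fin n) (k.val + 1) (n - 1 - k.val)
        (by rw [Fintype.card_fin]; omega)).aeval (rightMulForm x) (n := 1) fun ij =>
          IsHomogeneous.sum _ _ _ fun l _ => isHomogeneous_C_mul_X _ _
      rw [one_mul] at h1
      exact h1.totalDegree_le
  have hd : ∀ k, 1 ≤ d k := by rintro (k | k) <;> simp only [d, Sum.elim_inl, Sum.elim_inr] <;> omega
  have hsum : ∑ k, d k ≤ Fintype.card (Fin n × Fin n) := by
    have h1 := two_mul_sum_sub_fin n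
    have h2 := two_mul_sum_sub_fin (n - 1)
    rw [Fintype.card_prod, Fintype.card_fin, Fintype.sum_sum_type]
    simp only [d, Sum.elim_inl, Sum.elim_inr]
    rcases n with _ | m
    · simp
    · simp only [Nat.add_sub_cancel] at h2 ⊢
      nlinarith
  have key : ∀ a b : ℕ → F, Nat.card {u : Matrix (Fin n) (Fin n) F // (∀ i < n, u.charpoly.coeff i = a i) ∧
      ∀ i, 1 ≤ i → i < n → (u * x).charpoly.coeff i = b i} =
      Nat.card {v : Fin n × Fin n → F //
        ∀ k, eval v (f k) = Sum.elim (fun k => a k.val) (fun k => b (k.val + 1)) k} := by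
    intro a b
    refine (Nat.card_congr (Equiv.subtypeEquiv ((Equiv.curry (Fin n) (Fin n) F).trans Matrix.of) fun v => ?_)).symm
    simp only [Equiv.trans_apply, Equiv.curry_apply]
    constructor
    · intro h
      refine ⟨fun i hi => ?_, fun i h1 hi => ?_⟩
      · simpa [f, eval_univ_coeff] using h (.inl ⟨i, hi⟩)
      · have := h (.inr ⟨i - 1, by omega⟩)
        simp only [f, Sum.elim_inr, eval_univ_coeff_mul, Nat.sub_add_cancel h1] at this
        exact this
    · rintro ⟨h1, h2⟩ (k | k)
      · simpa [f, eval_univ_coeff] using h1 k k.2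
      · simp only [f, Sum.elim_inr, eval_univ_coeff_mul]
        exact h2 (k + 1) (by omega) (by omega)
  rw [key, key]
  exact natCard_fibre_eq f d hf hd hsum _ _

end

end CfsgLib.Blk4.Chevalley
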