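import Cfsg.Agent.Lib.Characters.Induction
import Cfsg.Agent.Lib.Characters.Decomp
import Cfsg.Agent.Lib.Characters.Ramified

/-!
# Fully ramified characters: elementary facts

`χ` is fully ramified over the normal subgroup `Z` if its restriction is `e • θ` with
`e ^ 2 = [H : Z]`. Then it vanishes off `Z`, `θ` is invariant and induces `e • χ`.
-/

set_option autoImplicit false
set_option linter.unusedSectionVars false

noncomputable section

namespace CfsgLib.Blk4.FullyRamified

open Cfsg CfsgLib.Characters
open scoped ComplexConjugate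

universe u

variable {H : Type u} [Group H] [Fintype H] (Z : Subgroup H) [hZn : Z.Normal] [Fintype Z]
  (χ : IrrCharacter H) (θ : IrrCharacter Z) (e : ℕ) (he : e ^ 2 = Z.index)
  (hres : ∀ z : Z, (χ : H → ℂ) z = (e : ℂ) * (θ : Z → ℂ) z)

include he in
theorem e_ne_zero : (e : ℂ) ≠ 0 := by
  refine Nat.cast_ne_zero.2 fun h => Subgroup.index_ne_zero_of_finite (H := Z) ?_
  rw [← he, h]; rfl

include he hres

/-- The invariance of the constituent. -/
theorem invariant (g : H) (z : Z) :
    (θ : Z → ℂ) ⟨g * z * g⁻¹, hZn.conj_mem (z : H) z.2 g⟩ = (θ : Z → ℂ) z := by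
  have h := irr_isClassFunction χ (z : H) g
  rw [hres z, hres ⟨_, hZn.conj_mem (z : H) z.2 g⟩] at h
  exact mul_left_cancel₀ (e_ne_zero Z e he) h

/-- A fully ramified character vanishes off the normal subgroup. -/
theorem vanish_off {g : H} (hg : g ∉ Z) : (χ : H → ℂ) g = 0 := by
  classical
  have hH : ∑ x : H, Complex.normSq ((χ : H → ℂ) x) = Nat.card H := by
    have h := classInner_irr_self χ.2
    rw [classInner, inv_mul_eq_one₀ (Nat.cast_ne_zero.2 Nat.card_pos.ne')] at h
    simp only [Complex.mul_conj] at h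
    exact_mod_cast h.symm
  have hZ : ∑ z : Z, Complex.normSq ((χ : H → ℂ) z) = Nat.card H := by
    have h := classInner_irr_self θ.2
    rw [classInner, inv_mul_eq_one₀ (Nat.cast_ne_zero.2 Nat.card_pos.ne')] at h
    simp only [Complex.mul_conj] at h
    have h2 : ∑ z : Z, Complex.normSq ((θ : Z → ℂ) z) = Nat.card Z := by exact_mod_cast h.symm
    simp only [hres, map_mul, Complex.normSq_natCast, ← Finset.mul_sum, h2]
    rw [← Z.card_mul_index, ← he]
    push_cast
    ring
  rw [← Finset.sum_filter_add_sum_filter_not Finset.univ (fun x => x ∈ Z),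
    Finset.sum_subtype (p := fun x => x ∈ Z) _ (by simp), hZ, add_eq_left] at hH
  have := (Finset.sum_eq_zero_iff_of_nonneg fun x _ => Complex.normSq_nonneg _).1 hH g
    (Finset.mem_filter.2 ⟨Finset.mem_univ _, hg⟩)
  exact Complex.normSq_eq_zero.1 this

/-- The constituent induces a multiple of the fully ramified character. -/
theorem indFun_eq : indFun Z (θ : Z → ℂ) = (e : ℂ) • (χ : H → ℂ) := by
  classical
  have hθH : ∀ z : Z, indFun Z (θ : Z → ℂ) z = (Z.index : ℂ) * (θ : Z → ℂ) z := by
    intro z
    rw [CfsgLib.Induction.indFun_apply, Finset.sum_congr rfl (g := fun _ => (θ : Z → ℂ) z) fun x _ => by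
      have hm : x⁻¹ * (z : H) * x ∈ Z := hZn.conj_mem' (z : H) z.2 x
      rw [CfsgLib.Induction.extendByZero_mem Z _ hm, ← invariant Z χ θ e he hres x⁻¹ z]
      exact congrArg _ (Subtype.ext (by simp)), Finset.sum_const, Finset.card_univ, nsmul_eq_mul,
      ← Nat.card_eq_fintype_card, ← Z.card_mul_index, Nat.cast_mul, ← mul_assoc, ← mul_assoc,
      inv_mul_cancel₀ (Nat.cast_ne_zero.2 Nat.card_pos.ne'), one_mul]
  have hcl : IsClassFunction H (indFun Z (θ : Z → ℂ)) :=
    CfsgLib.Induction.isClassFunction_indFun Z _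
  have h1 : classInner (indFun Z (θ : Z → ℂ)) (indFun Z (θ : Z → ℂ)) = (Z.index : ℂ) := by
    rw [CfsgLib.Induction.classInner_indFun Z _ hcl,
      show (fun z : Z => indFun Z (θ : Z → ℂ) z) = (Z.index : ℂ) • (θ : Z → ℂ) from funext hθH,
      classInner_smul_right, classInner_irr_self θ.2, mul_one, map_natCast]
  have h2 : classInner (indFun Z (θ : Z → ℂ)) (χ : H → ℂ) = (e : ℂ) := by
    rw [CfsgLib.Induction.classInner_indFun Z _ (irr_isClassFunction χ),
      show (fun z : Z => (χ : H → ℂ) z) = (e : ℂ) • (θ : Z → ℂ) from funext hres,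
      classInner_smul_right, classInner_irr_self θ.2, mul_one, map_natCast]
  set D := indFun Z (θ : Z → ℂ) - (e : ℂ) • (χ : H → ℂ) with hD
  have h3 : classInner D D = 0 := by
    have h2' : classInner (χ : H → ℂ) (indFun Z (θ : Z → ℂ)) = (e : ℂ) := by
      rw [classInner_conj_symm, h2, map_natCast]
    simp only [hD, classInner_sub_left, classInner_sub_right, classInner_smul_left,
      classInner_smul_right, h1, h2, h2', classInner_irr_self χ.2, map_natCast, ← he]
    push_cast
    ring
  have h4 : D = 0 := by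
    rw [classInner, mul_eq_zero] at h3
    have h5 := h3.resolve_left (inv_ne_zero (Nat.cast_ne_zero.2 Nat.card_pos.ne'))
    simp only [Complex.mul_conj] at h5
    have h6 : ∑ x : H, Complex.normSq (D x) = 0 := by exact_mod_cast h5
    funext x
    exact Complex.normSq_eq_zero.1 ((Finset.sum_eq_zero_iff_of_nonneg fun x _ =>
      Complex.normSq_nonneg _).1 h6 x (Finset.mem_univ x))
  exact sub_eq_zero.1 h4

/-- No other irreducible character lies over the constituent. -/
theorem inner_res_eq_zero {ψ : H → ℂ} (hψ : IsIrrCharacter H ψ) (hne : ψ ≠ (χ : H → ℂ)) :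
    classInner (fun z : Z => ψ z) (θ : Z → ℂ) = 0 := by
  rw [← CfsgLib.Induction.classInner_indFun_right Z _
    (isClassFunction_of_isCharacter (isCharacter_of_irr hψ)), indFun_eq Z χ θ e he hres,
    classInner_smul_right, classInner_irr_ne hψ χ.2 hne, mul_zero]

end CfsgLib.Blk4.FullyRamified
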