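import Cfsg.Agent.Lib.Blk4.FullyRamified
import Cfsg.Agent.Lib.CharCorr.Basic
import Cfsg.Agent.Lib.Characters.Clifford
import Cfsg.Agent.Lib.Characters.Extension
import Cfsg.Agent.Lib.Characters.NormalAvg
import Cfsg.Agent.Lib.Characters.Ito
import Cfsg.Agent.Lib.Chars17.IrrBasic

/-!
# Hall complements above a fully ramified character

Let `χ` be fully ramified over `Z`, `Z ≤ K` normal and `T / Z` a Sylow `p`-subgroup of `H / Z`.
`χ` restricts to a multiple of one character `η` of `T`.  If the constituents of `η` on `T ⊓ K`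
form a regular orbit of `T`, their stabiliser gives a `p`-complement in `H / K`.
-/

set_option autoImplicit false
set_option linter.unusedSectionVars false
set_option linter.style.haveILetI false

noncomputable section

namespace CfsgLib.Blk4.FullyRamified

open Cfsg CfsgLib.Characters
open scoped ComplexConjugate

universe u

theorem relIndex_symm {H : Type u} [Group H] (A B : Subgroup H) :
    A.relIndex B * B.index = B.relIndex A * A.index := by
  rw [← Subgroup.inf_relIndex_right A B, Subgroup.relIndex_mul_index inf_le_right,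
    ← Subgroup.inf_relIndex_left A B, Subgroup.relIndex_mul_index inf_le_left]

/-- Constituents of a constituent are constituents. -/
theorem constituent_comp {X Y : Type u} [Group X] [Group Y] [Fintype X] [Fintype Y] (f : X →* Y)
    {F : Y → ℂ} (hF : IsCharacter Y F) (α : IrrCharacter Y) {β : X → ℂ} (hβ : IsIrrCharacter X β)
    (h1 : classInner F (α : Y → ℂ) ≠ 0)
    (h2 : classInner (fun x => (α : Y → ℂ) (f x)) β ≠ 0) :
    classInner (fun x => F (f x)) β ≠ 0 := by
  classical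
  obtain ⟨a, ha, hsum⟩ := CfsgLib.Clifford.exists_mult hF
  choose b hb using fun γ : IrrCharacter Y =>
    classInner_char_nat (CfsgLib.Clifford.isCharacter_pullback (irr_isCharacter γ) f)
      (isCharacter_of_irr hβ)
  have e : classInner (fun x => F (f x)) β = ((∑ γ : IrrCharacter Y, a γ * b γ : ℕ) : ℂ) := by
    rw [show (fun x => F (f x)) = ∑ γ : IrrCharacter Y, (a γ : ℂ) • fun x => (γ : Y → ℂ) (f x) from
      funext fun x => by
        conv_lhs => rw [hsum]
        simp, classInner_sum_left]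
    push_cast
    exact Finset.sum_congr rfl fun γ _ => by rw [classInner_smul_left, hb γ]
  rw [e, Nat.cast_ne_zero]
  intro h0
  have h3 := Finset.sum_eq_zero_iff.1 h0 α (Finset.mem_univ _)
  rcases mul_eq_zero.1 h3 with h | h
  · exact h1 (by rw [ha, h, Nat.cast_zero])
  · exact h2 (by rw [hb, h, Nat.cast_zero])

/-- An irreducible induced character is induced from an irreducible character. -/
theorem exists_irr_inducing {H : Type u} [Group H] [Fintype H] (K : Subgroup H) [Fintype K]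
    {φ : K → ℂ} (hφ : IsCharacter K φ) (χ : IrrCharacter H) (hind : indFun K φ = (χ : H → ℂ)) :
    ∃ ξ : IrrCharacter K, indFun K (ξ : K → ℂ) = (χ : H → ℂ) := by
  classical
  obtain ⟨a, -, hsum⟩ := CfsgLib.Clifford.exists_mult hφ
  have h1 : (χ : H → ℂ) = ∑ ξ : IrrCharacter K, (a ξ : ℂ) • indFun K (ξ : K → ℂ) := by
    rw [← hind]
    conv_lhs => rw [hsum]
    show CfsgLib.Induction.indLinear K (∑ ξ : IrrCharacter K, (a ξ : ℂ) • (ξ : K → ℂ)) = _
    rw [map_sum]
    exact Finset.sum_congr rfl fun ξ _ => map_smul _ _ _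
  have hc : ∀ ξ : IrrCharacter K, IsCharacter H (indFun K (ξ : K → ℂ)) := fun ξ =>
    CfsgLib.Induction.isCharacter_indFun K (irr_isCharacter ξ)
  choose b hb using fun (ξ : IrrCharacter K) (ψ : IrrCharacter H) =>
    classInner_char_nat (hc ξ) (irr_isCharacter ψ)
  have h2 : ∀ ψ : IrrCharacter H, classInner (χ : H → ℂ) (ψ : H → ℂ) =
      ((∑ ξ : IrrCharacter K, a ξ * b ξ ψ : ℕ) : ℂ) := fun ψ => by
    conv_lhs => rw [h1]
    rw [classInner_sum_left]
    push_cast
    exact Finset.sum_congr rfl fun ξ _ => by rw [classInner_smul_left, hb]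
  have h3 := h2 χ
  rw [classInner_irr_self χ.2, eq_comm, Nat.cast_eq_one] at h3
  obtain ⟨ξ, hξ⟩ : ∃ ξ, a ξ * b ξ χ ≠ 0 := by
    by_contra h
    push Not at h
    rw [Finset.sum_eq_zero fun ξ _ => h ξ] at h3
    exact zero_ne_one h3
  refine ⟨ξ, classFunction_ext (isClassFunction_of_isCharacter (hc ξ)) (irr_isClassFunction χ)
    fun ψ => ?_⟩
  by_cases hψ : ψ = χ
  · rw [hψ]
    have : a ξ * b ξ χ ≤ 1 := h3 ▸ Finset.single_le_sum (f := fun ξ => a ξ * b ξ χ)
      (fun _ _ => Nat.zero_le _) (Finset.mem_univ ξ)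
    have h4 : b ξ χ = 1 :=
      Nat.eq_one_of_mul_eq_one_left (le_antisymm this (Nat.pos_of_ne_zero hξ))
    rw [hb, h4, classInner_irr_self χ.2, Nat.cast_one]
  · have h4 := h2 ψ
    have hne : classInner (χ : H → ℂ) (ψ : H → ℂ) = 0 :=
      classInner_irr_ne χ.2 ψ.2 fun h => hψ (Subtype.ext h.symm)
    rw [hne, eq_comm, Nat.cast_eq_zero, Finset.sum_eq_zero_iff] at h4
    have h5 := (mul_eq_zero.1 (h4 ξ (Finset.mem_univ _))).resolve_left (left_ne_zero_of_mul hξ)
    rw [hb, h5, hne, Nat.cast_zero]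

/-- A Sylow subgroup of `H / Z` adapted to the normal subgroup `K`. -/
theorem exists_setup {H : Type u} [Group H] [Finite H] (p : ℕ) [Fact p.Prime] (Z K : Subgroup H)
    [Z.Normal] [K.Normal] (hZK : Z ≤ K) :
    ∃ T : Subgroup H, Z ≤ T ∧ (∃ k, Z.relIndex T = p ^ k) ∧ ¬ p ∣ T.index ∧
      ¬ p ∣ T.relIndex K ∧ Subgroup.normalizer ((T ⊓ K : Subgroup H) : Set H) ⊔ K = ⊤ := by
  set π := QuotientGroup.mk' Z with hπ
  have hsurj : Function.Surjective π := QuotientGroup.mk'_surjective Z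
  set Kb := K.map π with hKb
  haveI : Kb.Normal := Subgroup.Normal.map inferInstance π hsurj
  obtain ⟨R⟩ : Nonempty (Sylow p Kb) := inferInstance
  obtain ⟨P, hP⟩ := R.exists_comap_subtype_eq
  have hcm : (Kb.comap π) = K := by
    rw [hKb, Subgroup.comap_map_eq, QuotientGroup.ker_mk']
    exact sup_eq_left.2 hZK
  set T := (P : Subgroup (H ⧸ Z)).comap π with hT
  have hZT : Z ≤ T := fun z hz => by
    show π z ∈ (P : Subgroup (H ⧸ Z))
    rw [show π z = 1 from (QuotientGroup.eq_one_iff z).2 hz]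
    exact one_mem _
  refine ⟨T, hZT, ?_, ?_, ?_, ?_⟩
  · obtain ⟨k, hk⟩ := P.2.exists_card_eq
    refine ⟨k, ?_⟩
    have hz : Z = (⊥ : Subgroup (H ⧸ Z)).comap π := by
      rw [MonoidHom.comap_bot, QuotientGroup.ker_mk']
    conv_lhs => rw [hz, Subgroup.relIndex_comap, hT, Subgroup.map_comap_eq_self_of_surjective hsurj,
      Subgroup.relIndex_bot_left]
    exact hk
  · rw [hT, Subgroup.index_comap_of_surjective _ hsurj]
    exact P.not_dvd_index
  · rw [hT, Subgroup.relIndex_comap, ← hKb, Subgroup.relIndex]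
    rw [show (P : Subgroup (H ⧸ Z)).subgroupOf Kb = (R : Subgroup Kb) from hP]
    exact R.not_dvd_index
  · have h1 := R.normalizer_sup_eq_top
    have e : (R : Subgroup Kb).map Kb.subtype = (P : Subgroup (H ⧸ Z)) ⊓ Kb := by
      rw [← show (P : Subgroup (H ⧸ Z)).subgroupOf Kb = (R : Subgroup Kb) from hP,
        Subgroup.subgroupOf_map_subtype]
    rw [e] at h1
    have e2 : Subgroup.normalizer ((T ⊓ K : Subgroup H) : Set H) =
        (Subgroup.normalizer (((P : Subgroup (H ⧸ Z)) ⊓ Kb : Subgroup (H ⧸ Z)) : Set (H ⧸ Z))).comap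
          π := by
      rw [Subgroup.comap_normalizer_eq_of_surjective _ hsurj, Subgroup.comap_inf, hcm]
    rw [eq_top_iff]
    intro h _
    have hh : π h ∈ Subgroup.normalizer (((P : Subgroup (H ⧸ Z)) ⊓ Kb : Subgroup (H ⧸ Z)) :
        Set (H ⧸ Z)) ⊔ Kb := h1 ▸ Subgroup.mem_top _
    obtain ⟨a, ha, b, hb, hab⟩ := Subgroup.mem_sup_of_normal_right.1 hh
    obtain ⟨a', rfl⟩ := hsurj a
    have : a'⁻¹ * h ∈ K := by
      rw [← hcm, Subgroup.mem_comap, map_mul, map_inv, ← hab, inv_mul_cancel_left]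
      exact hb
    have ha' : a' ∈ Subgroup.normalizer ((T ⊓ K : Subgroup H) : Set H) := e2 ▸ ha
    simpa using Subgroup.mul_mem_sup ha' this

variable {H : Type u} [Group H] [Fintype H] (Z : Subgroup H) [hZn : Z.Normal] [Fintype Z]
  (χ : IrrCharacter H) (θ : IrrCharacter Z) (e : ℕ) (he : e ^ 2 = Z.index)
  (hres : ∀ z : Z, (χ : H → ℂ) z = (e : ℂ) * (θ : Z → ℂ) z)
  (p : ℕ) [Fact p.Prime] (T : Subgroup H) [Fintype T] (hZT : Z ≤ T)
  (hTp : ∃ k, Z.relIndex T = p ^ k) (hTi : ¬ p ∣ T.index)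

include hZT he hres hTp hTi

/-- Full ramification restricts to a Sylow subgroup of `H / Z`. -/
theorem restrict_sylow :
    ∃ (η : IrrCharacter T) (c f : ℕ), ¬ p ∣ c ∧ c * f = e ∧
      (∀ x : T, (χ : H → ℂ) x = (c : ℂ) * (η : T → ℂ) x) ∧
      (η : T → ℂ) 1 = (f : ℂ) * (θ : Z → ℂ) 1 ∧
      ∀ x : T, (x : H) ∉ Z → (η : T → ℂ) x = 0 := by
  classical
  obtain ⟨k, hk⟩ := hTp
  set Z' := Z.subgroupOf T with hZ'
  haveI : Fintype Z' := Fintype.ofFinite Z'
  set ε := Subgroup.subgroupOfEquivOfLe hZT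
  set θ' := CfsgLib.CharCorr.twistIrr ε θ with hθ'def
  have hθ'v : ∀ z : Z', (χ : H → ℂ) ((z : T) : H) = (e : ℂ) * (θ' : Z' → ℂ) z := fun z => hres (ε z)
  have hresT : IsCharacter T (fun x : T => (χ : H → ℂ) x) :=
    CfsgLib.Clifford.isCharacter_subtype (irr_isCharacter χ) T
  have hidx : Z'.index = p ^ k := hk
  have hinner : ∀ ξ : T → ℂ, classInner (fun x : T => (χ : H → ℂ) x) ξ =
      (e : ℂ) / (p ^ k : ℕ) * classInner (θ' : Z' → ℂ) (fun z : Z' => ξ z) := by
    intro ξ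
    unfold classInner
    rw [← Finset.sum_filter_add_sum_filter_not Finset.univ (fun x : T => x ∈ Z'),
      Finset.sum_eq_zero (s := Finset.univ.filter fun x : T => ¬ x ∈ Z') (fun x hx => by
        show (χ : H → ℂ) x * conj (ξ x) = 0
        rw [vanish_off Z χ θ e he hres (g := (x : H))
          (fun h => (Finset.mem_filter.1 hx).2 h), zero_mul]), add_zero,
      Finset.sum_subtype (p := fun x : T => x ∈ Z') _ (by simp), ← hidx,
      ← Z'.card_mul_index]
    have h1 : (Z'.index : ℂ) ≠ 0 := Nat.cast_ne_zero.2 Subgroup.index_ne_zero_of_finite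
    have h2 : (Nat.card Z' : ℂ) ≠ 0 := Nat.cast_ne_zero.2 Nat.card_pos.ne'
    simp only [hθ'v, mul_assoc, ← Finset.mul_sum]
    push_cast
    field_simp
    rw [show Nat.card (Z.subgroupOf T) = Nat.card Z' from rfl]
    ring
  obtain ⟨η, hη⟩ := CfsgLib.Clifford.exists_constituent hresT
    (fun h0 => irr_one_ne_zero χ (congrFun h0 1))
  obtain ⟨c, hc⟩ := classInner_char_nat hresT (irr_isCharacter η)
  have hηZ : classInner (fun z : Z' => (η : T → ℂ) z) (θ' : Z' → ℂ) ≠ 0 := by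
    intro h0
    rw [hinner, classInner_conj_symm, h0, map_zero, mul_zero] at hη
    exact hη rfl
  obtain ⟨f, hf⟩ := classInner_char_nat
    (CfsgLib.Clifford.isCharacter_subtype (irr_isCharacter η) Z') (irr_isCharacter θ')
  have hf0 : f ≠ 0 := fun h => hηZ (by rw [hf, h, Nat.cast_zero])
  have hinv : ∀ (g : T) (n : Z'), (θ' : Z' → ℂ)
      ⟨g * n * g⁻¹, (inferInstance : Z'.Normal).conj_mem (n : T) n.2 g⟩ = (θ' : Z' → ℂ) n :=
    fun g n => invariant Z χ θ e he hres (g : H) (ε n)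
  have hres' : ∀ z : Z', (η : T → ℂ) z = (f : ℂ) * (θ' : Z' → ℂ) z := fun z => by
    have h := congrFun (CfsgLib.Ramified.res_eq_smul_of_invariant Z' η.2 θ'.2 hinv hηZ) z
    rw [hf] at h
    exact h
  have hle : f ^ 2 ≤ p ^ k := by
    have h1 := classInner_irr_self η.2
    have h2 := classInner_irr_self θ'.2
    rw [classInner, inv_mul_eq_one₀ (Nat.cast_ne_zero.2 Nat.card_pos.ne')] at h1 h2
    simp only [Complex.mul_conj] at h1 h2
    have h1' : (Nat.card T : ℝ) = ∑ x : T, Complex.normSq ((η : T → ℂ) x) := by exact_mod_cast h1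
    have h2' : (Nat.card Z' : ℝ) = ∑ x : Z', Complex.normSq ((θ' : Z' → ℂ) x) := by exact_mod_cast h2
    have h3 : ∑ x : Z', Complex.normSq ((η : T → ℂ) x) ≤ ∑ x : T, Complex.normSq ((η : T → ℂ) x) := by
      rw [← Finset.sum_filter_add_sum_filter_not Finset.univ (fun x : T => x ∈ Z')
        (fun x => Complex.normSq ((η : T → ℂ) x)),
        ← Finset.sum_subtype (p := fun x : T => x ∈ Z') (Finset.univ.filter fun x : T => x ∈ Z')
          (by simp) (fun x : T => Complex.normSq ((η : T → ℂ) x))]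
      exact le_add_of_nonneg_right (Finset.sum_nonneg fun x _ => Complex.normSq_nonneg _)
    simp only [hres', map_mul, Complex.normSq_natCast, ← Finset.mul_sum, ← h1', ← h2'] at h3
    rw [← Z'.card_mul_index, hidx] at h3
    have h4 : f * f * Nat.card Z' ≤ Nat.card Z' * p ^ k := by exact_mod_cast h3
    rw [mul_comm (Nat.card Z') (p ^ k)] at h4
    rw [pow_two]
    exact Nat.le_of_mul_le_mul_right h4 Nat.card_pos
  have hcf : c * p ^ k = e * f := by
    have h := hinner (η : T → ℂ)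
    rw [hc, classInner_conj_symm, hf, map_natCast] at h
    have : ((c * p ^ k : ℕ) : ℂ) = ((e * f : ℕ) : ℂ) := by
      rw [Nat.cast_mul, h, Nat.cast_mul, div_mul_eq_mul_div, div_mul_cancel₀ _
        (Nat.cast_ne_zero.2 (pow_ne_zero k (Fact.out : p.Prime).ne_zero))]
    exact_mod_cast this
  have ht : p ^ k * T.index = e ^ 2 := by rw [he, ← hk, Subgroup.relIndex_mul_index hZT]
  have hpk : 0 < p ^ k := pow_pos (Fact.out : p.Prime).pos k
  have h5 : c ^ 2 * p ^ k = T.index * f ^ 2 := by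
    refine Nat.eq_of_mul_eq_mul_left hpk ?_
    calc p ^ k * (c ^ 2 * p ^ k) = (c * p ^ k) ^ 2 := by ring
      _ = e ^ 2 * f ^ 2 := by rw [hcf]; ring
      _ = p ^ k * (T.index * f ^ 2) := by rw [← ht]; ring
  have hf2 : f ^ 2 = p ^ k := le_antisymm hle (Nat.le_of_dvd (pow_pos (Nat.pos_of_ne_zero hf0) 2)
    ((Nat.Coprime.pow_left k ((Fact.out : p.Prime).coprime_iff_not_dvd.2 hTi)).dvd_of_dvd_mul_left
      ⟨c ^ 2, by rw [← h5]; ring⟩))
  have hc2 : c ^ 2 = T.index := Nat.eq_of_mul_eq_mul_right hpk (by rw [h5, hf2])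
  have hce : c * f = e := by
    refine Nat.pow_left_injective (two_ne_zero) ?_
    show (c * f) ^ 2 = e ^ 2
    rw [mul_pow, hc2, hf2, ← ht, mul_comm]
  refine ⟨η, c, f, fun h => hTi (hc2 ▸ dvd_pow h two_ne_zero), hce, ?_, ?_,
    fun x hx => vanish_off Z' η θ' f (hf2.trans hidx.symm) hres' (g := x) hx⟩
  · have hcl : IsClassFunction T ((c : ℂ) • (η : T → ℂ)) :=
      CfsgLib.Characters.isClassFunction_smul (irr_isClassFunction η) _
    have h := classFunction_ext (isClassFunction_of_isCharacter hresT) hcl fun ξ => by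
      rw [classInner_smul_left]
      by_cases hξ : ξ = η
      · rw [hξ, hc, classInner_irr_self η.2, mul_one]
      · have hne : (ξ : T → ℂ) ≠ (η : T → ℂ) := fun h => hξ (Subtype.ext h)
        rw [hinner, classInner_conj_symm,
          inner_res_eq_zero Z' η θ' f (hf2.trans hidx.symm) hres' ξ.2 hne, map_zero, mul_zero,
          classInner_irr_ne η.2 ξ.2 (Ne.symm hne), mul_zero]
    exact fun x => congrFun h x
  · exact hres' 1

variable (K : Subgroup H) [hKn : K.Normal] (hZK : Z ≤ K)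

include hZK

/-- The norm of the restriction to `T ⊓ K` in terms of the orbit. -/
theorem mult_sq [Fintype (K.subgroupOf T)] (η : IrrCharacter T)
    (hη : ∀ x : T, (x : H) ∉ Z → (η : T → ℂ) x = 0) (ω : IrrCharacter (K.subgroupOf T)) (m : ℕ)
    (hm : classInner (fun n : K.subgroupOf T => (η : T → ℂ) n) (ω : K.subgroupOf T → ℂ) = (m : ℂ))
    (hm0 : m ≠ 0) :
    m ^ 2 * (CfsgLib.Clifford.inertia (hKn.subgroupOf T) (ω : K.subgroupOf T → ℂ)).index =
      (K.subgroupOf T).index := by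
  classical
  have hQn : (K.subgroupOf T).Normal := hKn.subgroupOf T
  set F := fun n : (K.subgroupOf T) => (η : T → ℂ) n with hF
  have hne : classInner F (ω : (K.subgroupOf T) → ℂ) ≠ 0 := by rw [hm]; exact Nat.cast_ne_zero.2 hm0
  have h1 : classInner F F = ((K.subgroupOf T).index : ℂ) := by
    have h := classInner_irr_self η.2
    rw [classInner, inv_mul_eq_one₀ (Nat.cast_ne_zero.2 Nat.card_pos.ne')] at h
    unfold classInner
    rw [← Finset.sum_subtype (p := fun x : T => x ∈ (K.subgroupOf T)) (Finset.univ.filter fun x : T => x ∈ (K.subgroupOf T))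
        (by simp) (fun x : T => (η : T → ℂ) x * conj ((η : T → ℂ) x)),
      Finset.sum_filter_of_ne (fun x _ hx => ?_), ← h, ← (K.subgroupOf T).card_mul_index, Nat.cast_mul,
      inv_mul_cancel_left₀ (Nat.cast_ne_zero.2 Nat.card_pos.ne')]
    by_contra hxQ
    exact hx (by rw [hη x fun hxZ => hxQ (hZK hxZ), zero_mul])
  have hcl : F = (m : ℂ) • ∑ ψ ∈ (CfsgLib.Clifford.conjOrbit_finite hQn (ω : (K.subgroupOf T) → ℂ)).toFinset, ψ := by
    have := CfsgLib.Clifford.clifford hQn η.2 ω.2 hne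
    rwa [hm] at this
  rw [← Nat.cast_inj (R := ℂ), ← h1]
  conv_rhs => arg 2; rw [hcl]
  rw [classInner_smul_right, classInner_sum_right, Finset.sum_congr rfl (g := fun _ => (m : ℂ))
    (fun ψ hψ => by
      obtain ⟨g, rfl⟩ := (Set.Finite.mem_toFinset _).1 hψ
      rw [CfsgLib.Clifford.classInner_res_conjChar hQn (irr_isClassFunction η), hm]),
    Finset.sum_const, CfsgLib.Clifford.card_conjOrbit, nsmul_eq_mul, map_natCast]
  push_cast
  ring

/-- The multiplicity is one if `χ` is induced from `K`. -/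
theorem mult_eq_one_of_induced [Fintype K] [Fintype (K.subgroupOf T)] (ξ : IrrCharacter K)
    (hind : indFun K (ξ : K → ℂ) = (χ : H → ℂ)) (η : IrrCharacter T) (c f : ℕ) (hc : ¬ p ∣ c)
    (hcf : c * f = e) (hχη : ∀ x : T, (χ : H → ℂ) x = (c : ℂ) * (η : T → ℂ) x)
    (hη1 : (η : T → ℂ) 1 = (f : ℂ) * (θ : Z → ℂ) 1)
    (hη : ∀ x : T, (x : H) ∉ Z → (η : T → ℂ) x = 0) (ω : IrrCharacter (K.subgroupOf T)) (m : ℕ)
    (hm : classInner (fun n : K.subgroupOf T => (η : T → ℂ) n) (ω : K.subgroupOf T → ℂ) = (m : ℂ))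
    (hm0 : m ≠ 0) : m = 1 := by
  classical
  have hQn : (K.subgroupOf T).Normal := hKn.subgroupOf T
  set i := (CfsgLib.Clifford.inertia hQn (ω : (K.subgroupOf T) → ℂ)).index with hi
  have hsq : m ^ 2 * i = (K.subgroupOf T).index := mult_sq Z χ θ e he hres p T hZT hTp hTi K hZK η hη ω m hm hm0
  let ι : (K.subgroupOf T) →* K := (T.subtype.comp (K.subgroupOf T).subtype).codRestrict K fun x => x.2
  have hne : classInner (fun n : (K.subgroupOf T) => (η : T → ℂ) n) (ω : (K.subgroupOf T) → ℂ) ≠ 0 := by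
    rw [hm]; exact Nat.cast_ne_zero.2 hm0
  have hη1' : (η : T → ℂ) 1 = (m : ℂ) * i * (ω : (K.subgroupOf T) → ℂ) 1 := by
    rw [CfsgLib.Clifford.clifford_degree hQn η.2 ω.2 hne, hm]
  have hξQ : IsCharacter (K.subgroupOf T) (fun n => (ξ : K → ℂ) (ι n)) :=
    CfsgLib.Clifford.isCharacter_pullback (irr_isCharacter ξ) ι
  have hχK : classInner (fun k : K => (χ : H → ℂ) k) (ξ : K → ℂ) ≠ 0 := by
    rw [← CfsgLib.Induction.classInner_indFun_right K _ (irr_isClassFunction χ), hind,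
      classInner_irr_self χ.2]
    exact one_ne_zero
  obtain ⟨b, hb, hbsum⟩ := CfsgLib.Clifford.exists_mult hξQ
  have hdeg : ∀ γ : IrrCharacter (K.subgroupOf T), b γ ≠ 0 → (γ : (K.subgroupOf T) → ℂ) 1 = (ω : (K.subgroupOf T) → ℂ) 1 := by
    intro γ hγ
    have h1 : classInner (fun n : (K.subgroupOf T) => (χ : H → ℂ) (ι n : H)) (γ : (K.subgroupOf T) → ℂ) ≠ 0 :=
      constituent_comp ι (CfsgLib.Clifford.isCharacter_subtype (irr_isCharacter χ) K) ξ γ.2 hχK
        (by rw [hb]; exact Nat.cast_ne_zero.2 hγ)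
    have h2 : classInner (fun n : (K.subgroupOf T) => (η : T → ℂ) n) (γ : (K.subgroupOf T) → ℂ) ≠ 0 := fun h0 => h1 (by
      rw [show (fun n : (K.subgroupOf T) => (χ : H → ℂ) (ι n : H)) = (c : ℂ) • fun n : (K.subgroupOf T) => (η : T → ℂ) n from
        funext fun n => hχη n, classInner_smul_left, h0, mul_zero])
    obtain ⟨g, hg⟩ := CfsgLib.Clifford.exists_conj_of_constituent hQn η.2 ω.2 γ.2 hne h2
    rw [hg, CfsgLib.Clifford.conjChar_apply_one]
  set n := ∑ γ : IrrCharacter (K.subgroupOf T), b γ with hn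
  have hξ1 : (ξ : K → ℂ) 1 = (n : ℂ) * (ω : (K.subgroupOf T) → ℂ) 1 := by
    have h := congrFun hbsum 1
    rw [map_one] at h
    rw [h, Finset.sum_apply, hn, Nat.cast_sum, Finset.sum_mul]
    refine Finset.sum_congr rfl fun γ _ => ?_
    rw [Pi.smul_apply, smul_eq_mul]
    by_cases h0 : b γ = 0
    · rw [h0, Nat.cast_zero, zero_mul, zero_mul]
    · rw [hdeg γ h0]
  obtain ⟨s, hs⟩ := Subgroup.relIndex_dvd_index_of_normal K T
  have hχ1 : ((c * m * i : ℕ) : ℂ) * (ω : (K.subgroupOf T) → ℂ) 1 = ((K.index * n : ℕ) : ℂ) * (ω : (K.subgroupOf T) → ℂ) 1 := by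
    have h1 : (χ : H → ℂ) 1 = (K.index : ℂ) * (ξ : K → ℂ) 1 := by
      rw [← hind, CfsgLib.Induction.indFun_one_apply]
    have h2 := hχη 1
    rw [OneMemClass.coe_one, h1, hξ1, hη1'] at h2
    push_cast
    linear_combination -h2
  have h3 : c * m * i = K.index * n := Nat.cast_injective (mul_right_cancel₀ (irr_one_ne_zero ω) hχ1)
  have hi0 : 0 < m * i := Nat.mul_pos (Nat.pos_of_ne_zero hm0)
    (Nat.pos_of_ne_zero Subgroup.index_ne_zero_of_finite)
  have h4 : c = m * (s * n) := by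
    refine Nat.eq_of_mul_eq_mul_right hi0 ?_
    rw [← mul_assoc c, h3, hs, show K.relIndex T = m ^ 2 * i from hsq.symm]
    ring
  obtain ⟨k, hk⟩ := hTp
  have hmk : m ∣ p ^ k := by
    refine (Dvd.intro (m * i) ?_ : m ∣ (K.subgroupOf T).index).trans ?_
    · rw [← hsq]; ring
    · rw [← hk]
      exact Subgroup.relIndex_dvd_of_le_left T hZK
  obtain ⟨j, -, hj⟩ := (Nat.dvd_prime_pow (Fact.out : p.Prime)).1 hmk
  rcases j with _ | j
  · simpa using hj
  · exact absurd ((hj ▸ dvd_pow_self p (Nat.succ_ne_zero j) : p ∣ m).trans ⟨s * n, h4⟩) hc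

/-- The multiplicity is one if `T / (T ⊓ K)` is cyclic. -/
theorem mult_eq_one_of_cyclic [Fintype (K.subgroupOf T)] (hcyc : IsCyclic (T ⧸ K.subgroupOf T))
    (η : IrrCharacter T) (ω : IrrCharacter (K.subgroupOf T)) (m : ℕ)
    (hm : classInner (fun n : K.subgroupOf T => (η : T → ℂ) n) (ω : K.subgroupOf T → ℂ) = (m : ℂ))
    (hm0 : m ≠ 0) : m = 1 := by
  classical
  have hQn : (K.subgroupOf T).Normal := hKn.subgroupOf T
  set I := CfsgLib.Clifford.inertia hQn (ω : (K.subgroupOf T) → ℂ) with hI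
  haveI : Fintype I := Fintype.ofFinite I
  have hQI : (K.subgroupOf T) ≤ I := CfsgLib.Clifford.le_inertia hQn (irr_isClassFunction ω)
  obtain ⟨ψ, hψ, -, hψm⟩ := CfsgLib.Clifford.correspondence hQn ω.2 I hI hQI η.2
    (by rw [hm]; exact Nat.cast_ne_zero.2 hm0)
  rw [hm] at hψm
  set Q' := (K.subgroupOf T).subgroupOf I with hQ'
  haveI : Fintype Q' := Fintype.ofFinite Q'
  haveI : Q'.Normal := hQn.subgroupOf I
  let j : I ⧸ Q' →* T ⧸ (K.subgroupOf T) := QuotientGroup.map Q' (K.subgroupOf T) I.subtype fun x hx => hx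
  haveI hcI : IsCyclic (I ⧸ Q') := isCyclic_of_injective j (by
    rw [injective_iff_map_eq_one]
    intro a ha
    obtain ⟨a, rfl⟩ := QuotientGroup.mk_surjective a
    exact (QuotientGroup.eq_one_iff a).2
      ((QuotientGroup.eq_one_iff (a : T)).1 (show ((a : T) : T ⧸ (K.subgroupOf T)) = 1 from ha)))
  set ε := Subgroup.subgroupOfEquivOfLe hQI
  obtain ⟨ω₁, hω₁, hω₁v⟩ := CfsgLib.CharExtension.extends_of_isCyclic Q'
    (ϑ := (ω : (K.subgroupOf T) → ℂ) ∘ ε) (CfsgLib.CharCorr.isIrrCharacter_comp_equiv ω.2 ε)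
    (fun g n => (congrArg (ω : (K.subgroupOf T) → ℂ) (Subtype.ext rfl)).trans
      (CfsgLib.Clifford.mem_inertia.1 g.2 (ε n)))
  have hN : IsIrrCharacter Q' (fun n : Q' => ω₁ n) := by
    rw [show (fun n : Q' => ω₁ n) = (ω : (K.subgroupOf T) → ℂ) ∘ ε from funext hω₁v]
    exact CfsgLib.CharCorr.isIrrCharacter_comp_equiv ω.2 ε
  have hinner : classInner (fun n : Q' => ψ n) (fun n : Q' => ω₁ n) = (m : ℂ) := by
    rw [show (fun n : Q' => ω₁ n) = (ω : (K.subgroupOf T) → ℂ) ∘ ε from funext hω₁v,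
      show (fun n : Q' => ψ n) = (fun n : (K.subgroupOf T) => ψ ⟨(n : T), hQI n.2⟩) ∘ ε from funext fun n => rfl,
      CfsgLib.CharCorr.classInner_comp_equiv]
    exact hψm
  set π := CfsgLib.NormalAvg.pairAvg Q' ψ ω₁ with hπdef
  have hπ : IsIrrCharacter I π := CfsgLib.NormalAvg.isIrrCharacter_pairAvg Q' hψ
    (isCharacter_of_irr hω₁) hN (by rw [hinner]; exact Nat.cast_ne_zero.2 hm0)
  have hker : Q' ≤ CfsgLib.Chars17.irrKer (⟨π, hπ⟩ : IrrCharacter I) := fun x hx => by
    show π x = π 1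
    have := CfsgLib.NormalAvg.avgN_mul_left Q' (fun g => ψ g * conj (ω₁ g)) ⟨x, hx⟩ 1
    rw [mul_one] at this
    exact this
  obtain ⟨σ, hσ⟩ := CfsgLib.Chars17.exists_infl_eq Q' hker
  haveI : IsMulCommutative (I ⧸ Q') := ⟨⟨fun a b => by
    letI := IsCyclic.commGroup (α := I ⧸ Q')
    exact mul_comm a b⟩⟩
  have h1 : π 1 = 1 := by
    have := CfsgLib.CharIto.degree_one_of_comm σ.2
    rw [← QuotientGroup.mk_one, ← CfsgLib.Chars17.infl_apply, hσ] at this
    exact this
  rw [hπdef, CfsgLib.NormalAvg.pairAvg_one, hinner, Nat.cast_eq_one] at h1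
  exact h1

variable (hTK : ¬ p ∣ T.relIndex K)
  (hfr : Subgroup.normalizer ((T ⊓ K : Subgroup H) : Set H) ⊔ K = ⊤)

include hTK hfr

/-- A regular orbit gives a `p`-complement in `H / K`. -/
theorem exists_complement_of_mult_one [Fintype (K.subgroupOf T)] (η : IrrCharacter T) (c : ℕ)
    (hc : ¬ p ∣ c) (hχη : ∀ x : T, (χ : H → ℂ) x = (c : ℂ) * (η : T → ℂ) x)
    (hη : ∀ x : T, (x : H) ∉ Z → (η : T → ℂ) x = 0) (ω : IrrCharacter (K.subgroupOf T))
    (hm : classInner (fun n : K.subgroupOf T => (η : T → ℂ) n) (ω : K.subgroupOf T → ℂ) = 1) :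
    ∃ M : Subgroup (H ⧸ K), M.index = p ^ (Nat.card (H ⧸ K)).factorization p := by
  classical
  have hQ'n : (K.subgroupOf T).Normal := hKn.subgroupOf T
  set I := CfsgLib.Clifford.inertia hQ'n (ω : (K.subgroupOf T) → ℂ) with hI
  have hsq : 1 ^ 2 * I.index = (K.subgroupOf T).index :=
    mult_sq Z χ θ e he hres p T hZT hTp hTi K hZK η hη ω 1 (by rw [hm, Nat.cast_one]) one_ne_zero
  rw [one_pow, one_mul] at hsq
  have hIQ : I = (K.subgroupOf T) := by
    have hle : (K.subgroupOf T) ≤ I := CfsgLib.Clifford.le_inertia hQ'n (irr_isClassFunction ω)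
    refine (Subgroup.eq_of_le_of_card_ge hle (le_of_eq ?_)).symm
    refine Nat.eq_of_mul_eq_mul_right (Nat.pos_of_ne_zero
      (Subgroup.index_ne_zero_of_finite (H := I))) ?_
    rw [I.card_mul_index, hsq, (K.subgroupOf T).card_mul_index]
  set Q := T ⊓ K with hQ
  set N := Subgroup.normalizer ((Q : Subgroup H) : Set H) with hN
  have hTN : T ≤ N := fun t ht => by
    refine Subgroup.mem_normalizer_iff.2 fun x => ⟨fun hx => ⟨T.mul_mem (T.mul_mem ht hx.1)
      (T.inv_mem ht), hKn.conj_mem x hx.2 t⟩, fun hx => ⟨?_, ?_⟩⟩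
    · simpa [mul_assoc] using T.mul_mem (T.mul_mem (T.inv_mem ht) hx.1) ht
    · simpa [mul_assoc] using hKn.conj_mem _ hx.2 t⁻¹
  have hQN : Q ≤ N := inf_le_left.trans hTN
  haveI : Fintype N := Fintype.ofFinite N
  set Q2 := Q.subgroupOf N with hQ2
  haveI : Fintype Q2 := Fintype.ofFinite Q2
  have hQ2n : Q2.Normal := Subgroup.normal_in_normalizer
  let δ : Q2 ≃* (K.subgroupOf T) :=
    { toFun := fun x => ⟨⟨((x : N) : H), x.2.1⟩, x.2.2⟩
      invFun := fun x => ⟨⟨((x : T) : H), hTN (x : T).2⟩, ⟨(x : T).2, x.2⟩⟩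
      left_inv := fun x => rfl
      right_inv := fun x => rfl
      map_mul' := fun x y => rfl }
  set ω2 : Q2 → ℂ := (ω : (K.subgroupOf T) → ℂ) ∘ δ with hω2
  set S := CfsgLib.Clifford.inertia hQ2n ω2 with hS
  have hQ2S : Q2 ≤ S := CfsgLib.Clifford.le_inertia hQ2n
    (isClassFunction_of_isCharacter (isCharacter_of_irr
      (CfsgLib.CharCorr.isIrrCharacter_comp_equiv ω.2 δ)))
  have hη0 : classInner (fun n : (K.subgroupOf T) => (η : T → ℂ) n) (ω : (K.subgroupOf T) → ℂ) ≠ 0 := by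
    rw [hm]; exact one_ne_zero
  have hc0 : (c : ℂ) ≠ 0 := Nat.cast_ne_zero.2 fun h => hc (by rw [h]; exact dvd_zero p)
  have hres2 : (fun n : Q2 => (χ : H → ℂ) ((n : N) : H)) =
      (c : ℂ) • ((fun n : (K.subgroupOf T) => (η : T → ℂ) n) ∘ δ) :=
    funext fun n => hχη ⟨((n : N) : H), n.2.1⟩
  -- the orbit under the normaliser is no larger than the orbit under `T`
  have hle : S.index ≤ (K.subgroupOf T).index := by
    rw [hS, ← CfsgLib.Clifford.card_conjOrbit hQ2n ω2, ← hsq, hI,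
      ← CfsgLib.Clifford.card_conjOrbit hQ'n (ω : (K.subgroupOf T) → ℂ)]
    refine Finset.card_le_card_of_injOn (fun ψ => ψ ∘ δ.symm) (fun ψ hψ => ?_) (fun ψ _ ψ' _ h => ?_)
    · obtain ⟨g, hg⟩ := (Set.Finite.mem_toFinset _).1 hψ
      rw [Finset.mem_coe, Set.Finite.mem_toFinset]
      have hirr : IsIrrCharacter (K.subgroupOf T) (ψ ∘ δ.symm) := by
        rw [hg]
        exact CfsgLib.CharCorr.isIrrCharacter_comp_equiv (CfsgLib.Clifford.isIrrCharacter_conjChar
          hQ2n (CfsgLib.CharCorr.isIrrCharacter_comp_equiv ω.2 δ) g) _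
      refine CfsgLib.Clifford.exists_conj_of_constituent hQ'n η.2 ω.2 hirr hη0 fun h0 => ?_
      have h1 : classInner (fun n : Q2 => (χ : H → ℂ) ((n : N) : H)) ψ = 0 := by
        rw [hres2, classInner_smul_left,
          show ψ = (ψ ∘ δ.symm) ∘ δ from funext fun x => by simp,
          CfsgLib.CharCorr.classInner_comp_equiv, h0, mul_zero]
      rw [hg, CfsgLib.Clifford.classInner_res_conjChar hQ2n
        (χ := fun x : N => (χ : H → ℂ) x) (fun x a => irr_isClassFunction χ (x : H) (a : H)),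
        hres2, classInner_smul_left, hω2, CfsgLib.CharCorr.classInner_comp_equiv, hm, mul_one] at h1
      exact hc0 h1
    · funext x
      have := congrFun h (δ x)
      simpa using this
  set T2 := T.subgroupOf N with hT2
  have hST : S ⊓ T2 ≤ Q2 := by
    rintro ⟨t, htN⟩ ⟨htS, htT⟩
    refine ⟨htT, ?_⟩
    have : (⟨t, htT⟩ : T) ∈ I := CfsgLib.Clifford.mem_inertia.2 fun n => by
      have h := CfsgLib.Clifford.mem_inertia.1 htS (δ.symm n)
      exact h
    rw [hIQ] at this
    exact this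
  have hQT : Q2.relIndex T2 = (K.subgroupOf T).index := by
    rw [hQ2, Subgroup.subgroupOf, Subgroup.relIndex_comap, hT2,
      Subgroup.subgroupOf_map_subtype, inf_eq_left.2 hTN, hQ, Subgroup.inf_relIndex_left]
    rfl
  have hge : (K.subgroupOf T).index ≤ S.index := by
    rw [← hQT]
    refine (Nat.le_of_dvd (Nat.pos_of_ne_zero Subgroup.index_ne_zero_of_finite)
      (Subgroup.relIndex_dvd_of_le_left T2 hST)).trans ?_
    show (S ⊓ T2).relIndex T2 ≤ S.index
    rw [Subgroup.inf_relIndex_right, ← Subgroup.relIndex_top_right (H := S)]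
    exact Subgroup.relIndex_le_of_le_right le_top (by
      rw [Subgroup.relIndex_top_right]; exact Subgroup.index_ne_zero_of_finite)
  have hSidx : S.index = (K.subgroupOf T).index := le_antisymm hle hge
  obtain ⟨k, hk⟩ := hTp
  obtain ⟨j, -, hj⟩ := (Nat.dvd_prime_pow (Fact.out : p.Prime)).1
    (show (K.subgroupOf T).index ∣ p ^ k from hk ▸ Subgroup.relIndex_dvd_of_le_left T hZK)
  set f : N →* H ⧸ K := (QuotientGroup.mk' K).comp N.subtype with hf
  have hker : f.ker = K.subgroupOf N := by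
    rw [hf, ← MonoidHom.comap_ker, QuotientGroup.ker_mk']; rfl
  have hsurj : Function.Surjective f := fun q => by
    obtain ⟨h, rfl⟩ := QuotientGroup.mk_surjective q
    have hh : h ∈ N ⊔ K := hfr ▸ Subgroup.mem_top h
    obtain ⟨a, ha, b, hb, rfl⟩ := Subgroup.mem_sup_of_normal_right.1 hh
    refine ⟨⟨a, ha⟩, ?_⟩
    show (a : H ⧸ K) = ((a * b : H) : H ⧸ K)
    rw [QuotientGroup.mk_mul, (QuotientGroup.eq_one_iff b).2 hb, mul_one]
  have hKS : K.subgroupOf N ≤ S := by
    rw [← Subgroup.relIndex_eq_one]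
    have h1 : S.relIndex (K.subgroupOf N) ∣ p ^ j := by
      obtain ⟨a, ha⟩ := Subgroup.relIndex_dvd_index_of_normal (K.subgroupOf N) S
      refine ⟨a, ?_⟩
      have h := relIndex_symm S (K.subgroupOf N)
      rw [ha, hSidx, hj] at h
      exact (Nat.eq_of_mul_eq_mul_left (Nat.pos_of_ne_zero (show (K.subgroupOf N).relIndex S ≠ 0
        from Subgroup.index_ne_zero_of_finite)) (by rw [← h]; ring)).symm
    have h2 : S.relIndex (K.subgroupOf N) ∣ T.relIndex K := by
      refine (Subgroup.relIndex_dvd_of_le_left _ hQ2S).trans ?_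
      rw [hQ2, Subgroup.subgroupOf, Subgroup.relIndex_comap, Subgroup.subgroupOf_map_subtype,
        ← Subgroup.inf_relIndex_right T K, ← hQ]
      exact ⟨(K ⊓ N).relIndex K,
        (Subgroup.relIndex_mul_relIndex Q (K ⊓ N) K (le_inf inf_le_right hQN) inf_le_left).symm⟩
    exact Nat.eq_one_of_dvd_coprimes
      (Nat.Coprime.pow_left j ((Fact.out : p.Prime).coprime_iff_not_dvd.2 hTK)) h1 h2
  refine ⟨S.map f, ?_⟩
  rw [Subgroup.index_map, hker, sup_eq_left.2 hKS, MonoidHom.range_eq_top.2 hsurj,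
    Subgroup.index_top, mul_one, hSidx, hj, ← Subgroup.index_eq_card]
  congr 1
  have hid := relIndex_symm K T
  rw [show K.relIndex T = p ^ j from hj] at hid
  have h1 := congrArg (fun x : ℕ => x.factorization p) hid
  rw [Nat.factorization_mul (pow_ne_zero _ (Fact.out : p.Prime).ne_zero)
      Subgroup.index_ne_zero_of_finite,
    Nat.factorization_mul (show T.relIndex K ≠ 0 from Subgroup.index_ne_zero_of_finite)
      Subgroup.index_ne_zero_of_finite] at h1
  simp only [Finsupp.add_apply, (Fact.out : p.Prime).factorization_pow, Finsupp.single_eq_same,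
    Nat.factorization_eq_zero_of_not_dvd hTi, Nat.factorization_eq_zero_of_not_dvd hTK,
    add_zero, zero_add] at h1
  exact h1

omit hTK hfr in
/-- Some constituent of `η` on `T ⊓ K`. -/
theorem exists_omega [Fintype (K.subgroupOf T)] (η : IrrCharacter T) :
    ∃ (ω : IrrCharacter (K.subgroupOf T)) (m : ℕ), m ≠ 0 ∧
      classInner (fun n : K.subgroupOf T => (η : T → ℂ) n) (ω : K.subgroupOf T → ℂ) = (m : ℂ) := by
  have hc : IsCharacter (K.subgroupOf T) (fun n : K.subgroupOf T => (η : T → ℂ) n) :=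
    CfsgLib.Clifford.isCharacter_subtype (irr_isCharacter η) _
  obtain ⟨ω, hω⟩ := CfsgLib.Clifford.exists_constituent hc
    (fun h0 => irr_one_ne_zero η (congrFun h0 1))
  obtain ⟨m, hm⟩ := classInner_char_nat hc (irr_isCharacter ω)
  exact ⟨ω, m, fun h => hω (by rw [hm, h, Nat.cast_zero]), hm⟩

end CfsgLib.Blk4.FullyRamified
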