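import Cfsg.Agent.Lib.Blk4.Gallagher
import Cfsg.Agent.Lib.Characters.Monomial
import Cfsg.Agent.Lib.Characters.Extension
import Cfsg.Agent.Lib.CharCorr.Basic
import Cfsg.Agent.Lib.Techniques.IndexP
import Mathlib.GroupTheory.RegularWreathProduct

/-!
# Wreath products of M-groups by groups of prime order; solvable groups embed in M-groups
-/

set_option autoImplicit false
set_option linter.unusedSectionVars false
set_option linter.style.haveILetI false

noncomputable section

namespace CfsgLib.Blk4.MWreath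

open Cfsg CfsgLib.Characters
open scoped ComplexConjugate

universe u

/-- All irreducible characters are monomial. -/
def IsM (M : Type u) [Group M] [Fintype M] : Prop :=
  ∀ χ : M → ℂ, IsIrrCharacter M χ → ∃ (H : Subgroup M) (lam : H →* ℂˣ),
    χ = indFun H (fun h => (lam h : ℂ))

section Pullback

variable {X Y : Type u} [Group X] [Group Y] [Fintype X] [Fintype Y]

theorem indFun_comp_equiv (e : X ≃* Y) (H : Subgroup Y) (θ : H → ℂ) (x : X) :
    indFun H θ (e x) = indFun (H.comap e.toMonoidHom) (fun h => θ ⟨e h, h.2⟩) x := by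
  classical
  rw [CfsgLib.Induction.indFun_apply, CfsgLib.Induction.indFun_apply]
  have hc : Nat.card (H.comap e.toMonoidHom) = Nat.card H :=
    Nat.card_congr (e.toEquiv.subtypeEquiv fun _ => Iff.rfl)
  rw [hc, ← Equiv.sum_comp e.toEquiv]
  congr 1
  refine Finset.sum_congr rfl fun z _ => ?_
  by_cases hm : z⁻¹ * x * z ∈ H.comap e.toMonoidHom
  · have hm' : (e.toEquiv z)⁻¹ * e x * e.toEquiv z ∈ H := by
      simpa using hm
    rw [CfsgLib.Induction.extendByZero_mem _ _ hm', CfsgLib.Induction.extendByZero_mem _ _ hm]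
    exact congrArg θ (Subtype.ext (by simp))
  · have hm' : ¬ (e.toEquiv z)⁻¹ * e x * e.toEquiv z ∈ H := by
      simpa using hm
    rw [CfsgLib.Induction.extendByZero_notMem _ _ hm', CfsgLib.Induction.extendByZero_notMem _ _ hm]

theorem isM_of_equiv (e : X ≃* Y) (h : IsM Y) : IsM X := by
  intro χ hχ
  obtain ⟨H, lam, hl⟩ := h (χ ∘ e.symm) (CfsgLib.CharCorr.isIrrCharacter_comp_equiv hχ e.symm)
  refine ⟨H.comap e.toMonoidHom,
    lam.comp ((e.toMonoidHom.comp (H.comap e.toMonoidHom).subtype).codRestrict H fun h => h.2),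
    funext fun x => ?_⟩
  have h1 := congrFun hl (e x)
  simp only [Function.comp_apply, MulEquiv.symm_apply_apply] at h1
  rw [h1, indFun_comp_equiv]
  rfl

end Pullback

section Pi

variable {A : Type u} [Group A] [Fintype A] {ι : Type u} [Fintype ι] [DecidableEq ι]

/-- A product character. -/
def prodChar (f : ι → IrrCharacter A) (x : ι → A) : ℂ := ∏ i, (f i : A → ℂ) (x i)

theorem indFun_pi (H : ι → Subgroup A) (θ : ∀ i, H i → ℂ) (x : ι → A) :
    indFun (Subgroup.pi Set.univ H) (fun h => ∏ i, θ i ⟨(h : ι → A) i, h.2 i (Set.mem_univ i)⟩) x =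
      ∏ i, indFun (H i) (θ i) (x i) := by
  classical
  have hc : Nat.card (Subgroup.pi Set.univ H) = ∏ i, Nat.card (H i) := by
    rw [← Nat.card_pi]
    exact Nat.card_congr
      { toFun := fun h i => ⟨(h : ι → A) i, h.2 i (Set.mem_univ i)⟩
        invFun := fun h => ⟨fun i => h i, fun i _ => (h i).2⟩
        left_inv := fun h => rfl
        right_inv := fun h => rfl }
  simp only [CfsgLib.Induction.indFun_apply, Finset.prod_mul_distrib, hc, Nat.cast_prod,
    Finset.prod_inv_distrib]
  rw [Fintype.prod_sum]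
  congr 1
  refine Finset.sum_congr rfl fun z _ => ?_
  by_cases hm : z⁻¹ * x * z ∈ Subgroup.pi Set.univ H
  · rw [CfsgLib.Induction.extendByZero_mem _ _ hm]
    refine Finset.prod_congr rfl fun i _ => ?_
    show _ = extendByZero (H i) (θ i) ((z⁻¹ * x * z) i)
    rw [CfsgLib.Induction.extendByZero_mem (H i) _ (hm i (Set.mem_univ i))]
  · rw [CfsgLib.Induction.extendByZero_notMem _ _ hm]
    simp only [Subgroup.mem_pi, not_forall] at hm
    obtain ⟨i, -, hi⟩ := hm
    exact (Finset.prod_eq_zero (Finset.mem_univ i)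
      (CfsgLib.Induction.extendByZero_notMem (H i) _ hi)).symm

theorem prodChar_eq_ind (hA : IsM A) (f : ι → IrrCharacter A) :
    ∃ (H : Subgroup (ι → A)) (lam : H →* ℂˣ), prodChar f = indFun H (fun h => (lam h : ℂ)) := by
  classical
  choose H lam hl using fun i => hA (f i : A → ℂ) (f i).2
  refine ⟨Subgroup.pi Set.univ H,
    { toFun := fun h => ∏ i, lam i ⟨(h : ι → A) i, h.2 i (Set.mem_univ i)⟩
      map_one' := Finset.prod_eq_one fun i _ => map_one (lam i)
      map_mul' := fun a b => by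
        rw [← Finset.prod_mul_distrib]
        exact Finset.prod_congr rfl fun i _ => by rw [← map_mul]; rfl }, funext fun x => ?_⟩
  rw [prodChar, Finset.prod_congr rfl fun i _ => congrFun (hl i) (x i), ← indFun_pi]
  congr 1
  funext h
  simp [Units.coe_prod]

theorem classInner_prodChar (f g : ι → IrrCharacter A) :
    classInner (prodChar f) (prodChar g) = ∏ i, classInner (f i : A → ℂ) (g i : A → ℂ) := by
  simp only [classInner, prodChar, Finset.prod_mul_distrib, map_prod, Finset.prod_const,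
    Finset.card_univ]
  rw [Fintype.prod_sum]
  simp only [Finset.prod_mul_distrib]
  rw [Nat.card_eq_fintype_card, Nat.card_eq_fintype_card, Fintype.card_fun, Nat.cast_pow, inv_pow]

theorem isIrr_prodChar (hA : IsM A) (f : ι → IrrCharacter A) :
    IsIrrCharacter (ι → A) (prodChar f) := by
  obtain ⟨H, lam, hl⟩ := prodChar_eq_ind hA f
  haveI : Fintype H := Fintype.ofFinite H
  have hc : IsCharacter (ι → A) (prodChar f) := hl ▸ CfsgLib.Induction.isCharacter_indFun H
    (CfsgLib.Characters.isCharacter_of_irr (isIrrCharacter_of_hom lam))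
  rw [isIrrCharacter_iff_classInner_self hc, classInner_prodChar]
  exact Finset.prod_eq_one fun i _ => classInner_irr_self (f i).2

theorem prodChar_injective : Function.Injective (prodChar : (ι → IrrCharacter A) → _) := by
  intro f g h
  by_contra hne
  obtain ⟨i, hi⟩ := Function.ne_iff.1 hne
  have h1 : classInner (prodChar f) (prodChar g) = 0 := by
    rw [classInner_prodChar]
    exact Finset.prod_eq_zero (Finset.mem_univ i)
      (classInner_irr_ne (f i).2 (g i).2 fun e => hi (Subtype.ext e))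
  rw [← h, classInner_prodChar, Finset.prod_eq_one (fun i _ => classInner_irr_self (f i).2)] at h1
  exact one_ne_zero h1

theorem exists_prodChar (hA : IsM A) (θ : IrrCharacter (ι → A)) :
    ∃ f : ι → IrrCharacter A, prodChar f = (θ : (ι → A) → ℂ) := by
  classical
  let emb : (ι → IrrCharacter A) → IrrCharacter (ι → A) := fun f => ⟨prodChar f, isIrr_prodChar hA f⟩
  have hinj : Function.Injective emb := fun f g h => prodChar_injective (congrArg Subtype.val h)
  by_contra hne
  push Not at hne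
  have hall := sum_sq_degrees (G := ι → A)
  have hsub : ∑ f : ι → IrrCharacter A, (prodChar f 1) ^ 2 = (Nat.card (ι → A) : ℂ) := by
    simp only [prodChar, ← Finset.prod_pow, Pi.one_apply]
    rw [← Fintype.prod_sum (fun _ (χ : IrrCharacter A) => (χ : A → ℂ) 1 ^ 2)]
    simp [sum_sq_degrees, Nat.card_fun]
  rw [← Finset.sum_sdiff (Finset.subset_univ (Finset.univ.image emb)),
    Finset.sum_image fun a _ b _ h => hinj h,
    show ∑ f : ι → IrrCharacter A, (emb f : (ι → A) → ℂ) 1 ^ 2 = (Nat.card (ι → A) : ℂ) from hsub,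
    add_eq_right] at hall
  choose d hd hd1 using fun χ : IrrCharacter (ι → A) => irr_exists_degree χ.2
  simp only [hd1] at hall
  have h0 : ∑ χ ∈ Finset.univ \ Finset.univ.image emb, d χ ^ 2 = 0 := by exact_mod_cast hall
  have hmem : θ ∈ Finset.univ \ Finset.univ.image emb := by
    simp only [Finset.mem_sdiff, Finset.mem_univ, Finset.mem_image, true_and]
    rintro ⟨f, hf⟩
    exact hne f (congrArg Subtype.val hf)
  have := pow_eq_zero_iff two_ne_zero |>.1 (Finset.sum_eq_zero_iff.1 h0 θ hmem)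
  exact (hd θ).ne' this

/-- Powers of M-groups are M-groups. -/
theorem isM_pi (hA : IsM A) : IsM (ι → A) := by
  intro χ hχ
  obtain ⟨f, hf⟩ := exists_prodChar hA ⟨χ, hχ⟩
  obtain ⟨H, lam, hl⟩ := prodChar_eq_ind hA f
  exact ⟨H, lam, hf.symm.trans hl⟩

end Pi

section Wreath

variable {A : Type u} [Group A] [Fintype A] {Q : Type u} [Group Q] [Fintype Q]

/-- The base group. -/
def base (A Q : Type u) [Group A] [Group Q] : Subgroup (A ≀ᵣ Q) :=
  MonoidHom.ker (RegularWreathProduct.rightHom : A ≀ᵣ Q →* Q)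

instance base_normal : (base A Q).Normal := MonoidHom.normal_ker _

theorem mem_base {w : A ≀ᵣ Q} : w ∈ base A Q ↔ w.right = 1 := Iff.rfl

/-- The base group is a power. -/
def baseEquiv (A Q : Type u) [Group A] [Group Q] : base A Q ≃* (Q → A) where
  toFun b := (b : A ≀ᵣ Q).left
  invFun d := ⟨⟨d, 1⟩, rfl⟩
  left_inv b := by
    obtain ⟨⟨d, q⟩, hq⟩ := b
    apply Subtype.ext
    change q = 1 at hq
    subst hq
    rfl
  right_inv d := rfl
  map_mul' a b := by
    have ha : (a : A ≀ᵣ Q).right = 1 := a.2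
    funext x
    show ((a : A ≀ᵣ Q) * b).left x = _
    rw [RegularWreathProduct.mul_left, Pi.mul_apply, ha, inv_one, one_mul]
    rfl

theorem isM_wreath (hA : IsM A) (hQ : (Nat.card Q).Prime) [Fintype (A ≀ᵣ Q)] : IsM (A ≀ᵣ Q) := by
  classical
  intro χ hχ
  set B := base A Q with hB
  haveI : Fintype B := Fintype.ofFinite B
  haveI hQc : IsCyclic Q := by
    haveI := Fact.mk hQ
    exact isCyclic_of_prime_card (p := Nat.card Q) rfl
  have hidx : B.index = Nat.card Q := by
    rw [hB, base, Subgroup.index_ker]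
    rw [MonoidHom.range_eq_top.2 fun q => ⟨RegularWreathProduct.inl q, rfl⟩, Subgroup.card_top]
  have hab : ∀ a b : (A ≀ᵣ Q) ⧸ B, a * b = b * a := by
    intro a b
    obtain ⟨a, rfl⟩ := QuotientGroup.mk_surjective a
    obtain ⟨b, rfl⟩ := QuotientGroup.mk_surjective b
    rw [← QuotientGroup.mk_mul, ← QuotientGroup.mk_mul, QuotientGroup.eq]
    show ((a * b)⁻¹ * (b * a)).right = 1
    letI := IsCyclic.commGroup (α := Q)
    simp [mul_comm]
    rw [← mul_inv, mul_inv_cancel]
  set eB := baseEquiv A Q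
  have hBM : IsM B := isM_of_equiv eB (isM_pi hA)
  obtain ⟨θ, hθ⟩ := CfsgLib.Clifford.exists_constituent
    (CfsgLib.Clifford.isCharacter_subtype (isCharacter_of_irr hχ) B)
    (fun h0 => irr_one_ne_zero ⟨χ, hχ⟩ (congrFun h0 1))
  set I := CfsgLib.Clifford.inertia (base_normal (A := A) (Q := Q)) (θ : B → ℂ) with hI
  have hBI : B ≤ I := CfsgLib.Clifford.le_inertia _ (irr_isClassFunction θ)
  by_cases hItop : I = ⊤
  swap
  · have hIB : B = I := by
      refine le_antisymm hBI (Subgroup.relIndex_eq_one.1 ?_)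
      have h := Subgroup.relIndex_mul_index hBI
      rw [hidx] at h
      rcases hQ.eq_one_or_self_of_dvd _ (Dvd.intro _ h) with h1 | h1
      · exact h1
      · rw [h1] at h
        exact absurd (Subgroup.index_eq_one.1 ((mul_eq_left₀ hQ.ne_zero).1 h)) hItop
    obtain ⟨ψ, hψ, hind, -⟩ :=
      CfsgLib.Clifford.correspondence (base_normal (A := A) (Q := Q)) θ.2 B hIB le_rfl hχ hθ
    obtain ⟨H, lam, hl⟩ := CfsgLib.CharMonomial.exists_monomial_of_indFun B (hBM ψ hψ)
    exact ⟨H, lam, hind ▸ hl⟩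
  obtain ⟨f, hf⟩ := exists_prodChar hA (CfsgLib.CharCorr.twistIrr eB.symm θ)
  have hθv : ∀ b : B, (θ : B → ℂ) b = ∏ q, (f q : A → ℂ) ((b : A ≀ᵣ Q).left q) := by
    intro b
    have := congrFun hf (eB b)
    rw [CfsgLib.CharCorr.twistIrr_apply, MulEquiv.symm_apply_apply] at this
    exact this.symm
  have hconst : ∀ t : Q, (fun q => f (t * q)) = f := by
    intro t
    refine prodChar_injective (funext fun d => ?_)
    have hmem : (RegularWreathProduct.inl t : A ≀ᵣ Q) ∈ I := hItop ▸ Subgroup.mem_top _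
    have h1 := CfsgLib.Clifford.mem_inertia.1 hmem (eB.symm d)
    rw [hθv, hθv] at h1
    show ∏ q, (f (t * q) : A → ℂ) (d q) = ∏ q, (f q : A → ℂ) (d q)
    refine Eq.trans ?_ h1
    refine Fintype.prod_equiv (Equiv.mulLeft t) _ _ fun q => ?_
    simp [eB, baseEquiv]
  set φ := f 1 with hφ
  have hfφ : ∀ q, f q = φ := fun q => by
    have := congrFun (hconst q) 1
    simpa [hφ] using this
  obtain ⟨H, lam, hl⟩ := hA (φ : A → ℂ) φ.2
  haveI : Fintype H := Fintype.ofFinite H
  let K : Subgroup (A ≀ᵣ Q) :=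
    { carrier := {w | ∀ q, w.left q ∈ H}
      one_mem' := fun q => H.one_mem
      mul_mem' := fun {a b} ha hb q => H.mul_mem (ha q) (hb _)
      inv_mem' := fun {a} ha q => H.inv_mem (ha _) }
  haveI : Fintype K := Fintype.ofFinite K
  let Λ : K →* ℂˣ :=
    { toFun := fun w => ∏ q, lam ⟨(w : A ≀ᵣ Q).left q, w.2 q⟩
      map_one' := Finset.prod_eq_one fun q _ => map_one lam
      map_mul' := fun a b => by
        have e : ∏ q, lam ⟨(b : A ≀ᵣ Q).left q, b.2 q⟩ =
            ∏ q, lam ⟨(b : A ≀ᵣ Q).left ((a : A ≀ᵣ Q).right⁻¹ * q), b.2 _⟩ :=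
          (Fintype.prod_equiv (Equiv.mulLeft (a : A ≀ᵣ Q).right⁻¹) _ _ fun q => rfl).symm
        rw [e, ← Finset.prod_mul_distrib]
        refine Finset.prod_congr rfl fun q _ => ?_
        rw [← map_mul]
        rfl }
  set ψ : (A ≀ᵣ Q) → ℂ := indFun K (fun w => (Λ w : ℂ)) with hψdef
  have hψc : IsCharacter (A ≀ᵣ Q) ψ := CfsgLib.Induction.isCharacter_indFun K
    (isCharacter_of_irr (isIrrCharacter_of_hom Λ))
  have hKcard : Nat.card K = Nat.card H ^ Nat.card Q * Nat.card Q := by
    rw [← Nat.card_fun, ← Nat.card_prod]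
    exact Nat.card_congr
      { toFun := fun w => (fun q => ⟨(w : A ≀ᵣ Q).left q, w.2 q⟩, (w : A ≀ᵣ Q).right)
        invFun := fun x => ⟨⟨fun q => x.1 q, x.2⟩, fun q => (x.1 q).2⟩
        left_inv := fun w => rfl
        right_inv := fun x => rfl }
  have hψB : ∀ b : B, ψ b = (θ : B → ℂ) b := by
    intro b
    set z := (b : A ≀ᵣ Q) with hz
    have hzr : z.right = 1 := b.2
    have hext : ∀ x : A ≀ᵣ Q, extendByZero K (fun w => (Λ w : ℂ)) (x⁻¹ * z * x) =
        ∏ q, extendByZero H (fun h => (lam h : ℂ)) ((x.left q)⁻¹ * z.left q * x.left q) := by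
      intro x
      have hleft : ∀ q, (x⁻¹ * z * x).left q =
          (x.left (x.right * q))⁻¹ * z.left (x.right * q) * x.left (x.right * q) := fun q => by
        simp [hzr]
      by_cases hm : x⁻¹ * z * x ∈ K
      · rw [CfsgLib.Induction.extendByZero_mem _ _ hm]
        show ((∏ q, lam ⟨(x⁻¹ * z * x).left q, hm q⟩ : ℂˣ) : ℂ) = _
        rw [Units.coe_prod]
        refine Fintype.prod_equiv (Equiv.mulLeft x.right) _ _ fun q => ?_
        rw [Equiv.coe_mulLeft, ← hleft, CfsgLib.Induction.extendByZero_mem _ _ (hm q)]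
      · rw [CfsgLib.Induction.extendByZero_notMem _ _ hm]
        obtain ⟨q, hq⟩ : ∃ q, ¬ (x⁻¹ * z * x).left q ∈ H := not_forall.1 hm
        rw [hleft] at hq
        exact (Finset.prod_eq_zero (Finset.mem_univ (x.right * q))
          (CfsgLib.Induction.extendByZero_notMem H (fun h => (lam h : ℂ)) hq)).symm
    rw [hθv, hψdef, CfsgLib.Induction.indFun_apply, Finset.sum_congr rfl (fun x _ => hext x),
      hKcard, ← (RegularWreathProduct.equivProd A Q).symm.sum_comp, Fintype.sum_prod_type]
    have he : ∀ (d : Q → A) (t : Q), ((RegularWreathProduct.equivProd A Q).symm (d, t)).left = d :=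
      fun d t => rfl
    simp only [he, Finset.sum_const, Finset.card_univ, nsmul_eq_mul, ← Finset.mul_sum]
    rw [← Fintype.prod_sum (fun q (a : A) => extendByZero H (fun h => (lam h : ℂ))
      (a⁻¹ * z.left q * a))]
    simp only [hfφ, hl, CfsgLib.Induction.indFun_apply, Finset.prod_mul_distrib, Finset.prod_const,
      Finset.card_univ, ← Nat.card_eq_fintype_card, inv_pow]
    push_cast
    have h1 : (Nat.card Q : ℂ) ≠ 0 := Nat.cast_ne_zero.2 Nat.card_pos.ne'
    have h2 : (Nat.card H : ℂ) ≠ 0 := Nat.cast_ne_zero.2 Nat.card_pos.ne'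
    field_simp
    rfl
  have hψres : IsIrrCharacter B (fun b : B => ψ b) := by
    rw [show (fun b : B => ψ b) = (θ : B → ℂ) from funext hψB]
    exact θ.2
  have hψirr := CfsgLib.CharExtension.isIrrCharacter_of_restrict B hψc hψres
  obtain ⟨μ, -, hμ⟩ := CfsgLib.Blk4.Gallagher.exists_linear_factor B hab ⟨χ, hχ⟩ ⟨ψ, hψirr⟩ hψres
    (by
      rw [show (fun b : B => ψ b) = (θ : B → ℂ) from funext hψB]
      exact hθ)
  refine ⟨K, Λ * μ.comp K.subtype, ?_⟩
  have hμc : IsClassFunction (A ≀ᵣ Q) (fun g => (μ g : ℂ)) :=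
    isClassFunction_of_isCharacter (isCharacter_of_irr (isIrrCharacter_of_hom μ))
  have h := CfsgLib.Induction.indFun_mul K hμc (fun w => (Λ w : ℂ))
  rw [← hψdef] at h
  rw [show χ = ψ * fun g => (μ g : ℂ) from hμ, h]
  congr 1

end Wreath

section Embedding

/-- The embedding of an extension in the wreath product. -/
theorem exists_embedding {G : Type u} [Group G] (N : Subgroup G) [N.Normal] {A : Type u} [Group A]
    (φ : N →* A) (hφ : Function.Injective φ) :
    ∃ f : G →* A ≀ᵣ (G ⧸ N), Function.Injective f := by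
  let r : G ⧸ N → G := fun q => q.out
  have hr : ∀ q, ((r q : G) : G ⧸ N) = q := fun q => q.out_eq'
  have hm : ∀ (g : G) (q : G ⧸ N), (r q)⁻¹ * g * r ((g : G ⧸ N)⁻¹ * q) ∈ N := by
    intro g q
    rw [← QuotientGroup.eq_one_iff, QuotientGroup.mk_mul, QuotientGroup.mk_mul,
      QuotientGroup.mk_inv, hr, hr]
    group
  refine ⟨MonoidHom.mk' (fun g => ⟨fun q => φ ⟨_, hm g q⟩, (g : G ⧸ N)⟩) fun a b => ?_, ?_⟩
  · refine RegularWreathProduct.ext (funext fun q => ?_) (QuotientGroup.mk_mul N a b)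
    show φ _ = φ _ * φ _
    rw [← map_mul]
    refine congrArg φ (Subtype.ext ?_)
    simp only [Subgroup.coe_mul, QuotientGroup.mk_mul, mul_inv_rev, mul_assoc]
    group
  · rw [injective_iff_map_eq_one]
    intro g hg
    have h1 : (g : G ⧸ N) = 1 := congrArg RegularWreathProduct.right hg
    have h2 : φ ⟨_, hm g (g : G ⧸ N)⟩ = 1 :=
      congrFun (congrArg RegularWreathProduct.left hg) (g : G ⧸ N)
    have h3 : (r (g : G ⧸ N))⁻¹ * g * r ((g : G ⧸ N)⁻¹ * (g : G ⧸ N)) = 1 :=
      congrArg Subtype.val ((injective_iff_map_eq_one φ).1 hφ _ h2)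
    simp only [inv_mul_cancel, h1] at h3
    have : g = r (1 : G ⧸ N) * ((r (1 : G ⧸ N))⁻¹ * g * r 1) * (r (1 : G ⧸ N))⁻¹ := by group
    rw [this, h3, mul_one, mul_inv_cancel]

theorem exists_isM (n : ℕ) : ∀ (G : Type u) [Group G] [Finite G], Group.IsSolvable G →
    Nat.card G = n → ∃ (M : Type u) (_ : Group M) (_ : Fintype M), IsM M ∧
      ∃ f : G →* M, Function.Injective f := by
  induction n using Nat.strong_induction_on with
  | _ n ih =>
  intro G _ _ hs hn
  classical
  by_cases ht : Nontrivial G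
  swap
  · haveI : Subsingleton G := not_nontrivial_iff_subsingleton.1 ht
    haveI := Fintype.ofFinite G
    haveI : IsMulCommutative G := ⟨⟨fun a b => Subsingleton.elim _ _⟩⟩
    exact ⟨G, inferInstance, inferInstance, fun χ hχ => CfsgLib.CharMonomial.monomial_of_degree_one
      (isCharacter_of_irr hχ) (CfsgLib.CharIto.degree_one_of_comm hχ), MonoidHom.id G,
      fun _ _ h => h⟩
  haveI := hs
  obtain ⟨N, hN, hp⟩ : ∃ N : Subgroup G, N.Normal ∧ N.index.Prime := by
    have hne : commutator G ≠ ⊤ := (Group.IsSolvable.commutator_lt_top_of_nontrivial G).ne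
    haveI : Nontrivial (G ⧸ commutator G) := QuotientGroup.nontrivial_iff.2 hne
    haveI : Nontrivial (Abelianization G) := this
    obtain ⟨q, hq, hqd⟩ := Nat.exists_prime_and_dvd
      (Finite.one_lt_card (α := Abelianization G)).ne'
    haveI := Fact.mk hq
    obtain ⟨S, hS⟩ := CfsgLib.Techniques.Fusion.exists_index_eq_prime hqd
    refine ⟨S.comap Abelianization.of, Subgroup.Normal.comap inferInstance _, ?_⟩
    rw [Subgroup.index_comap_of_surjective S (f := Abelianization.of) (fun a => Quotient.exists_rep a),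
      hS]
    exact hq
  haveI := hN
  have hlt : Nat.card N < n := by
    rw [← hn, ← N.card_mul_index]
    exact lt_mul_of_one_lt_right Nat.card_pos hp.one_lt
  obtain ⟨A, _, _, hA, φ, hφ⟩ := ih _ hlt N inferInstance rfl
  haveI := Fintype.ofFinite (G ⧸ N)
  haveI := Fintype.ofFinite (A ≀ᵣ (G ⧸ N))
  obtain ⟨f, hf⟩ := exists_embedding N φ hφ
  exact ⟨A ≀ᵣ (G ⧸ N), inferInstance, inferInstance,
    isM_wreath hA (by rw [← Subgroup.index_eq_card]; exact hp), f, hf⟩

end Embedding

end CfsgLib.Blk4.MWreath
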