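import Cfsg.Agent.Lib.Blk4.SectionContrib

/-!
# Units among the contributions of a major subsection

For a major subsection `(z, b)` of a block `B` some diagonal contribution is a unit, the
contributions of a character of height zero do not vanish, and those of a character of positive
height are divisible by the maximal ideal.
-/

set_option autoImplicit false
set_option linter.unusedSectionVars false
set_option linter.style.haveILetI false

noncomputable section

namespace CfsgLib.Blk4.Major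

open Cfsg CfsgLib.Characters CfsgLib.Blocks CfsgLib.Contribution CfsgLib.Induction
open scoped ComplexConjugate

universe u

variable {G : Type u} [Group G] [Fintype G] {p : ℕ} {M : Ideal AlgInt}

theorem isUnit_part (hM : IsPModular p M) {x y : ℂ} (h : ¬ MemLocalIdeal M x)
    (e : MemLocalIdeal M (x - y)) : ¬ MemLocalIdeal M y := fun hy => h (by
  simpa using MemLocalIdeal.add hM e hy)

theorem mul_not_mem (hM : IsPModular p M) {x y : ℂ} (hx : MemLocalRing M x) (hy : MemLocalRing M y)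
    (h1 : ¬ MemLocalIdeal M x) (h2 : ¬ MemLocalIdeal M y) : ¬ MemLocalIdeal M (x * y) :=
  fun h => (MemLocalIdeal.mul_cases hM hx hy h).elim h1 h2

/-- Congruence modulo the local ideal, composed. -/
theorem congr_trans (hM : IsPModular p M) {x y w : ℂ} (h1 : MemLocalIdeal M (x - y))
    (h2 : MemLocalIdeal M (y - w)) : MemLocalIdeal M (x - w) := by
  simpa using MemLocalIdeal.add hM h1 h2

variable (z : G) [Fintype (Subgroup.centralizer ({z} : Set G))]
  [Fintype (ConjClasses (Subgroup.centralizer ({z} : Set G)))]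
  (b : Set (IrrCharacter (Subgroup.centralizer ({z} : Set G)))) {B : Set (IrrCharacter G)}

open scoped Classical in
/-- The image of a row of contributions of `b`. -/
def yv (p : ℕ) (η₀ : IrrCharacter (Subgroup.centralizer ({z} : Set G))) (φ : IrrCharacter G) : ℤ :=
  ∑ η ∈ Finset.univ.filter (· ∈ b), contribInt p b η₀ η * (nm z φ η : ℤ)

/-- The idempotent of `B` is invisible on singular elements. -/
theorem blockCoeff_singular (hM : IsPModular p M) (hB : IsPBlock M B) {g : G}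
    (hg : p ∣ orderOf g) : blockCoeff B g = 0 := by
  classical
  rw [blockCoeff_eq_sum, weak_orth hM hB (x := 1) (by rw [orderOf_one]; exact hM.1.not_dvd_one) hg,
    mul_zero]

open scoped Classical in
/-- The idempotent of `B`, evaluated by a member of `b`. -/
theorem sum_coeff_congr (hM : IsPModular p M)
    (hind : IsInducedBlock M (Subgroup.centralizer ({z} : Set G)) b B)
    {η : IrrCharacter (Subgroup.centralizer ({z} : Set G))} (hη : η ∈ b) :
    MemLocalIdeal M (∑ c : (Subgroup.centralizer ({z} : Set G)),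
      blockCoeff B (c : G) * ((η : (Subgroup.centralizer ({z} : Set G)) → ℂ) c /
        (η : (Subgroup.centralizer ({z} : Set G)) → ℂ) 1) - 1) := by
  obtain ⟨χ, hχ⟩ := IsPBlock.nonempty hM hind.2.1
  rw [← sum_blockCoeff_mul_centralChar (B := B) hχ,
    ← Finset.sum_fiberwise Finset.univ (fun c : (Subgroup.centralizer ({z} : Set G)) => ConjClasses.mk (c : G)),
    ← Finset.sum_sub_distrib]
  refine MemLocalIdeal.sum hM _ fun K _ => ?_
  have hK : ∀ x : G, ConjClasses.mk x = K ↔ IsConj K.out x := by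
    intro x
    rw [isConj_comm, ← ConjClasses.mk_eq_mk_iff_isConj,
      show ConjClasses.mk K.out = K from Quotient.out_eq K]
  have he : ∑ c ∈ Finset.univ.filter (fun c : (Subgroup.centralizer ({z} : Set G)) => ConjClasses.mk (c : G) = K),
      blockCoeff B (c : G) * ((η : (Subgroup.centralizer ({z} : Set G)) → ℂ) c /
        (η : (Subgroup.centralizer ({z} : Set G)) → ℂ) 1) =
      blockCoeff B K.out * inducedCentralChar (Subgroup.centralizer ({z} : Set G))
        (η : (Subgroup.centralizer ({z} : Set G)) → ℂ) K.out := by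
    rw [inducedCentralChar, finsum_mem_eq_sum_of_inter_support_eq (t := Finset.univ.filter
      (fun c : (Subgroup.centralizer ({z} : Set G)) => ConjClasses.mk (c : G) = K)), Finset.mul_sum]
    · refine Finset.sum_congr rfl fun c hc => ?_
      rw [blockCoeff_of_isConj B ((hK _).1 (Finset.mem_filter.1 hc).2)]
    · ext c; simp [hK]
  rw [he, ← mul_sub]
  exact MemLocalIdeal.mul_left hM (memLocalRing_blockCoeff hM hind.2.1 _) (hind.2.2 η hη χ hχ _)

open scoped Classical in
/-- Some entry of the image of a row of height zero is prime to `p`. -/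
theorem exists_yv_unit (hM : IsPModular p M) (hind : IsInducedBlock M (Subgroup.centralizer ({z} : Set G)) b B)
    (hd : blockDefect p b = blockDefect p B)
    {η₀ : IrrCharacter (Subgroup.centralizer ({z} : Set G))} (hη₀ : η₀ ∈ b) (h0 : ¬ p ∣ red p b η₀) :
    ∃ φ ∈ B, ¬ (p : ℤ) ∣ yv z b p η₀ φ := by
  haveI := Fintype.ofFinite (ConjClasses G)
  have hb := hind.1
  have hB := hind.2.1
  let f : (Subgroup.centralizer ({z} : Set G)) → ℂ := fun c =>
    if ¬ p ∣ orderOf c then (p : ℂ) ^ blockDefect p b * (η₀ : (Subgroup.centralizer ({z} : Set G)) → ℂ) c else 0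
  set F : G → ℂ := Cfsg.indFun (Subgroup.centralizer ({z} : Set G)) f with hFdef
  have hF : IsClassFunction G F := isClassFunction_indFun _ f
  have hexp : ∀ c, f c = ∑ η ∈ Finset.univ.filter (· ∈ b),
      contrib p (blockDefect p b) η₀ η * (η : (Subgroup.centralizer ({z} : Set G)) → ℂ) c :=
    fun c => expand hM hb hη₀ c
  have hco : ∀ φ : IrrCharacter G, classInner F (φ : G → ℂ) = (yv z b p η₀ φ : ℂ) := by
    intro φ
    rw [hFdef, classInner_indFun _ _ (irr_isClassFunction φ), yv, Int.cast_sum]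
    have e : ∀ η : IrrCharacter (Subgroup.centralizer ({z} : Set G)),
        (nm z φ η : ℂ) = (Nat.card (Subgroup.centralizer ({z} : Set G)) : ℂ)⁻¹ *
          ∑ c, (η : (Subgroup.centralizer ({z} : Set G)) → ℂ) c * conj ((φ : G → ℂ) c) := by
      intro η
      have h := congrArg conj (nm_spec z φ η)
      rw [← classInner_swap, Complex.conj_natCast] at h
      rw [← h, classInner]
    simp only [Int.cast_mul, Int.cast_natCast, e, classInner, hexp, Finset.sum_mul]
    rw [Finset.sum_comm, Finset.mul_sum]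
    refine Finset.sum_congr rfl fun η hη => ?_
    rw [contribInt_cast hM hb η₀ (Finset.mem_filter.1 hη).2, Finset.mul_sum, Finset.mul_sum,
      Finset.mul_sum]
    exact Finset.sum_congr rfl fun c _ => by ring
  have hpart : ∀ x : G, blockPart B F x =
      ∑ φ ∈ Finset.univ.filter (· ∈ B), (yv z b p η₀ φ : ℂ) * (φ : G → ℂ) x :=
    fun x => by rw [blockPart_eq_sum]; simp only [hco]
  have hsing : ∀ g : G, p ∣ orderOf g → F g = 0 := by
    intro g hg
    rw [hFdef, indFun_apply, Finset.sum_eq_zero, mul_zero]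
    intro x _
    by_cases hx : x⁻¹ * g * x ∈ Subgroup.centralizer ({z} : Set G)
    · rw [extendByZero_mem _ _ hx]
      simp only [f]
      rw [if_neg]
      rw [not_not, ← Subgroup.orderOf_coe]
      rwa [show orderOf (x⁻¹ * g * x) = orderOf g by
        simpa using (MulAut.conj x⁻¹).orderOf_eq g]
    · rw [extendByZero_notMem _ _ hx]
  have hvan : ∀ x : G, p ∣ orderOf x →
      ∑ φ ∈ Finset.univ.filter (· ∈ B), (yv z b p η₀ φ : ℂ) * (φ : G → ℂ) x = 0 := by
    intro x hx
    simp only [← hco, classInner, Finset.mul_sum, Finset.sum_mul]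
    rw [Finset.sum_comm]
    refine Finset.sum_eq_zero fun g _ => ?_
    by_cases hg : p ∣ orderOf g
    · exact Finset.sum_eq_zero fun φ _ => by rw [hsing g hg]; ring
    · have h := congrArg conj (weak_orth hM hB hg hx)
      simp only [map_sum, map_mul, Complex.conj_conj, map_zero] at h
      calc ∑ φ ∈ Finset.univ.filter (· ∈ B), (Nat.card G : ℂ)⁻¹ * (F g * conj ((φ : G → ℂ) g)) * (φ : G → ℂ) x
          = (Nat.card G : ℂ)⁻¹ * F g *
              ∑ φ ∈ Finset.univ.filter (· ∈ B), conj ((φ : G → ℂ) g) * (φ : G → ℂ) x := by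
            rw [Finset.mul_sum]; exact Finset.sum_congr rfl fun φ _ => by ring
        _ = 0 := by rw [h, mul_zero]
  -- the value at one
  set T : ℂ := ∑ c : (Subgroup.centralizer ({z} : Set G)),
      blockCoeff B (c : G) * ((η₀ : (Subgroup.centralizer ({z} : Set G)) → ℂ) c /
        (η₀ : (Subgroup.centralizer ({z} : Set G)) → ℂ) 1) with hT
  have hT1 := sum_coeff_congr z b hM hind hη₀
  rw [← hT] at hT1
  set cG : ℕ := Nat.card G / p ^ (Nat.card G).factorization p with hcG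
  set cC : ℕ := Nat.card (Subgroup.centralizer ({z} : Set G)) /
    p ^ (Nat.card (Subgroup.centralizer ({z} : Set G))).factorization p with hcC
  have hval : ∑ φ ∈ Finset.univ.filter (· ∈ B), (yv z b p η₀ φ : ℂ) * (red p B φ : ℂ) =
      (p : ℂ) ^ blockDefect p B * ((cG : ℂ) * (cC : ℂ)⁻¹ * (red p b η₀ : ℂ) * T) := by
    have h1 : blockPart B F 1 = ∑ k : G, F k * blockCoeff B k := by
      rw [← sum_blockCoeff_mul_eq_blockPart B hF 1]
      simp [mul_comm]
    have h2 := sum_indFun_mul (Subgroup.centralizer ({z} : Set G)) f (f := blockCoeff B)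
      (fun g x => blockCoeff_conj B g x)
    have h3 : ∑ c : (Subgroup.centralizer ({z} : Set G)), f c * blockCoeff B (c : G) =
        (p : ℂ) ^ blockDefect p b * (η₀ : (Subgroup.centralizer ({z} : Set G)) → ℂ) 1 * T := by
      rw [hT, Finset.mul_sum]
      refine Finset.sum_congr rfl fun c _ => ?_
      have := irr_one_ne_zero η₀
      simp only [f]
      split_ifs with hc
      · rw [blockCoeff_singular hM hB (by rwa [Subgroup.orderOf_coe])]
        ring
      · field_simp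
    rw [h3, ← hFdef, ← h1, hpart, apply_one_red (p := p) hη₀] at h2
    have h4 : ∑ φ ∈ Finset.univ.filter (· ∈ B), (yv z b p η₀ φ : ℂ) * (φ : G → ℂ) 1 =
        (p : ℂ) ^ minExp p B * ∑ φ ∈ Finset.univ.filter (· ∈ B), (yv z b p η₀ φ : ℂ) * (red p B φ : ℂ) := by
      rw [Finset.mul_sum]
      refine Finset.sum_congr rfl fun φ hφ => ?_
      rw [apply_one_red (p := p) (Finset.mem_filter.1 hφ).2]; ring
    rw [h4, cast_card_eq (G := G) (p := p),
      cast_card_eq (G := (Subgroup.centralizer ({z} : Set G))) (p := p),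
      ← hcG, ← hcC, ← minExp_add_defect hM hB, ← minExp_add_defect hM hb, pow_add, pow_add, hd] at h2
    have hp0 : (p : ℂ) ≠ 0 := Nat.cast_ne_zero.mpr hM.1.ne_zero
    have hC0 : (cC : ℂ) ≠ 0 := Nat.cast_ne_zero.mpr fun h =>
      cofactor_not_dvd (G := (Subgroup.centralizer ({z} : Set G))) hM.1 (by rw [← hcC, h]; exact dvd_zero p)
    have hG0 : (cG : ℂ) ≠ 0 := Nat.cast_ne_zero.mpr fun h =>
      cofactor_not_dvd (G := G) hM.1 (by rw [← hcG, h]; exact dvd_zero p)
    field_simp at h2 ⊢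
    linear_combination h2
  by_contra hall
  push Not at hall
  choose! y' hy' using hall
  obtain ⟨r, hr, hreq⟩ := vanish_pairing hM hB (fun φ => (y' φ : ℂ))
    (fun φ _ => intCast_mem (lRing hM) _) (fun x hx => by
      apply mul_left_cancel₀ (Nat.cast_ne_zero.mpr hM.1.ne_zero : (p : ℂ) ≠ 0)
      rw [mul_zero, Finset.mul_sum, ← hvan x hx]
      refine Finset.sum_congr rfl fun φ hφ => ?_
      rw [hy' φ (Finset.mem_filter.mp hφ).2]; push_cast; ring)
  have hu : (cG : ℂ) * (cC : ℂ)⁻¹ * (red p b η₀ : ℂ) * T = (p : ℂ) * r := by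
    apply mul_left_cancel₀ (pow_ne_zero (blockDefect p B) (Nat.cast_ne_zero.mpr hM.1.ne_zero : (p : ℂ) ≠ 0))
    rw [← hval, mul_left_comm, ← hreq, Finset.mul_sum]
    refine Finset.sum_congr rfl fun φ hφ => ?_
    rw [hy' φ (Finset.mem_filter.mp hφ).2]; push_cast; ring
  have hTm : MemLocalRing M T := by
    simpa using (lRing hM).add_mem (MemLocalIdeal.memLocalRing hT1) (lRing hM).one_mem
  have hcg : ¬ MemLocalIdeal M (cG : ℂ) := fun h =>
    cofactor_not_dvd (G := G) hM.1 ((memLocalIdeal_natCast_iff hM _).1 h)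
  have hr0 : ¬ MemLocalIdeal M (red p b η₀ : ℂ) := fun h => h0 ((memLocalIdeal_natCast_iff hM _).1 h)
  have hTu : ¬ MemLocalIdeal M T := fun h => not_memLocalIdeal_one hM (by
    simpa using MemLocalIdeal.sub hM h hT1)
  have hCr : ((cC : ℂ))⁻¹ ∈ lRing hM :=
    inv_natCast_mem_lRing hM (cofactor_not_dvd (G := (Subgroup.centralizer ({z} : Set G))) hM.1)
  refine mul_not_mem hM (natCast_mem (lRing hM) _) ((lRing hM).mul_mem (natCast_mem (lRing hM) _) hTm)
    hcg (mul_not_mem hM (natCast_mem (lRing hM) _) hTm hr0 hTu) ?_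
  have hC0 : (cC : ℂ) ≠ 0 := Nat.cast_ne_zero.mpr fun h =>
    cofactor_not_dvd (G := (Subgroup.centralizer ({z} : Set G))) hM.1 (by rw [← hcC, h]; exact dvd_zero p)
  rw [show (cG : ℂ) * ((red p b η₀ : ℂ) * T) = (cC : ℂ) * ((p : ℂ) * r) by
    rw [← hu]; field_simp]
  exact MemLocalIdeal.mul_left hM (natCast_mem (lRing hM) _)
    (MemLocalIdeal.mul_right hM (memLocalIdeal_p hM) hr)

/-- Contributions of `b` modulo the local ideal. -/
theorem contrib_congr (hM : IsPModular p M) (hb : IsPBlock M b)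
    {η₀ ξ η : IrrCharacter (Subgroup.centralizer ({z} : Set G))} (hη₀ : η₀ ∈ b) (hξ : ξ ∈ b) (hη : η ∈ b) :
    MemLocalIdeal M (contrib p (blockDefect p b) ξ η * (red p b η₀ : ℂ) -
      (red p b ξ : ℂ) * (red p b η : ℂ) * tfac p η₀ η₀) := by
  have e1 : contrib p (blockDefect p b) ξ η₀ = (red p b ξ : ℂ) * tfac p η₀ ξ := by
    rw [contrib_symm hM hb ξ hη₀, contrib_eq hM hb η₀ hξ]
  rw [contrib_eq hM hb ξ hη₀] at e1
  have h1 := tfac_congr hM ξ ((IsPBlock.mem_iff hM hb hη η₀).1 hη₀)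
  have h2 := tfac_congr hM η₀ ((IsPBlock.mem_iff hM hb hξ η₀).1 hη₀)
  rw [contrib_eq hM hb ξ hη,
    show (red p b η : ℂ) * tfac p ξ η * (red p b η₀ : ℂ) -
        (red p b ξ : ℂ) * (red p b η : ℂ) * tfac p η₀ η₀ =
      (red p b η : ℂ) * (red p b η₀ : ℂ) * (tfac p ξ η - tfac p ξ η₀) +
        (red p b η : ℂ) * (red p b ξ : ℂ) * (tfac p η₀ ξ - tfac p η₀ η₀) by
      linear_combination (red p b η : ℂ) * e1]
  exact MemLocalIdeal.add hM
    (MemLocalIdeal.mul_left hM ((lRing hM).mul_mem (natCast_mem (lRing hM) _) (natCast_mem (lRing hM) _)) h1)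
    (MemLocalIdeal.mul_left hM ((lRing hM).mul_mem (natCast_mem (lRing hM) _) (natCast_mem (lRing hM) _)) h2)

theorem Rv_cast (χ : IrrCharacter G) [DecidablePred (· ∈ b)] :
    (Rv z b p χ : ℂ) = ∑ ξ ∈ Finset.univ.filter (· ∈ b), (nm z χ ξ : ℂ) * (red p b ξ : ℂ) := by
  rw [Rv]; push_cast
  refine Finset.sum_congr ?_ fun _ _ => rfl
  ext; simp

open scoped Classical in
/-- The image of the row, modulo `p`. -/
theorem yv_congr (hM : IsPModular p M) (hb : IsPBlock M b)
    {η₀ : IrrCharacter (Subgroup.centralizer ({z} : Set G))} (hη₀ : η₀ ∈ b) (φ : IrrCharacter G) :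
    MemLocalIdeal M ((yv z b p η₀ φ : ℂ) - tfac p η₀ η₀ * (Rv z b p φ : ℂ)) := by
  rw [yv, Rv_cast, Finset.mul_sum, Int.cast_sum, ← Finset.sum_sub_distrib]
  refine MemLocalIdeal.sum hM _ fun η hη => ?_
  have hη' := (Finset.mem_filter.1 hη).2
  rw [Int.cast_mul, Int.cast_natCast, contribInt_cast hM hb η₀ hη', contrib_eq hM hb η₀ hη',
    show (red p b η : ℂ) * tfac p η₀ η * (nm z φ η : ℂ) -
      tfac p η₀ η₀ * ((nm z φ η : ℂ) * (red p b η : ℂ)) =
      (red p b η : ℂ) * (nm z φ η : ℂ) * (tfac p η₀ η - tfac p η₀ η₀) by ring]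
  exact MemLocalIdeal.mul_left hM ((lRing hM).mul_mem (natCast_mem (lRing hM) _) (natCast_mem (lRing hM) _))
    (tfac_congr hM η₀ ((IsPBlock.mem_iff hM hb hη' η₀).1 hη₀))

theorem w_congr (hM : IsPModular p M) {n : ℕ} (hz : orderOf z = p ^ n) (χ : IrrCharacter G)
    (ξ : IrrCharacter (Subgroup.centralizer ({z} : Set G))) :
    MemLocalIdeal M (w z χ ξ - nm z χ ξ) ∧ MemLocalIdeal M (conj (w z χ ξ) - nm z χ ξ) := by
  refine ⟨?_, ?_⟩
  · rw [w, show (nm z χ ξ : ℂ) * lam z ξ - (nm z χ ξ : ℂ) = (nm z χ ξ : ℂ) * (lam z ξ - 1) by ring]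
    exact MemLocalIdeal.mul_left hM (natCast_mem (lRing hM) _) (lam_congr z hM hz ξ)
  · rw [w, map_mul, Complex.conj_natCast,
      show (nm z χ ξ : ℂ) * conj (lam z ξ) - (nm z χ ξ : ℂ) = (nm z χ ξ : ℂ) * (conj (lam z ξ) - 1) by ring]
    refine MemLocalIdeal.mul_left hM (natCast_mem (lRing hM) _) (root_congr hM (n := n) ?_)
    rw [← map_pow, lam_pow z (hz ▸ pow_orderOf_eq_one z) ξ, map_one]

open scoped Classical in
/-- The contributions modulo the local ideal. -/
theorem cz_congr (hM : IsPModular p M) {n : ℕ} (hz : orderOf z = p ^ n) (hb : IsPBlock M b)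
    {η₀ : IrrCharacter (Subgroup.centralizer ({z} : Set G))} (hη₀ : η₀ ∈ b) (χ ψ : IrrCharacter G) :
    MemLocalIdeal M ((red p b η₀ : ℂ) * cz z b p (blockDefect p b) χ ψ -
      tfac p η₀ η₀ * (Rv z b p χ : ℂ) * (Rv z b p ψ : ℂ)) := by
  rw [cz_expand, Rv_cast, Rv_cast, Finset.mul_sum, mul_assoc, Finset.sum_mul, Finset.mul_sum,
    ← Finset.sum_sub_distrib]
  refine MemLocalIdeal.sum hM _ fun ξ hξ => ?_
  rw [Finset.mul_sum, Finset.mul_sum, Finset.mul_sum, ← Finset.sum_sub_distrib]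
  refine MemLocalIdeal.sum hM _ fun η hη => ?_
  have hξ' := (Finset.mem_filter.1 hξ).2
  have hη' := (Finset.mem_filter.1 hη).2
  have hn : ∀ (χ : IrrCharacter G) ξ, MemLocalRing M (nm z χ ξ : ℂ) := fun _ _ => natCast_mem (lRing hM) _
  have h1 := congr_mul hM (hn χ ξ)
    (by simpa using (lRing hM).add_mem (MemLocalIdeal.memLocalRing (w_congr z hM hz ψ η).2) (hn ψ η))
    (w_congr z hM hz χ ξ).1 (w_congr z hM hz ψ η).2
  have h2 := congr_mul hM ((lRing hM).mul_mem (hn χ ξ) (hn ψ η))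
    ((lRing hM).mul_mem (contrib_mem hM hb ξ hη') (natCast_mem (lRing hM) _)) h1
    (contrib_congr z b hM hb hη₀ hξ' hη')
  convert h2 using 1
  ring

open scoped Classical in
/-- The shape of the contributions of a major subsection. -/
theorem shape (hM : IsPModular p M) {n : ℕ} (hz : orderOf z = p ^ n)
    (hind : IsInducedBlock M (Subgroup.centralizer ({z} : Set G)) b B)
    (hd : blockDefect p b = blockDefect p B) :
    ∃ χ₀ ∈ B, ¬ p ∣ red p B χ₀ ∧
      (∀ χ ∈ B, ¬ p ∣ red p B χ → ¬ MemLocalIdeal M (cz z b p (blockDefect p B) χ χ) ∧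
        ∀ ψ ∈ B, cz z b p (blockDefect p B) χ ψ ≠ 0) ∧
      (∀ χ ∈ B, p ∣ red p B χ → cz z b p (blockDefect p B) χ χ₀ ≠ 0 ∧
        ∃ e : ℂ, MemLocalIdeal M e ∧ cz z b p (blockDefect p B) χ χ = (p : ℂ) * e) := by
  have hb := hind.1
  have hB := hind.2.1
  set d := blockDefect p B
  obtain ⟨η₀, hη₀, h0, -⟩ := exists_height_zero hM hb
  have ht0 : ¬ MemLocalIdeal M (tfac p η₀ η₀) := tfac_unit hM hb hη₀ h0 hη₀
  have htm := tfac_mem (G := (Subgroup.centralizer ({z} : Set G))) hM η₀ η₀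
  have hr0 : ¬ MemLocalIdeal M (red p b η₀ : ℂ) := fun h => h0 ((memLocalIdeal_natCast_iff hM _).1 h)
  have htz := fun χ ψ => tz_mem z b hM hz χ ψ
  have hce : ∀ χ : IrrCharacter G, ∀ {ψ}, ψ ∈ B →
      cz z b p d χ ψ = (red p B ψ : ℂ) * tz z b p χ ψ := fun χ ψ hψ => cz_eq z b hM hz hb hB χ hψ
  have hcm : ∀ χ : IrrCharacter G, ∀ {ψ}, ψ ∈ B → MemLocalRing M (cz z b p d χ ψ) := fun χ ψ hψ =>
    hce χ hψ ▸ (lRing hM).mul_mem (natCast_mem (lRing hM) _) (htz χ ψ)
  have hcz : ∀ χ : IrrCharacter G, ∀ {ψ}, ψ ∈ B → (¬ MemLocalIdeal M (cz z b p d χ ψ) ↔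
      ¬ MemLocalIdeal M (Rv z b p χ : ℂ) ∧ ¬ MemLocalIdeal M (Rv z b p ψ : ℂ)) := by
    intro χ ψ hψ
    have hc := cz_congr z b hM hz hb hη₀ χ ψ
    rw [hd] at hc
    have hi : ∀ φ, MemLocalRing M (Rv z b p φ : ℂ) := fun φ => intCast_mem (lRing hM) _
    constructor
    · intro h
      have h1 := isUnit_part hM (mul_not_mem hM (natCast_mem (lRing hM) _) (hcm χ hψ) hr0 h) hc
      exact ⟨fun h2 => h1 (MemLocalIdeal.mul_right hM (MemLocalIdeal.mul_left hM htm h2) (hi ψ)),
        fun h2 => h1 (MemLocalIdeal.mul_left hM ((lRing hM).mul_mem htm (hi χ)) h2)⟩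
    · intro h h1
      refine mul_not_mem hM ((lRing hM).mul_mem htm (hi χ)) (hi ψ) (mul_not_mem hM htm (hi χ) ht0 h.1) h.2 ?_
      have := MemLocalIdeal.sub hM (MemLocalIdeal.mul_left hM (natCast_mem (lRing hM) (red p b η₀)) h1) hc
      simpa using this
  obtain ⟨χ₀, hχ₀, hy⟩ := exists_yv_unit z b hM hind hd hη₀ h0
  have hRv : ¬ MemLocalIdeal M (Rv z b p χ₀ : ℂ) := fun h => hy ((memLocalIdeal_intCast_iff hM _).1 (by
    simpa using MemLocalIdeal.add hM (yv_congr z b hM hb hη₀ χ₀) (MemLocalIdeal.mul_left hM htm h)))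
  have hu := (hcz χ₀ hχ₀).2 ⟨hRv, hRv⟩
  have hred : ∀ {χ ψ}, ψ ∈ B → ¬ MemLocalIdeal M (cz z b p d χ ψ) →
      ¬ p ∣ red p B ψ ∧ ¬ MemLocalIdeal M (tz z b p χ ψ) := fun {χ ψ} hψ h => by
    rw [hce χ hψ] at h
    exact ⟨fun h1 => h (MemLocalIdeal.mul_right hM ((memLocalIdeal_natCast_iff hM _).2 h1) (htz _ _)),
      fun h1 => h (MemLocalIdeal.mul_left hM (natCast_mem (lRing hM) _) h1)⟩
  have hsame : ∀ {φ ψ}, φ ∈ B → ψ ∈ B → SameBlock M (φ : G → ℂ) (ψ : G → ℂ) :=
    fun {φ ψ} hφ hψ => (IsPBlock.mem_iff hM hB hφ ψ).1 hψ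
  have htu : ∀ {ψ}, ψ ∈ B → ¬ MemLocalIdeal M (tz z b p χ₀ ψ) := fun {ψ} hψ h => (hred hχ₀ hu).2 (by
    simpa using MemLocalIdeal.add hM (tz_congr z b hM hz χ₀ (hsame hχ₀ hψ)) h)
  have hne : ∀ {χ}, χ ∈ B → cz z b p d χ₀ χ ≠ 0 := fun {χ} hχ => by
    rw [hce χ₀ hχ]
    exact mul_ne_zero (Nat.cast_ne_zero.mpr (red_pos hχ).ne') fun h =>
      htu hχ (h ▸ memLocalIdeal_zero hM)
  refine ⟨χ₀, hχ₀, (hred hχ₀ hu).1, fun χ hχ hh => ?_, fun χ hχ hh => ?_⟩
  · have h1 : ¬ MemLocalIdeal M (cz z b p d χ₀ χ) := by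
      rw [hce χ₀ hχ]
      exact mul_not_mem hM (natCast_mem (lRing hM) _) (htz _ _)
        (fun h => hh ((memLocalIdeal_natCast_iff hM _).1 h)) (htu hχ)
    have h2 := ((hcz χ₀ hχ).1 h1).2
    have h3 := (hcz χ hχ).2 ⟨h2, h2⟩
    refine ⟨h3, fun ψ hψ => ?_⟩
    rw [hce χ hψ]
    refine mul_ne_zero (Nat.cast_ne_zero.mpr (red_pos hψ).ne') fun h => (hred hχ h3).2 ?_
    simpa [h] using tz_congr z b hM hz χ (hsame hχ hψ)
  · refine ⟨fun h => hne hχ (by rw [← cz_conj z b, h, map_zero]), tz z b p χ χ * ((red p B χ / p : ℕ) : ℂ),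
      MemLocalIdeal.mul_right hM ?_ (natCast_mem (lRing hM) _), ?_⟩
    · have h1 : MemLocalIdeal M (Rv z b p χ : ℂ) := by
        by_contra h
        exact (hred hχ ((hcz χ₀ hχ).2 ⟨hRv, h⟩)).1 hh
      have h2 : MemLocalIdeal M (cz z b p d χ χ₀) := by
        by_contra h
        exact ((hcz χ hχ₀).1 h).1 h1
      rw [hce χ hχ₀] at h2
      have h3 : MemLocalIdeal M (tz z b p χ χ₀) :=
        (MemLocalIdeal.mul_cases hM (natCast_mem (lRing hM) _) (htz _ _) h2).resolve_left
          fun h => (hred hχ₀ hu).1 ((memLocalIdeal_natCast_iff hM _).1 h)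
      simpa using MemLocalIdeal.add hM (tz_congr z b hM hz χ (hsame hχ hχ₀)) h3
    · rw [hce χ hχ]
      conv_lhs => rw [← Nat.mul_div_cancel' hh, Nat.cast_mul]
      ring

end CfsgLib.Blk4.Major
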