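import Mathlib

/-!
Small facts on finite p-groups used by S4584 - S4587.
-/

namespace CfsgLib.Blk4.PGroup

open Subgroup

variable {P : Type*} [Group P]

theorem of_surjective (N : Type*) [Group N] :
    Function.Surjective (Abelianization.of : N → Abelianization N) :=
  QuotientGroup.mk_surjective

/-- The endomorphism `a ↦ (x a x⁻¹) a⁻¹` of the abelianization of a normal subgroup. -/
noncomputable def conjDiff (N : Subgroup P) [N.Normal] (x : P) :
    Abelianization N →* Abelianization N :=
  (Abelianization.map (MulAut.conjNormal x : MulAut N).toMonoidHom) * (MonoidHom.id _)⁻¹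

theorem conjDiff_of (N : Subgroup P) [hN : N.Normal] (x : P) (n : N) :
    conjDiff N x (Abelianization.of n) =
      Abelianization.of (⟨x * n * x⁻¹, hN.conj_mem n n.2 x⟩ * n⁻¹) := by
  simp only [conjDiff, MonoidHom.mul_apply, MonoidHom.inv_apply, MonoidHom.id_apply,
    Abelianization.map_of, map_mul, map_inv]
  congr 2

theorem top_of_index_prime_lt (N : Subgroup P) (p : ℕ) [Fact p.Prime] (hN : N.index = p) {x : P}
    (hx : x ∉ N) (T : Subgroup P) (hNT : N ≤ T) (hxT : x ∈ T) : T = ⊤ := by
  have h2 := Subgroup.relIndex_mul_index hNT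
  rw [hN] at h2
  rcases (Nat.dvd_prime (Fact.out : p.Prime)).1 (Dvd.intro_left _ h2) with h | h
  · exact index_eq_one.1 h
  · exfalso
    rw [h] at h2
    have h3 : N.relIndex T = 1 := by
      simpa [(Fact.out : p.Prime).ne_zero] using h2
    exact hx (relIndex_eq_one.1 h3 hxT)

theorem commutator_eq_of_cyclic_quotient (N : Subgroup P) [hN : N.Normal] (x : P)
    (hgen : ∀ T : Subgroup P, N ≤ T → x ∈ T → T = ⊤) :
    commutator P = ((conjDiff N x).range.comap Abelianization.of).map N.subtype := by
  set R0 := (conjDiff N x).range.comap Abelianization.of with hR0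
  set R := R0.map N.subtype with hR
  apply le_antisymm
  · have hN' : commutator N ≤ R0 := by
      intro c hc
      rw [hR0, mem_comap]
      rw [← Abelianization.ker_of, MonoidHom.mem_ker] at hc
      rw [hc]; exact one_mem _
    have hR0normal : R0.Normal := inferInstance
    have : R.Normal := by
      rw [← normalizer_eq_top_iff]
      apply hgen
      · intro m hm
        rw [Subgroup.mem_normalizer_iff]
        intro h
        constructor
        · rintro ⟨r, hr, rfl⟩
          exact ⟨_, hR0normal.conj_mem r hr ⟨m, hm⟩, rfl⟩
        · rintro ⟨r, hr, hreq⟩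
          refine ⟨_, hR0normal.conj_mem r hr ⟨m, hm⟩⁻¹, ?_⟩
          simp only [Subgroup.coe_subtype, Subgroup.coe_mul, InvMemClass.coe_inv, inv_inv] at *
          rw [hreq]; group
      · have key : ∀ r ∈ R0, (MulAut.conjNormal x : MulAut N) r ∈ R0 := by
          rintro r ⟨a, ha⟩
          obtain ⟨n, rfl⟩ : ∃ n, Abelianization.of n = a := of_surjective _ a
          have : Abelianization.of ((MulAut.conjNormal x : MulAut N) r) =
              Abelianization.map (MulAut.conjNormal x : MulAut N).toMonoidHom
                (Abelianization.of r) := by rw [Abelianization.map_of]; rfl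
          show Abelianization.of ((MulAut.conjNormal x : MulAut N) r) ∈ (conjDiff N x).range
          refine ⟨Abelianization.map (MulAut.conjNormal x : MulAut N).toMonoidHom
            (Abelianization.of n), ?_⟩
          rw [this, ← ha]
          simp [conjDiff]
        have hmapeq : R0.map (MulAut.conjNormal x : MulAut N).toMonoidHom ≤ R0 := by
          rintro _ ⟨r, hr, rfl⟩; exact key r hr
        rw [Subgroup.mem_normalizer_iff]
        intro h
        constructor
        · rintro ⟨r, hr, rfl⟩
          exact ⟨_, key r hr, rfl⟩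
        · rintro ⟨r, hr, hreq⟩
          -- the inverse direction by finiteness-free argument
          have hsub : ∀ r ∈ R0, (MulAut.conjNormal x : MulAut N).symm r ∈ R0 := by
            rintro r ⟨a, ha⟩
            obtain ⟨n, rfl⟩ : ∃ n, Abelianization.of n = a := of_surjective _ a
            show Abelianization.of ((MulAut.conjNormal x : MulAut N).symm r) ∈ (conjDiff N x).range
            refine ⟨Abelianization.map (MulAut.conjNormal x : MulAut N).symm.toMonoidHom
              (Abelianization.of n), ?_⟩
            have h1 : Abelianization.of ((MulAut.conjNormal x : MulAut N).symm r) =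
              Abelianization.map (MulAut.conjNormal x : MulAut N).symm.toMonoidHom
                (Abelianization.of r) := by rw [Abelianization.map_of]; rfl
            rw [h1, ← ha]
            simp [conjDiff]
          refine ⟨_, hsub r hr, ?_⟩
          simp only [Subgroup.coe_subtype, MulAut.conjNormal_symm_apply] at *
          rw [hreq]; group
    refine (Subgroup.Normal.quotient_commutative_iff_commutator_le (N := R)).1 ⟨⟨fun a b => ?_⟩⟩
    have hxn : ∀ n : N, Commute (QuotientGroup.mk (s := R) x) (QuotientGroup.mk (s := R) (n : P)) := by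
      intro n
      show _ = _
      rw [← QuotientGroup.mk_mul, ← QuotientGroup.mk_mul, eq_comm, QuotientGroup.eq]
      refine ⟨(MulAut.conjNormal x⁻¹ : MulAut N) n⁻¹ * n, ?_, ?_⟩
      · rw [SetLike.mem_coe, hR0, mem_comap]
        set m := (MulAut.conjNormal x⁻¹ : MulAut N) n⁻¹ with hm
        refine ⟨Abelianization.of m⁻¹, ?_⟩
        have hval : ((m⁻¹ : N) : P) = x⁻¹ * n * x := by
          rw [hm, InvMemClass.coe_inv, MulAut.conjNormal_apply, InvMemClass.coe_inv]
          group
        have hmn : (⟨x * (m⁻¹ : N) * x⁻¹, hN.conj_mem _ (m⁻¹ : N).2 x⟩ : N) = n := by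
          apply Subtype.ext
          show x * ((m⁻¹ : N) : P) * x⁻¹ = n
          rw [hval]; group
        rw [conjDiff_of, hmn, inv_inv, map_mul, map_mul, mul_comm]
      · rw [Subgroup.coe_subtype, Subgroup.coe_mul, MulAut.conjNormal_apply, InvMemClass.coe_inv]
        group
    have hall : ∀ a : P, QuotientGroup.mk (s := R) a ∈ Subgroup.center (P ⧸ R) := by
      have hxx : QuotientGroup.mk (s := R) x ∈ Subgroup.center (P ⧸ R) := by
        have : Subgroup.centralizer {QuotientGroup.mk (s := R) x} = ⊤ := by
          rw [eq_top_iff]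
          rintro q -
          induction q using QuotientGroup.induction_on with | _ q => ?_
          have hT := hgen ((Subgroup.centralizer {QuotientGroup.mk (s := R) x}).comap
            (QuotientGroup.mk' R)) (fun n hn => mem_centralizer_singleton_iff.2
              (hxn ⟨n, hn⟩).symm.eq) (mem_centralizer_singleton_iff.2 rfl)
          have : q ∈ (⊤ : Subgroup P) := mem_top q
          rwa [← hT] at this
        rw [Subgroup.centralizer_eq_top_iff_subset] at this
        exact this rfl
      intro a
      have hT := hgen ((Subgroup.center (P ⧸ R)).comap (QuotientGroup.mk' R)) (fun n hn => by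
        rw [mem_comap, Subgroup.mem_center_iff]
        intro q
        induction q using QuotientGroup.induction_on with | _ q => ?_
        have hT' := hgen ((Subgroup.centralizer {QuotientGroup.mk (s := R) n}).comap
            (QuotientGroup.mk' R)) (fun m hm => mem_centralizer_singleton_iff.2 (by
              show (QuotientGroup.mk (s := R) m) * QuotientGroup.mk n =
                QuotientGroup.mk (s := R) n * QuotientGroup.mk m
              rw [← QuotientGroup.mk_mul, ← QuotientGroup.mk_mul, eq_comm, QuotientGroup.eq]
              refine ⟨(⟨n, hn⟩ * ⟨m, hm⟩ : N)⁻¹ * (⟨m, hm⟩ * ⟨n, hn⟩), ?_, rfl⟩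
              rw [SetLike.mem_coe, hR0, mem_comap]
              simp only [map_mul, map_inv]
              rw [mul_comm (Abelianization.of _) (Abelianization.of _), inv_mul_cancel]
              exact one_mem _))
            (mem_centralizer_singleton_iff.2 (hxn ⟨n, hn⟩).eq)
        have : q ∈ (⊤ : Subgroup P) := mem_top q
        rw [← hT', mem_comap, mem_centralizer_singleton_iff] at this
        exact this) hxx
      have : a ∈ (⊤ : Subgroup P) := mem_top a
      rwa [← hT] at this
    induction a using QuotientGroup.induction_on with | _ a => ?_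
    exact (Subgroup.mem_center_iff.1 (hall a) b).symm
  · rintro _ ⟨r, ⟨a, ha⟩, rfl⟩
    obtain ⟨n, rfl⟩ : ∃ n, Abelianization.of n = a := of_surjective _ a
    rw [conjDiff_of, eq_comm] at ha
    have hr := (MonoidHom.eq_iff _).1 ha.symm
    rw [Abelianization.ker_of] at hr
    have hN'P : (commutator N).map N.subtype ≤ commutator P := by
      rw [_root_.commutator_def, _root_.commutator_def, map_commutator]
      exact commutator_mono le_top le_top
    have h1 := hN'P ⟨_, hr, rfl⟩
    have h2 : x * (n : P) * x⁻¹ * (n : P)⁻¹ ∈ commutator P :=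
      commutator_mem_commutator (mem_top x) (mem_top (n : P))
    simp only [Subgroup.coe_subtype, Subgroup.coe_mul, InvMemClass.coe_inv] at h1
    have h3 : (r : P) ∈ commutator P := by
      have h4 := mul_mem h2 (inv_mem h1)
      convert h4 using 1
      simp; group
    exact h3

theorem card_conjDiff_ker [Finite P] (N : Subgroup P) [hN : N.Normal] (x : P) :
    Nat.card {n : N // x * n * x⁻¹ * (n : P)⁻¹ ∈ (commutator N).map N.subtype} =
      Nat.card (conjDiff N x).ker * Nat.card (commutator N) := by
  have hset : {n : N | x * n * x⁻¹ * (n : P)⁻¹ ∈ (commutator N).map N.subtype} =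
      ((conjDiff N x).ker.comap Abelianization.of : Subgroup N) := by
    ext n
    rw [Set.mem_ofPred_eq, SetLike.mem_coe, mem_comap, MonoidHom.mem_ker, conjDiff_of]
    rw [← MonoidHom.mem_ker, Abelianization.ker_of]
    constructor
    · rintro ⟨c, hc, hce⟩
      have : c = ⟨x * n * x⁻¹, hN.conj_mem n n.2 x⟩ * n⁻¹ := Subtype.ext (by simpa using hce)
      rwa [this] at hc
    · intro h
      exact ⟨_, h, by simp⟩
  show Nat.card {n : N | x * n * x⁻¹ * (n : P)⁻¹ ∈ (commutator N).map N.subtype} = _
  rw [hset]
  have h1 := Subgroup.relIndex_mul_index (H := commutator N)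
    (K := (conjDiff N x).ker.comap Abelianization.of)
    (by rw [← Abelianization.ker_of]; exact MonoidHom.ker_le_comap _ _)
  have h2 : ((conjDiff N x).ker.comap Abelianization.of).index = (conjDiff N x).ker.index :=
    index_comap_of_surjective _ (of_surjective _)
  have h3 := Subgroup.card_mul_index ((conjDiff N x).ker.comap Abelianization.of)
  have h4 := Subgroup.card_mul_index (conjDiff N x).ker
  have h5 : Nat.card N = Nat.card (commutator N) * Nat.card (Abelianization N) := by
    rw [← Subgroup.card_mul_index (commutator N), index_eq_card]; rfl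
  rw [h2] at h3
  rw [h5, ← h4] at h3
  have h6 : (conjDiff N x).ker.index ≠ 0 := index_ne_zero_of_finite
  apply Nat.eq_of_mul_eq_mul_right (Nat.pos_of_ne_zero h6)
  rw [SetLike.coe_sort_coe, h3]
  ring

theorem index_commutator_eq [Finite P] (N : Subgroup P) [N.Normal] (x : P)
    (hgen : ∀ T : Subgroup P, N ≤ T → x ∈ T → T = ⊤) :
    (commutator P).index = N.index * Nat.card (conjDiff N x).ker := by
  rw [commutator_eq_of_cyclic_quotient N x hgen, index_map_subtype,
    index_comap_of_surjective _ (of_surjective _), mul_comm]
  congr 1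
  have h1 := Subgroup.card_mul_index (conjDiff N x).range
  have h2 := Subgroup.card_mul_index (conjDiff N x).ker
  rw [index_ker] at h2
  rw [← h2, mul_comm] at h1
  exact Nat.eq_of_mul_eq_mul_right (Nat.card_pos) h1

theorem card_eq_of_index_commutator_eq_prime [Finite P] {p : ℕ} [Fact p.Prime] (hP : IsPGroup p P)
    (h : (commutator P).index = p) : Nat.card P = p := by
  have := hP.isNilpotent
  have : IsCyclic (P ⧸ commutator P) :=
    isCyclic_of_prime_card (p := p) (by rw [← index_eq_card]; exact h)
  obtain ⟨g, hg⟩ := IsCyclic.exists_generator (α := P ⧸ commutator P)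
  obtain ⟨g, rfl⟩ := QuotientGroup.mk_surjective g
  have hsup : commutator P ⊔ zpowers g = ⊤ := by
    rw [eq_top_iff]
    intro a _
    obtain ⟨k, hk⟩ := hg (QuotientGroup.mk a)
    have hk' : (g ^ k)⁻¹ * a ∈ commutator P := by
      rw [← QuotientGroup.eq]; simpa using hk
    have := mul_mem (mem_sup_right (S := commutator P) (zpow_mem (mem_zpowers g) k))
      (mem_sup_left (T := zpowers g) hk')
    simpa using this
  have htop : zpowers g = ⊤ := by
    by_contra hne
    obtain ⟨Mx, hMx, hle⟩ := (eq_top_or_exists_le_coatom (zpowers g)).resolve_left hne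
    have hn : Mx.Normal :=
      (NormalizerCondition.normal_of_coatom _ Group.normalizerCondition_of_isNilpotent hMx)
    obtain ⟨y, hy⟩ : ∃ y : P, y ∉ Mx := by
      by_contra hc
      push Not at hc
      exact hMx.1 (eq_top_iff.2 fun z _ => hc z)
    haveI : IsCyclic (P ⧸ Mx) := by
      refine ⟨⟨QuotientGroup.mk y, fun q => ?_⟩⟩
      induction q using QuotientGroup.induction_on with | _ q => ?_
      have hlt : Mx < Mx ⊔ zpowers y :=
        lt_of_le_of_ne le_sup_left (fun he => hy (he ▸ mem_sup_right (mem_zpowers y)))
      have hq : q ∈ Mx ⊔ zpowers y := by rw [hMx.2 _ hlt]; exact mem_top q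
      obtain ⟨m, hm, z, hz, rfl⟩ := Subgroup.mem_sup_of_normal_left.1 hq
      obtain ⟨k, rfl⟩ := hz
      exact ⟨k, by simp [QuotientGroup.mk_mul, (QuotientGroup.eq_one_iff m).2 hm]⟩
    have hMprime : commutator P ≤ Mx :=
      (Subgroup.Normal.quotient_commutative_iff_commutator_le (N := Mx)).1 inferInstance
    exact hMx.1 (top_le_iff.1 (hsup ▸ sup_le hMprime hle))
  haveI : IsCyclic P := ⟨⟨g, fun a => by show a ∈ zpowers g; rw [htop]; exact mem_top a⟩⟩
  have hb : commutator P = ⊥ := by
    letI : CommGroup P := IsCyclic.commGroup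
    exact commutator_eq_bot P
  rw [hb, index_bot] at h
  exact h

theorem exists_abelian_of_center_index [Finite P] {p : ℕ} [Fact p.Prime]
    (hZ : (center P).index = p ^ 2) : ∃ N : Subgroup P, N.Normal ∧ N.index = p ∧
      center P ≤ N ∧ ∀ a ∈ N, ∀ b ∈ N, a * b = b * a := by
  have hp := (Fact.out : p.Prime)
  have hcard : Nat.card (P ⧸ center P) = p ^ 2 := by rw [← index_eq_card]; exact hZ
  obtain ⟨g, hg⟩ := exists_prime_orderOf_dvd_card' (G := P ⧸ center P) p
    (hcard ▸ dvd_pow_self p two_ne_zero)
  obtain ⟨x, rfl⟩ := QuotientGroup.mk_surjective g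
  refine ⟨(zpowers (QuotientGroup.mk (s := center P) x)).comap (QuotientGroup.mk' _), ?_, ?_, ?_, ?_⟩
  · have hc := IsPGroup.commutative_of_card_eq_prime_sq hcard
    have : (zpowers (QuotientGroup.mk (s := center P) x)).Normal :=
      ⟨fun a ha b => by rw [hc b a, mul_inv_cancel_right]; exact ha⟩
    exact this.comap _
  · rw [index_comap_of_surjective _ (QuotientGroup.mk'_surjective _)]
    have h := Subgroup.card_mul_index (zpowers (QuotientGroup.mk (s := center P) x))
    rw [Nat.card_zpowers, hg, hcard, pow_two] at h
    exact Nat.eq_of_mul_eq_mul_left hp.pos h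
  · intro z hz
    rw [mem_comap, QuotientGroup.mk'_apply, (QuotientGroup.eq_one_iff z).2 hz]
    exact one_mem _
  · have key : ∀ a, QuotientGroup.mk (s := center P) a ∈ zpowers (QuotientGroup.mk x) →
        Commute a x ∧ ∃ k : ℤ, ∃ z ∈ center P, a = x ^ k * z := by
      rintro a ⟨k, hk⟩
      have hz : (x ^ k)⁻¹ * a ∈ center P := by rw [← QuotientGroup.eq]; simpa using hk
      refine ⟨?_, k, _, hz, by group⟩
      have : a = x ^ k * ((x ^ k)⁻¹ * a) := by group
      rw [this]
      exact ((Commute.refl x).zpow_left k).mul_left (mem_center_iff.1 hz x).symm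
    intro a ha b hb
    obtain ⟨hax, -⟩ := key a ha
    obtain ⟨-, k, z, hz, rfl⟩ := key b hb
    exact ((hax.zpow_right k).mul_right (mem_center_iff.1 hz a)).eq

theorem center_index_ne_prime [Finite P] {p : ℕ} [Fact p.Prime] :
    (center P).index ≠ p := by
  intro h
  haveI : IsCyclic (P ⧸ center P) :=
    isCyclic_of_prime_card (p := p) (by rw [← index_eq_card]; exact h)
  have : center P = ⊤ := by
    rw [eq_top_iff']
    intro a
    rw [mem_center_iff]
    intro b
    exact commutative_of_cyclic_center_quotient (QuotientGroup.mk' (center P))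
      (by rw [QuotientGroup.ker_mk']) b a
  rw [this, index_top] at h
  exact (Fact.out : p.Prime).ne_one h.symm

end CfsgLib.Blk4.PGroup
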