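import Cfsg.Agent.Lib.Blocks.PrincipalSq
import Cfsg.Agent.Lib.Blocks.WeakOrth
import Cfsg.Agent.Lib.Characters.Induction
import Cfsg.Agent.Lib.Characters.BrauerPerm

/-!
The principal 2-block: real characters of odd degree, and the parity of the multiplicities of
linear characters of a Sylow 2-subgroup.
-/

set_option autoImplicit false
set_option linter.unusedSectionVars false
set_option linter.style.haveILetI false

namespace CfsgLib.Blk4

open Cfsg CfsgLib.Characters CfsgLib.Blocks CfsgLib.PrincipalSq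
open scoped ComplexConjugate

universe u

variable {G : Type u} [Group G] [Fintype G] {M : Ideal AlgInt}

/-- The complex conjugate of an irreducible character. -/
noncomputable def conjIrrC (χ : IrrCharacter G) : IrrCharacter G :=
  ⟨fun g => conj ((χ : G → ℂ) g), CfsgLib.BrauerPerm.isIrrCharacter_conj χ.2⟩

theorem conjIrrC_apply (χ : IrrCharacter G) (g : G) :
    (conjIrrC χ : G → ℂ) g = (χ : G → ℂ) g⁻¹ := (irr_apply_inv χ g).symm

theorem conjIrrC_conjIrrC (χ : IrrCharacter G) : conjIrrC (conjIrrC χ) = χ :=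
  Subtype.ext (funext fun g => by simp [conjIrrC])

theorem index_centralizer_inv (g : G) :
    (Subgroup.centralizer ({g⁻¹} : Set G)).index = (Subgroup.centralizer ({g} : Set G)).index := by
  congr 1
  ext x
  rw [Subgroup.mem_centralizer_singleton_iff, Subgroup.mem_centralizer_singleton_iff]
  exact Commute.inv_right_iff (a := x) (b := g)

theorem conjIrrC_mem_principal (χ : IrrCharacter G) (h : χ ∈ principalBlock M G) :
    conjIrrC χ ∈ principalBlock M G := by
  intro g
  have h1 := h g⁻¹
  rw [centralChar_principal] at h1 ⊢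
  rw [index_centralizer_inv] at h1
  convert h1 using 2
  simp [centralChar, index_centralizer_inv, conjIrrC_apply]

theorem blockCoeff_principal_inv (g : G) :
    blockCoeff (principalBlock M G) g⁻¹ = blockCoeff (principalBlock M G) g := by
  classical
  haveI := Fintype.ofFinite (IrrCharacter G)
  rw [blockCoeff_eq_sum, blockCoeff_eq_sum]
  congr 1
  refine Finset.sum_nbij' conjIrrC conjIrrC (fun χ hχ => ?_) (fun χ hχ => ?_)
    (fun χ _ => conjIrrC_conjIrrC χ) (fun χ _ => conjIrrC_conjIrrC χ) (fun χ _ => ?_)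
  · simp only [Finset.mem_filter, Finset.mem_univ, true_and, Finset.mem_coe] at hχ ⊢
    exact conjIrrC_mem_principal χ hχ
  · simp only [Finset.mem_filter, Finset.mem_univ, true_and, Finset.mem_coe] at hχ ⊢
    exact conjIrrC_mem_principal χ hχ
  · rw [irr_apply_inv]
    simp [conjIrrC, CfsgLib.LinearTwist.apply_one_eq_charDegree (irr_isCharacter χ)]

/-- For a real character of odd degree the principal 2-block idempotent acts as its coefficient
at the identity, modulo `M`. -/
theorem omega_principal_congr (hM : IsPModular 2 M) (χ : IrrCharacter G)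
    (hreal : ∀ g, conj ((χ : G → ℂ) g) = (χ : G → ℂ) g) (hodd : Odd (charDegree (χ : G → ℂ))) :
    MemLocalIdeal M (omega (χ : G → ℂ) (blockIdem (principalBlock M G)) -
      blockCoeff (principalBlock M G) 1) := by
  classical
  haveI := IsPModular.isMaximal hM
  haveI := charP_residue hM
  have hB := isPBlock_principalBlock (G := G) M
  set a := blockCoeff (principalBlock M G)
  have hχ1 : (χ : G → ℂ) 1 = (charDegree (χ : G → ℂ) : ℂ) :=
    CfsgLib.LinearTwist.apply_one_eq_charDegree (irr_isCharacter χ)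
  have ht : ∀ x : G, a x * (χ : G → ℂ) x / (χ : G → ℂ) 1 ∈ lRing hM := fun x => by
    rw [hχ1, div_eq_mul_inv]
    refine mul_mem (mul_mem (memLocalRing_blockCoeff hM hB x)
      (char_mem_lRing hM (irr_isCharacter χ) x)) (inv_natCast_mem_lRing hM ?_)
    exact Nat.two_dvd_ne_zero.2 (Nat.odd_iff.1 hodd)
  let f : G → AlgInt ⧸ M := fun x => lRes hM ⟨_, ht x⟩
  have hsum : ∑ x ∈ Finset.univ.erase (1 : G), f x = 0 := by
    refine Finset.sum_involution (fun x _ => x⁻¹) (fun x _ => ?_) (fun x hx hfx => ?_)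
      (fun x hx => by simpa using hx) (fun x _ => inv_inv x)
    · have : f x⁻¹ = f x := by
        refine congrArg (lRes hM) (Subtype.ext ?_)
        simp only [a, blockCoeff_principal_inv, irr_apply_inv, hreal]
      rw [this]
      exact CharTwo.add_self_eq_zero _
    · intro hinv
      apply hfx
      have hx1 : x ≠ 1 := by simpa using hx
      have ho : orderOf x = 2 := orderOf_eq_prime (by rw [pow_two]; nth_rw 1 [← hinv]; exact inv_mul_cancel x) hx1
      have : a x = 0 := blockCoeff_eq_zero_of_singular hM hB (by rw [ho])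
      simp only [f, this, zero_mul, zero_div]
      exact map_zero (lRes hM)
  have hom : omega (χ : G → ℂ) (blockIdem (principalBlock M G)) =
      ∑ x : G, a x * (χ : G → ℂ) x / (χ : G → ℂ) 1 := by
    rw [omega_apply, Finset.sum_div]
    simp [a]
  have h1 : a 1 * (χ : G → ℂ) 1 / (χ : G → ℂ) 1 = a 1 :=
    mul_div_cancel_right₀ _ (irr_one_ne_zero χ)
  have hmem : omega (χ : G → ℂ) (blockIdem (principalBlock M G)) ∈ lRing hM := by
    rw [hom]; exact sum_mem fun x _ => ht x
  have hmem1 : a 1 ∈ lRing hM := h1 ▸ ht 1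
  refine (lRes_eq_iff hM ⟨_, hmem⟩ ⟨_, hmem1⟩).1 ?_
  have : (⟨_, hmem⟩ : lRing hM) = ∑ x : G, ⟨_, ht x⟩ := Subtype.ext (by simp [hom])
  rw [this, map_sum, ← Finset.add_sum_erase _ _ (Finset.mem_univ (1 : G))]
  show f 1 + ∑ x ∈ Finset.univ.erase (1 : G), f x = _
  rw [hsum, add_zero]
  exact congrArg (lRes hM) (Subtype.ext h1)

theorem blockCoeff_principal_one (hM : IsPModular 2 M) :
    MemLocalIdeal M (blockCoeff (principalBlock M G) 1 - 1) := by
  classical
  have hd : charDegree (principalIrr G : G → ℂ) = 1 :=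
    CfsgLib.LinearTwist.charDegree_eq_of_apply_one (by rw [principalIrr_apply, Nat.cast_one])
  have h := omega_principal_congr hM (principalIrr G)
    (fun g => by rw [principalIrr_apply, map_one]) (hd ▸ odd_one)
  have hmem : principalIrr G ∈ principalBlock M G := by
    rw [principalBlock_eq]; exact mem_blockOf_self hM _
  rw [omega_blockIdem, if_pos hmem] at h
  have h2 := MemLocalIdeal.neg hM h
  rw [neg_sub] at h2
  exact h2

/-- A real irreducible character of odd degree lies in the principal 2-block. -/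
theorem mem_principal_of_real_odd (hM : IsPModular 2 M) (χ : IrrCharacter G)
    (hreal : ∀ g, conj ((χ : G → ℂ) g) = (χ : G → ℂ) g) (hodd : Odd (charDegree (χ : G → ℂ))) :
    χ ∈ principalBlock M G := by
  classical
  by_contra hχ
  have h := omega_principal_congr hM χ hreal hodd
  rw [omega_blockIdem, if_neg hχ] at h
  have h2 := MemLocalIdeal.add hM h (blockCoeff_principal_one (G := G) hM)
  have h3 : MemLocalIdeal M ((1 : ℕ) : ℂ) := by
    have := MemLocalIdeal.neg hM h2
    simpa using this
  exact absurd ((memLocalIdeal_natCast_iff hM 1).1 h3) (by norm_num)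

/-- Sums over a set reduce modulo two to the fixed points of a map of two-power period. -/
theorem sum_zmod_two_eq_fixed {α : Type*} [DecidableEq α] (τ : α → α) (f : α → ZMod 2) :
    ∀ (A : ℕ) (S : Finset α), (∀ x ∈ S, τ x ∈ S) → (∀ x ∈ S, τ^[2 ^ A] x = x) →
      (∀ x ∈ S, f (τ x) = f x) → ∑ x ∈ S, f x = ∑ x ∈ S.filter (fun x => τ x = x), f x := by
  intro A
  induction A with
  | zero =>
    intro S _ hper _
    rw [Finset.filter_true_of_mem fun x hx => by simpa using hper x hx]
  | succ A ih =>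
    intro S hS hper hf
    have hit : ∀ n, ∀ x ∈ S, τ^[n] x ∈ S ∧ f (τ^[n] x) = f x := by
      intro n
      induction n with
      | zero => exact fun x hx => ⟨hx, rfl⟩
      | succ n ihn =>
        intro x hx
        obtain ⟨h1, h2⟩ := ihn x hx
        rw [Function.iterate_succ_apply']
        exact ⟨hS _ h1, (hf _ h1).trans h2⟩
    have hinv : ∀ x ∈ S, τ^[2 ^ A] (τ^[2 ^ A] x) = x := fun x hx => by
      rw [← Function.iterate_add_apply, ← two_mul, ← pow_succ']
      exact hper x hx
    have h0 : ∑ x ∈ S.filter (fun x => ¬ τ^[2 ^ A] x = x), f x = 0 := by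
      refine Finset.sum_involution (fun x _ => τ^[2 ^ A] x) (fun x hx => ?_) (fun x hx _ => ?_)
        (fun x hx => ?_) (fun x hx => ?_) <;> simp only [Finset.mem_filter] at hx ⊢
      · rw [(hit _ x hx.1).2]; exact CharTwo.add_self_eq_zero _
      · exact hx.2
      · exact ⟨(hit _ x hx.1).1, fun h => hx.2 (by rw [hinv x hx.1] at h; exact h.symm)⟩
      · exact hinv x hx.1
    rw [← Finset.sum_filter_add_sum_filter_not S (fun x => τ^[2 ^ A] x = x), h0, add_zero,
      ih (S.filter fun x => τ^[2 ^ A] x = x) (fun x hx => ?_)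
        (fun x hx => (Finset.mem_filter.1 hx).2) (fun x hx => hf x (Finset.mem_filter.1 hx).1)]
    · rw [Finset.filter_filter]
      refine Finset.sum_congr (Finset.filter_congr fun x _ => ⟨fun h => h.2, fun h => ⟨?_, h⟩⟩)
        fun _ _ => rfl
      exact Function.iterate_fixed h _
    · rw [Finset.mem_filter] at hx ⊢
      refine ⟨hS x hx.1, ?_⟩
      rw [← Function.iterate_succ_apply, Function.iterate_succ_apply', hx.2]

section Cube

variable (k : ℕ) (hk₁ : ∀ g : G, (∃ j : ℕ, orderOf g = 2 ^ j) → g ^ k = g ^ 3)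
  (hk₂ : ∀ g : G, Odd (orderOf g) → g ^ k = g)

include hk₁ hk₂

theorem cube_pow_pow (g : G) : g ^ k ^ 2 ^ Nat.card G = g := by
  obtain ⟨j, m, hm, ho⟩ := Nat.exists_eq_two_pow_mul_odd (orderOf_pos g).ne'
  have h2j : orderOf (g ^ m) = 2 ^ j := by
    rw [orderOf_pow_of_dvd hm.pos.ne' (ho ▸ dvd_mul_left _ _), ho, Nat.mul_div_cancel _ hm.pos]
  have hom : orderOf (g ^ 2 ^ j) = m := by
    rw [orderOf_pow_of_dvd (by positivity) (ho ▸ dvd_mul_right _ _), ho,
      Nat.mul_div_cancel_left _ (by positivity)]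
  have e1 : k ≡ 3 [MOD 2 ^ j] := h2j ▸ pow_eq_pow_iff_modEq.1 (hk₁ _ ⟨j, h2j⟩)
  have e2 : k ≡ 1 [MOD m] := by
    rw [← hom]
    refine pow_eq_pow_iff_modEq.1 ?_
    rw [pow_one]
    exact hk₂ _ (hom ▸ hm)
  have hj : j ≤ Nat.card G := by
    have h1 : 2 ^ j ∣ Nat.card G := (ho ▸ dvd_mul_right _ _ : 2 ^ j ∣ orderOf g).trans (orderOf_dvd_natCard g)
    exact le_of_lt (lt_of_lt_of_le Nat.lt_two_pow_self (Nat.le_of_dvd Nat.card_pos h1))
  have e3 : k ^ 2 ^ Nat.card G ≡ 1 [MOD 2 ^ j] := by
    refine (e1.pow _).trans ?_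
    rcases Nat.eq_zero_or_pos j with rfl | hj0
    · simp [Nat.modEq_one]
    have h3 : (3 : ℕ) ^ (2 ^ j).totient ≡ 1 [MOD 2 ^ j] :=
      Nat.ModEq.pow_totient (Nat.Coprime.pow_right _ (by norm_num))
    rw [Nat.totient_prime_pow Nat.prime_two hj0] at h3
    have := h3.pow (2 ^ (Nat.card G - (j - 1)))
    rw [one_pow, ← pow_mul, show (2 ^ (j - 1) * (2 - 1)) * 2 ^ (Nat.card G - (j - 1)) = 2 ^ Nat.card G
      by rw [Nat.add_one_sub_one, mul_one, ← pow_add]; congr 1; omega] at this
    exact this
  have e4 : k ^ 2 ^ Nat.card G ≡ 1 [MOD m] := by simpa using e2.pow (2 ^ Nat.card G)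
  have e5 : k ^ 2 ^ Nat.card G ≡ 1 [MOD orderOf g] := by
    rw [ho]
    exact (Nat.modEq_and_modEq_iff_modEq_mul
      (Nat.Coprime.pow_left _ (Nat.coprime_two_left.2 hm))).1 ⟨e3, e4⟩
  conv_rhs => rw [← pow_one g]
  exact pow_eq_pow_iff_modEq.2 e5

theorem cube_coprime : k.Coprime (Nat.card G) := by
  refine Nat.coprime_of_dvd fun q hq hqk hqG => ?_
  haveI := Fact.mk hq
  obtain ⟨g, hg⟩ := exists_prime_orderOf_dvd_card' (G := G) q hqG
  have h := cube_pow_pow k hk₁ hk₂ g
  have h1 : g ^ k ^ 2 ^ Nat.card G = 1 := by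
    rw [← orderOf_dvd_iff_pow_eq_one, hg]
    exact dvd_pow hqk (by positivity)
  rw [h1] at h
  exact hq.ne_one (by rw [← hg, ← h, orderOf_one])

theorem index_centralizer_pow (g : G) :
    (Subgroup.centralizer ({g ^ k} : Set G)).index = (Subgroup.centralizer ({g} : Set G)).index := by
  refine Nat.dvd_antisymm (index_centralizer_dvd_of_pow g k) ?_
  have h := index_centralizer_dvd_of_pow (g ^ k) (k ^ (2 ^ Nat.card G - 1))
  rwa [← pow_mul, ← pow_succ', Nat.sub_add_cancel Nat.one_le_two_pow, cube_pow_pow k hk₁ hk₂] at h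

/-- The Galois twist of an irreducible character. -/
noncomputable def cubeIrr (χ : IrrCharacter G) : IrrCharacter G :=
  ⟨fun g => (χ : G → ℂ) (g ^ k),
    CfsgLib.CharGalois.isIrrCharacter_pow χ.2 (cube_coprime k hk₁ hk₂)⟩

theorem cubeIrr_iterate (χ : IrrCharacter G) :
    ∀ n : ℕ, ∀ g : G, (((cubeIrr k hk₁ hk₂)^[n] χ : IrrCharacter G) : G → ℂ) g =
      (χ : G → ℂ) (g ^ k ^ n) := by
  intro n
  induction n with
  | zero => intro g; simp
  | succ n ih =>
    intro g
    rw [Function.iterate_succ_apply', pow_succ', pow_mul]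
    exact ih (g ^ k)

theorem cubeIrr_period (χ : IrrCharacter G) :
    (cubeIrr k hk₁ hk₂)^[2 ^ Nat.card G] χ = χ :=
  Subtype.ext (funext fun g => by rw [cubeIrr_iterate, cube_pow_pow k hk₁ hk₂])

theorem cubeIrr_mem (χ : IrrCharacter G) (h : χ ∈ principalBlock M G) :
    cubeIrr k hk₁ hk₂ χ ∈ principalBlock M G := by
  intro g
  have h1 := h (g ^ k)
  rw [centralChar_principal] at h1 ⊢
  rw [index_centralizer_pow k hk₁ hk₂] at h1
  convert h1 using 2
  simp [centralChar, cubeIrr, index_centralizer_pow k hk₁ hk₂]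

theorem charDegree_cubeIrr (χ : IrrCharacter G) :
    charDegree (cubeIrr k hk₁ hk₂ χ : G → ℂ) = charDegree (χ : G → ℂ) := by
  simp [charDegree, cubeIrr]

/-- Every linear character of order at most two of a Sylow 2-subgroup lies under a fixed
character of odd degree in the principal block. -/
theorem exists_fixed_odd_over (hM : IsPModular 2 M) (P : Sylow 2 G) [Fintype (P : Subgroup G)]
    (l : (P : Subgroup G) →* ℂˣ) (hl : ∀ x, l x ^ 2 = 1) :
    ∃ χ : IrrCharacter G, χ ∈ principalBlock M G ∧ Odd (charDegree (χ : G → ℂ)) ∧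
      (∀ g, (χ : G → ℂ) (g ^ k) = (χ : G → ℂ) g) ∧
      classInner (fun x => (l x : ℂ)) (fun x : (P : Subgroup G) => (χ : G → ℂ) x) ≠ 0 := by
  classical
  haveI := Fintype.ofFinite (IrrCharacter G)
  have hres : ∀ χ : IrrCharacter G, IsCharacter (P : Subgroup G) (fun x : (P : Subgroup G) => (χ : G → ℂ) x) := fun χ => by
    obtain ⟨χ, n, ρ, hρ, rfl⟩ := χ
    exact ⟨n, ρ.comp (P : Subgroup G).subtype, rfl⟩
  have hm : ∀ χ : IrrCharacter G, ∃ m : ℕ,
      classInner (fun x => (l x : ℂ)) (fun x : (P : Subgroup G) => (χ : G → ℂ) x) = m := fun χ =>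
    classInner_char_nat (isCharacter_of_irr (isIrrCharacter_of_hom l)) (hres χ)
  choose m hm using hm
  set S := Finset.univ.filter (fun χ : IrrCharacter G => χ ∈ principalBlock M G)
  set w : IrrCharacter G → ℕ := fun χ => charDegree (χ : G → ℂ) * m χ
  -- the weighted sum is odd
  have hodd : Odd (∑ χ ∈ S, w χ) := by
    set a := blockCoeff (principalBlock M G) with ha
    have hval : ((∑ χ ∈ S, w χ : ℕ) : ℂ) = ((P : Subgroup G).index : ℂ) * a 1 := by
      have hH0 : (Nat.card (P : Subgroup G) : ℂ) ≠ 0 := Nat.cast_ne_zero.2 Nat.card_pos.ne'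
      calc ((∑ χ ∈ S, w χ : ℕ) : ℂ)
          = ∑ χ ∈ S, (χ : G → ℂ) 1 *
              ((Nat.card (P : Subgroup G) : ℂ)⁻¹ * ∑ x : (P : Subgroup G), (l x : ℂ) * conj ((χ : G → ℂ) x)) := by
            push_cast [w]
            refine Finset.sum_congr rfl fun χ _ => ?_
            rw [← hm, CfsgLib.LinearTwist.apply_one_eq_charDegree (irr_isCharacter χ)]
            rfl
        _ = (Nat.card (P : Subgroup G) : ℂ)⁻¹ * ∑ x : (P : Subgroup G), (l x : ℂ) * ((Nat.card G : ℂ) * a x) := by
            simp only [ha, blockCoeff_eq_sum, Finset.mul_sum]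
            rw [Finset.sum_comm]
            refine Finset.sum_congr rfl fun x _ => Finset.sum_congr (Finset.ext fun y => by simp [S]) fun χ _ => ?_
            have : (Nat.card G : ℂ) ≠ 0 := Nat.cast_ne_zero.2 Nat.card_pos.ne'
            field_simp
        _ = (Nat.card (P : Subgroup G) : ℂ)⁻¹ * ((Nat.card G : ℂ) * a 1) := by
            rw [Finset.sum_eq_single (1 : (P : Subgroup G))]
            · simp
            · intro x _ hx
              have hb : a (x : G) = 0 := by
                refine blockCoeff_eq_zero_of_singular hM (isPBlock_principalBlock M) ?_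
                obtain ⟨j, hj⟩ := IsPGroup.iff_orderOf.1 P.2 x
                rw [Subgroup.orderOf_coe, hj]
                refine dvd_pow_self 2 fun h0 => hx ?_
                rwa [h0, pow_zero, orderOf_eq_one_iff] at hj
              rw [hb, mul_zero, mul_zero]
            · simp
        _ = ((P : Subgroup G).index : ℂ) * a 1 := by
            rw [← mul_assoc]
            congr 1
            rw [← (P : Subgroup G).card_mul_index, Nat.cast_mul, inv_mul_cancel_left₀ hH0]
    rw [Nat.odd_iff, ← Nat.two_dvd_ne_zero]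
    intro h2
    have h3 := (memLocalIdeal_natCast_iff hM _).2 h2
    rw [hval] at h3
    have h4 := MemLocalIdeal.mul_left hM (x := ((P : Subgroup G).index : ℂ)) (natCast_mem (lRing hM) _)
      (blockCoeff_principal_one (G := G) hM)
    have h5 : MemLocalIdeal M ((P : Subgroup G).index : ℂ) := by
      have := MemLocalIdeal.sub hM h3 h4
      convert this using 1
      ring
    exact P.not_dvd_index ((memLocalIdeal_natCast_iff hM _).1 h5)
  -- reduce to fixed characters
  have hcop : (Nat.card (P : Subgroup G)).Coprime k :=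
    (cube_coprime k hk₁ hk₂).symm.coprime_dvd_left (Subgroup.card_subgroup_dvd_card (P : Subgroup G))
  have hlk : ∀ x : (P : Subgroup G), l (x ^ k) = l x := by
    intro x
    obtain ⟨j, hj⟩ := IsPGroup.iff_orderOf.1 P.2 x
    have h1 : x ^ k = x ^ 3 := Subtype.ext (by
      push_cast
      exact hk₁ _ ⟨j, by rw [Subgroup.orderOf_coe, hj]⟩)
    rw [h1, map_pow, pow_succ, hl, one_mul]
  have hfix := sum_zmod_two_eq_fixed (cubeIrr k hk₁ hk₂) (fun χ => (w χ : ZMod 2)) (Nat.card G) S
    (fun χ hχ => by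
      simp only [S, Finset.mem_filter, Finset.mem_univ, true_and] at hχ ⊢
      exact cubeIrr_mem k hk₁ hk₂ χ hχ)
    (fun χ _ => cubeIrr_period k hk₁ hk₂ χ)
    (fun χ _ => by
      have : m (cubeIrr k hk₁ hk₂ χ) = m χ := by
        refine (Nat.cast_inj (R := ℂ)).1 ?_
        rw [← hm, ← hm, classInner, classInner]
        congr 1
        refine Fintype.sum_equiv (powCoprime hcop) _ _ fun x => ?_
        simp only [powCoprime_apply, hlk]
        rfl
      simp only [w, this, charDegree_cubeIrr])
  by_contra hcon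
  push Not at hcon
  have : ((∑ χ ∈ S, w χ : ℕ) : ZMod 2) = 0 := by
    push_cast
    rw [hfix]
    refine Finset.sum_eq_zero fun χ hχ => ?_
    simp only [S, Finset.mem_filter, Finset.mem_univ, true_and] at hχ
    rw [ZMod.natCast_eq_zero_iff_even]
    by_cases hd : Odd (charDegree (χ : G → ℂ))
    · have h0 := hcon χ hχ.1 hd (fun g => congrFun (congrArg Subtype.val hχ.2) g)
      rw [hm] at h0
      simp [w, Nat.cast_eq_zero.1 h0]
    · exact (Nat.not_odd_iff_even.1 hd).mul_right _
  rw [ZMod.natCast_eq_zero_iff_even] at this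
  exact (Nat.not_odd_iff_even.2 this) hodd

end Cube

end CfsgLib.Blk4
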