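import Cfsg.Agent.Lib.Blk4.MWreath
import Cfsg.Agent.Lib.Blk4.FullyRamified
import Mathlib.Analysis.SpecialFunctions.Complex.CircleAddChar
import Mathlib.NumberTheory.LegendreSymbol.AddCharacter

/-!
# Solvable groups inside central quotients of groups of central type
-/

set_option autoImplicit false
set_option linter.unusedSectionVars false
set_option linter.style.haveILetI false

noncomputable section

namespace CfsgLib.Blk4.RamifiedEmbedding

open Cfsg CfsgLib.Characters
open scoped ComplexConjugate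

universe u

/-! ### Dividing out the kernel -/

section Quot

variable {W : Type u} [Group W] [Fintype W] (Z' : Subgroup W) (χ : IrrCharacter W)
  (ω : Z' →* ℂˣ) (hval : ∀ z : Z', (χ : W → ℂ) z = (χ : W → ℂ) 1 * (ω z : ℂ))
  (hoff : ∀ w : W, w ∉ Z' → (χ : W → ℂ) w = 0)

include hval hoff

theorem ne_zero_iff (w : W) : (χ : W → ℂ) w ≠ 0 ↔ w ∈ Z' := by
  refine ⟨fun h => by_contra fun hw => h (hoff w hw), fun hw => ?_⟩
  rw [hval ⟨w, hw⟩]
  exact mul_ne_zero (irr_one_ne_zero χ) (Units.ne_zero _)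

theorem conj_mem (w : W) (z : Z') : w * z * w⁻¹ ∈ Z' := by
  rw [← ne_zero_iff Z' χ ω hval hoff, irr_isClassFunction χ, ne_zero_iff Z' χ ω hval hoff]
  exact z.2

theorem omega_conj (w : W) (z : Z') : ω ⟨w * z * w⁻¹, conj_mem Z' χ ω hval hoff w z⟩ = ω z := by
  refine Units.ext (mul_left_cancel₀ (irr_one_ne_zero χ) ?_)
  rw [← hval, ← hval]
  exact irr_isClassFunction χ (z : W) w

/-- The kernel. -/
def kerSub : Subgroup W := ω.ker.map Z'.subtype

theorem mem_kerSub {w : W} : w ∈ kerSub Z' ω ↔ ∃ h : w ∈ Z', ω ⟨w, h⟩ = 1 := by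
  constructor
  · rintro ⟨z, hz, rfl⟩
    exact ⟨z.2, hz⟩
  · rintro ⟨h, hw⟩
    exact ⟨⟨w, h⟩, hw, rfl⟩

theorem kerSub_normal : (kerSub Z' ω).Normal := ⟨fun n hn w => by
  obtain ⟨h, hn1⟩ := (mem_kerSub Z' χ ω hval hoff).1 hn
  exact (mem_kerSub Z' χ ω hval hoff).2
    ⟨conj_mem Z' χ ω hval hoff w ⟨n, h⟩, (omega_conj Z' χ ω hval hoff w ⟨n, h⟩).trans hn1⟩⟩

theorem exists_central_quotient :
    ∃ (H : Type u) (_ : Group H) (_ : Finite H) (η : IrrCharacter H),
      (∀ h : H, (η : H → ℂ) h = (η : H → ℂ) 1 → h = 1) ∧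
      (η : H → ℂ) 1 = (χ : W → ℂ) 1 ∧
      (Subgroup.center H).index = Z'.index ∧
      Nat.card (Subgroup.center H) = Nat.card ω.range ∧
      ∃ π : W →* H ⧸ Subgroup.center H, π.ker = Z' := by
  classical
  haveI := kerSub_normal Z' χ ω hval hoff
  set K := kerSub Z' ω with hK
  have hle : K ≤ CfsgLib.Chars17.irrKer χ := fun w hw => by
    obtain ⟨h, hw1⟩ := (mem_kerSub Z' χ ω hval hoff).1 hw
    show (χ : W → ℂ) w = (χ : W → ℂ) 1
    rw [hval ⟨w, h⟩, hw1, Units.val_one, mul_one]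
  obtain ⟨η, hη⟩ := CfsgLib.Chars17.exists_infl_eq K hle
  have hηv : ∀ w : W, (η : W ⧸ K → ℂ) (w : W ⧸ K) = (χ : W → ℂ) w := fun w => by
    rw [← hη, CfsgLib.Chars17.infl_apply]
  have hη1 : (η : W ⧸ K → ℂ) 1 = (χ : W → ℂ) 1 := by rw [← hηv 1, QuotientGroup.mk_one]
  have hfaith : ∀ h : W ⧸ K, (η : W ⧸ K → ℂ) h = (η : W ⧸ K → ℂ) 1 → h = 1 := by
    intro h hh
    obtain ⟨w, rfl⟩ := QuotientGroup.mk_surjective h
    rw [hηv, hη1] at hh
    have hw : w ∈ Z' := (ne_zero_iff Z' χ ω hval hoff w).1 (hh ▸ irr_one_ne_zero χ)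
    rw [hval ⟨w, hw⟩] at hh
    exact (QuotientGroup.eq_one_iff w).2 ((mem_kerSub Z' χ ω hval hoff).2
      ⟨hw, Units.ext (mul_left_cancel₀ (irr_one_ne_zero χ) (by rw [hh, Units.val_one, mul_one]))⟩)
  have hcen : ∀ w : W, (w : W ⧸ K) ∈ Subgroup.center (W ⧸ K) ↔ w ∈ Z' := by
    intro w
    constructor
    · intro hw
      obtain ⟨η', n, ρ, hρ, rfl⟩ := η
      haveI := hρ
      obtain ⟨c, hc⟩ := CfsgLib.CharScalar.center_scalar ρ hw
      have h1 : ρ.character (w : W ⧸ K) = c * ρ.character 1 := by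
        show LinearMap.trace ℂ _ (ρ (w : W ⧸ K)) = _
        rw [hc, map_smul, smul_eq_mul, LinearMap.trace_one, Representation.char_one]
      have hc0 : c ≠ 0 := by
        intro h0
        rw [h0, zero_smul] at hc
        have h2 : ρ 1 = 0 := by
          rw [← mul_inv_cancel (w : W ⧸ K), map_mul, hc, zero_mul]
        have h3 : ρ.character 1 = 0 := by
          show LinearMap.trace ℂ _ (ρ 1) = 0
          rw [h2, map_zero]
        exact irr_one_ne_zero ⟨_, n, ρ, hρ, rfl⟩ h3
      refine (ne_zero_iff Z' χ ω hval hoff w).1 ?_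
      rw [← hηv]
      show ρ.character (w : W ⧸ K) ≠ 0
      rw [h1]
      exact mul_ne_zero hc0 (irr_one_ne_zero ⟨_, n, ρ, hρ, rfl⟩)
    · intro hw
      rw [Subgroup.mem_center_iff]
      intro y
      obtain ⟨y, rfl⟩ := QuotientGroup.mk_surjective y
      rw [← QuotientGroup.mk_mul, ← QuotientGroup.mk_mul, QuotientGroup.eq]
      have hm := conj_mem Z' χ ω hval hoff y⁻¹ ⟨w⁻¹, Z'.inv_mem hw⟩
      refine (mem_kerSub Z' χ ω hval hoff).2 ⟨?_, ?_⟩
      · have e : (y * w)⁻¹ * (w * y) = w⁻¹ * (y⁻¹ * w * y⁻¹⁻¹) := by group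
        rw [e]
        exact Z'.mul_mem (Z'.inv_mem hw) (conj_mem Z' χ ω hval hoff y⁻¹ ⟨w, hw⟩)
      · rw [show (⟨(y * w)⁻¹ * (w * y), _⟩ : Z') = (⟨w, hw⟩ : Z')⁻¹ *
          ⟨y⁻¹ * w * y⁻¹⁻¹, conj_mem Z' χ ω hval hoff y⁻¹ ⟨w, hw⟩⟩ from
          Subtype.ext (by simp only [Subgroup.coe_mul, Subgroup.coe_inv]; group)]
        rw [map_mul, omega_conj Z' χ ω hval hoff y⁻¹ ⟨w, hw⟩, ← map_mul, inv_mul_cancel, map_one]
  set π : W →* (W ⧸ K) ⧸ Subgroup.center (W ⧸ K) :=
    (QuotientGroup.mk' (Subgroup.center (W ⧸ K))).comp (QuotientGroup.mk' K) with hπ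
  have hker : π.ker = Z' := by
    ext w
    rw [MonoidHom.mem_ker, hπ, MonoidHom.comp_apply, QuotientGroup.mk'_apply,
      QuotientGroup.mk'_apply, QuotientGroup.eq_one_iff, hcen]
  have hcomap : (Subgroup.center (W ⧸ K)).comap (QuotientGroup.mk' K) = Z' := by
    ext w; exact hcen w
  refine ⟨W ⧸ K, inferInstance, inferInstance, η, hfaith, hη1, ?_, ?_, π, hker⟩
  · rw [← hcomap, Subgroup.index_comap_of_surjective _ (QuotientGroup.mk'_surjective K)]
  · let m : Z' →* Subgroup.center (W ⧸ K) :=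
      ((QuotientGroup.mk' K).comp Z'.subtype).codRestrict _ fun z => (hcen _).2 z.2
    have hm : Function.Surjective m := by
      rintro ⟨q, hq⟩
      obtain ⟨w, rfl⟩ := QuotientGroup.mk_surjective q
      exact ⟨⟨w, (hcen w).1 hq⟩, rfl⟩
    have hk : m.ker = ω.ker := by
      ext z
      rw [MonoidHom.mem_ker, MonoidHom.mem_ker]
      constructor
      · intro h
        have h1 : (z : W) ∈ K := (QuotientGroup.eq_one_iff (z : W)).1 (congrArg Subtype.val h)
        obtain ⟨hz, hz1⟩ := (mem_kerSub Z' χ ω hval hoff).1 h1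
        exact hz1
      · intro h
        exact Subtype.ext ((QuotientGroup.eq_one_iff (z : W)).2
          ((mem_kerSub Z' χ ω hval hoff).2 ⟨z.2, h⟩))
    have h1 := Subgroup.index_ker m
    rw [MonoidHom.range_eq_top.2 hm, Subgroup.card_top, hk, Subgroup.index_ker] at h1
    exact h1.symm

end Quot

/-! ### The Heisenberg group and its character -/

/-- The Heisenberg group modulo `p`. -/
@[ext]
structure Heis (p : ℕ) where
  a : ZMod p
  b : ZMod p
  c : ZMod p

namespace Heis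

variable {p : ℕ}

instance : Mul (Heis p) := ⟨fun x y => ⟨x.a + y.a, x.b + y.b, x.c + y.c + x.a * y.b⟩⟩
instance : One (Heis p) := ⟨⟨0, 0, 0⟩⟩
instance : Inv (Heis p) := ⟨fun x => ⟨-x.a, -x.b, -x.c + x.a * x.b⟩⟩

theorem mul_a (x y : Heis p) : (x * y).a = x.a + y.a := rfl
theorem mul_b (x y : Heis p) : (x * y).b = x.b + y.b := rfl
theorem mul_c (x y : Heis p) : (x * y).c = x.c + y.c + x.a * y.b := rfl

instance : Group (Heis p) where
  mul_assoc x y z := by ext <;> simp only [mul_a, mul_b, mul_c] <;> ring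
  one_mul x := by ext <;> simp [mul_a, mul_b, mul_c, show (1 : Heis p) = ⟨0, 0, 0⟩ from rfl]
  mul_one x := by ext <;> simp [mul_a, mul_b, mul_c, show (1 : Heis p) = ⟨0, 0, 0⟩ from rfl]
  inv_mul_cancel x := by
    ext <;> simp [mul_a, mul_b, mul_c, show (1 : Heis p) = ⟨0, 0, 0⟩ from rfl,
      show x⁻¹ = ⟨-x.a, -x.b, -x.c + x.a * x.b⟩ from rfl]

/-- As a triple. -/
def equivProd (p : ℕ) : Heis p ≃ ZMod p × ZMod p × ZMod p where
  toFun x := (x.a, x.b, x.c)
  invFun x := ⟨x.1, x.2.1, x.2.2⟩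
  left_inv _ := rfl
  right_inv _ := rfl

variable [NeZero p]

instance : Fintype (Heis p) := Fintype.ofEquiv _ (equivProd p).symm

theorem card : Nat.card (Heis p) = p * (p * p) := by
  rw [Nat.card_congr (equivProd p), Nat.card_prod, Nat.card_prod, Nat.card_zmod]

/-- The monomial matrices. -/
def mat : Heis p →* Matrix (ZMod p) (ZMod p) ℂ where
  toFun x := Matrix.of fun i j =>
    if j = i + x.a then ZMod.stdAddChar (x.c + i * x.b) else 0
  map_one' := by
    ext i j
    simp [show (1 : Heis p) = ⟨0, 0, 0⟩ from rfl, Matrix.one_apply, eq_comm]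
  map_mul' x y := by
    ext i j
    rw [Matrix.mul_apply, Finset.sum_eq_single (i + x.a)]
    · simp only [Matrix.of_apply, mul_a, mul_b, mul_c, if_pos rfl, if_true, add_assoc]
      split_ifs with h
      · rw [← AddChar.map_add_eq_mul]
        congr 1
        ring
      · rw [mul_zero]
    · intro k _ hk
      simp [hk]
    · intro h
      exact absurd (Finset.mem_univ _) h

theorem trace_mat [Fact p.Prime] (x : Heis p) : (mat x).trace =
    if x.a = 0 ∧ x.b = 0 then (p : ℂ) * ZMod.stdAddChar x.c else 0 := by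
  simp only [Matrix.trace, Matrix.diag_apply, mat, MonoidHom.coe_mk, OneHom.coe_mk, Matrix.of_apply]
  by_cases ha : x.a = 0
  · simp only [ha, add_zero, if_true, true_and, AddChar.map_add_eq_mul, ← Finset.mul_sum]
    rw [show (∑ i : ZMod p, ZMod.stdAddChar (i * x.b) : ℂ) = if x.b = 0 then (p : ℂ) else 0 by
      rw [AddChar.sum_mulShift x.b (ZMod.isPrimitive_stdAddChar p), ZMod.card]
      split_ifs <;> simp]
    split_ifs
    · ring
    · rw [mul_zero]
  · simp [ha]

end Heis

/-! ### The step -/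

variable {H₀ : Type u} [Group H₀] [Fintype H₀]

/-- Mapping the base of a wreath product. -/
def mapLeft {A B Q : Type u} [Group A] [Group B] [Group Q] (f : A →* B) : A ≀ᵣ Q →* B ≀ᵣ Q where
  toFun w := ⟨fun q => f (w.left q), w.right⟩
  map_one' := by ext <;> simp
  map_mul' a b := by ext <;> simp

/-- The central character of a fully ramified faithful character. -/
theorem exists_central_hom (χ₀ : IrrCharacter H₀)
    (hfaith : ∀ h : H₀, (χ₀ : H₀ → ℂ) h = (χ₀ : H₀ → ℂ) 1 → h = 1) :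
    ∃ ω₀ : Subgroup.center H₀ →* ℂˣ, Function.Injective ω₀ ∧
      ∀ z : Subgroup.center H₀, (χ₀ : H₀ → ℂ) z = (χ₀ : H₀ → ℂ) 1 * (ω₀ z : ℂ) := by
  obtain ⟨χ, n, ρ, hρ, rfl⟩ := χ₀
  haveI := hρ
  have h0 : ρ.character 1 ≠ 0 := irr_one_ne_zero ⟨_, n, ρ, hρ, rfl⟩
  have hmul : ∀ (z : Subgroup.center H₀) (y : H₀),
      ρ.character ((z : H₀) * y) = ρ.character z / ρ.character 1 * ρ.character y := by
    intro z y
    obtain ⟨c, hc⟩ := CfsgLib.CharScalar.center_scalar ρ z.2
    have hm : ∀ g, ρ.character ((z : H₀) * g) = c * ρ.character g := fun g => by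
      simp [Representation.character, map_mul, hc]
    have h1 := hm 1
    rw [mul_one] at h1
    rw [hm, h1, mul_div_cancel_right₀ _ h0]
  let f : Subgroup.center H₀ →* ℂ :=
    { toFun := fun z => ρ.character z / ρ.character 1
      map_one' := by rw [OneMemClass.coe_one, div_self h0]
      map_mul' := fun a b => by rw [Subgroup.coe_mul, hmul, mul_div_assoc] }
  refine ⟨f.toHomUnits, ?_, fun z => ?_⟩
  · rw [injective_iff_map_eq_one]
    intro z hz
    have h1 : f z = 1 := by
      have := congrArg (fun u : ℂˣ => (u : ℂ)) hz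
      simpa using this
    exact Subtype.ext (hfaith z ((div_eq_one_iff_eq h0).1 h1))
  · show ρ.character z = ρ.character 1 * (ρ.character z / ρ.character 1)
    field_simp

/-- The step of the induction: adjoin a prime. -/
theorem step (χ₀ : IrrCharacter H₀)
    (hfaith : ∀ h : H₀, (χ₀ : H₀ → ℂ) h = (χ₀ : H₀ → ℂ) 1 → h = 1)
    (hdeg : (charDegree (χ₀ : H₀ → ℂ)) ^ 2 = (Subgroup.center H₀).index)
    (hsq : Squarefree (Nat.card (Subgroup.center H₀)))
    (hpr : ∀ q : ℕ, q.Prime → q ∣ Nat.card H₀ → q ∣ Nat.card (Subgroup.center H₀))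
    {p : ℕ} [hp : Fact p.Prime] (Q : Type u) [Group Q] [Finite Q] (hQ : Nat.card Q = p) :
    ∃ (H : Type u) (_ : Group H) (_ : Finite H) (χ : IrrCharacter H),
      (∀ h : H, (χ : H → ℂ) h = (χ : H → ℂ) 1 → h = 1) ∧
      (charDegree (χ : H → ℂ)) ^ 2 = (Subgroup.center H).index ∧
      Squarefree (Nat.card (Subgroup.center H)) ∧
      (∀ q : ℕ, q.Prime → (q ∣ Nat.card (Subgroup.center H) ↔
        (q ∣ Nat.card (Subgroup.center H₀) ∨ q = p))) ∧
      (∀ q : ℕ, q.Prime → q ∣ Nat.card H → q ∣ Nat.card (Subgroup.center H)) ∧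
      ∃ f : (H₀ ⧸ Subgroup.center H₀) ≀ᵣ Q →* H ⧸ Subgroup.center H, Function.Injective f := by
  classical
  haveI := Fintype.ofFinite Q
  haveI : IsCyclic Q := isCyclic_of_prime_card hQ
  let eQ : Multiplicative (ZMod p) ≃* Q :=
    mulEquivOfCyclicCardEq (by rw [hQ, Nat.card_congr Multiplicative.toAdd, Nat.card_zmod])
  -- the fibre product
  let W : Subgroup ((H₀ ≀ᵣ Q) × Heis p) :=
    { carrier := {x | x.1.right = eQ (Multiplicative.ofAdd x.2.a)}
      one_mem' := by simp [show (1 : Heis p) = ⟨0, 0, 0⟩ from rfl]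
      mul_mem' := fun {x y} hx hy => by
        show (x * y).1.right = _
        simp only [Prod.fst_mul, Prod.snd_mul, RegularWreathProduct.mul_right, Heis.mul_a,
          ofAdd_add, map_mul]
        rw [show x.1.right = _ from hx, show y.1.right = _ from hy]
      inv_mem' := fun {x} hx => by
        show (x⁻¹).1.right = eQ (Multiplicative.ofAdd (-x.2.a))
        rw [ofAdd_neg, map_inv, ← show x.1.right = _ from hx]
        rfl }
  haveI : Finite ((H₀ ≀ᵣ Q) × Heis p) := inferInstance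
  haveI : Fintype W := Fintype.ofFinite W
  obtain ⟨d, hd, hd1⟩ := irr_exists_degree χ₀.2
  have hd' : charDegree (χ₀ : H₀ → ℂ) = d := by simp [charDegree, hd1]
  rw [hd'] at hdeg
  obtain ⟨ω₀, hω₀i, hω₀⟩ := exists_central_hom χ₀ hfaith
  -- vanishing off the centre
  haveI : Fintype (Subgroup.center H₀) := Fintype.ofFinite _
  have hvan : ∀ h : H₀, h ∉ Subgroup.center H₀ → (χ₀ : H₀ → ℂ) h = 0 := by
    intro h hh
    exact CfsgLib.Blk4.FullyRamified.vanish_off (Subgroup.center H₀) χ₀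
      ⟨fun z => (ω₀ z : ℂ), isIrrCharacter_of_hom ω₀⟩ d hdeg
      (fun z => by rw [hω₀, hd1]) hh
  -- the representation
  obtain ⟨m, R, hR⟩ := CfsgLib.Induction.exists_matrix_of_isCharacter (irr_isCharacter χ₀)
  let T : (H₀ ≀ᵣ Q) →* Matrix (Q → Fin m) (Q → Fin m) ℂ :=
    { toFun := fun w => Matrix.of fun i j => ∏ q, R (w.left q) (i q) (j (w.right⁻¹ * q))
      map_one' := by
        ext i j
        simp only [RegularWreathProduct.one_left, RegularWreathProduct.one_right, inv_one, one_mul,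
          Pi.one_apply, map_one, Matrix.of_apply, Matrix.one_apply]
        by_cases hij : i = j
        · simp [hij]
        · obtain ⟨q, hq⟩ := Function.ne_iff.1 hij
          rw [if_neg hij]
          exact Finset.prod_eq_zero (Finset.mem_univ q) (if_neg hq)
      map_mul' := fun v w => by
        ext i k
        simp only [Matrix.mul_apply, Matrix.of_apply, RegularWreathProduct.mul_left, Pi.mul_apply,
          RegularWreathProduct.mul_right, map_mul, mul_inv_rev, mul_assoc]
        rw [Fintype.prod_sum]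
        refine Fintype.sum_equiv
          { toFun := fun f q => f (v.right * q)
            invFun := fun j q => j (v.right⁻¹ * q)
            left_inv := fun f => by funext q; simp
            right_inv := fun j => by funext q; simp } _ _ fun f => ?_
        rw [Finset.prod_mul_distrib]
        simp only [Equiv.coe_fn_mk, mul_inv_cancel_left]
        congr 1
        refine Fintype.prod_equiv (Equiv.mulLeft v.right⁻¹) _ _ fun q => ?_
        simp }
  have hT : ∀ w : H₀ ≀ᵣ Q, w.right = 1 → (T w).trace = ∏ q, (χ₀ : H₀ → ℂ) (w.left q) := by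
    intro w hw
    simp only [hR, Matrix.trace, Matrix.diag_apply]
    rw [Fintype.prod_sum]
    refine Finset.sum_congr rfl fun i _ => ?_
    show ∏ q, R (w.left q) (i q) (i (w.right⁻¹ * q)) = _
    simp [hw]
  let χW : W → ℂ := fun x => (T (x : (H₀ ≀ᵣ Q) × Heis p).1).trace *
    (Heis.mat (x : (H₀ ≀ᵣ Q) × Heis p).2).trace
  have hc : IsCharacter W χW :=
    isCharacter_mul
      (CfsgLib.Induction.isCharacter_of_matrix (T.comp ((MonoidHom.fst _ _).comp W.subtype)))
      (CfsgLib.Induction.isCharacter_of_matrix (Heis.mat.comp ((MonoidHom.snd _ _).comp W.subtype)))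
  -- the centre
  let prj : W →* ((H₀ ⧸ Subgroup.center H₀) ≀ᵣ Q) × Multiplicative (ZMod p) :=
    ((mapLeft (QuotientGroup.mk' (Subgroup.center H₀))).comp
      ((MonoidHom.fst _ _).comp W.subtype)).prod
      (MonoidHom.mk' (fun x : W => Multiplicative.ofAdd ((x : (H₀ ≀ᵣ Q) × Heis p).2.b))
        fun a b => by simp [Heis.mul_b, ofAdd_add])
  have hprj : Function.Surjective prj := by
    rintro ⟨⟨l, r⟩, b⟩
    refine ⟨⟨(⟨fun q => (l q).out, r⟩, ⟨Multiplicative.toAdd (eQ.symm r),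
      Multiplicative.toAdd b, 0⟩), by simp [W]⟩, ?_⟩
    refine Prod.ext (RegularWreathProduct.ext (funext fun q => ?_) rfl) rfl
    exact (l q).out_eq'
  set Z' := prj.ker with hZ'
  have hmem : ∀ x : W, x ∈ Z' ↔ ((x : (H₀ ≀ᵣ Q) × Heis p).1.right = 1 ∧
      (∀ q, (x : (H₀ ≀ᵣ Q) × Heis p).1.left q ∈ Subgroup.center H₀) ∧
      (x : (H₀ ≀ᵣ Q) × Heis p).2.a = 0 ∧ (x : (H₀ ≀ᵣ Q) × Heis p).2.b = 0) := by
    intro x
    rw [hZ', MonoidHom.mem_ker]
    constructor
    · intro h
      have h1 := congrArg (fun y => y.1.right) h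
      have h2 := congrArg (fun y => y.1.left) h
      have h3 := congrArg (fun y => Multiplicative.toAdd y.2) h
      have hr : (x : (H₀ ≀ᵣ Q) × Heis p).1.right = 1 := h1
      refine ⟨hr, fun q => (QuotientGroup.eq_one_iff _).1 (congrFun h2 q), ?_, h3⟩
      have h4 : (x : (H₀ ≀ᵣ Q) × Heis p).1.right =
          eQ (Multiplicative.ofAdd (x : (H₀ ≀ᵣ Q) × Heis p).2.a) := x.2
      rw [hr, eq_comm, EmbeddingLike.map_eq_one_iff] at h4
      simpa using h4
    · rintro ⟨h1, h2, -, h4⟩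
      refine Prod.ext (RegularWreathProduct.ext (funext fun q => ?_) h1) ?_
      · exact (QuotientGroup.eq_one_iff _).2 (h2 q)
      · show Multiplicative.ofAdd _ = 1
        rw [h4, ofAdd_zero]
  let ω : Z' →* ℂˣ :=
    MonoidHom.mk' (fun x =>
      (∏ q, ω₀ ⟨((x : W) : (H₀ ≀ᵣ Q) × Heis p).1.left q, ((hmem x).1 x.2).2.1 q⟩) *
        (ZMod.stdAddChar.toMonoidHom.toHomUnits
          (Multiplicative.ofAdd ((x : W) : (H₀ ≀ᵣ Q) × Heis p).2.c))) fun x y => by
    obtain ⟨hx1, hx2, hx3, hx4⟩ := (hmem x).1 x.2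
    rw [mul_mul_mul_comm, ← Finset.prod_mul_distrib, ← map_mul, ← ofAdd_add]
    congr 1
    · refine Finset.prod_congr rfl fun q _ => ?_
      rw [← map_mul]
      refine congrArg ω₀ (Subtype.ext ?_)
      simp [hx1]
    · congr 2
      simp [Heis.mul_c, hx3]
  have hW1 : χW 1 = ((d ^ p * p : ℕ) : ℂ) := by
    show (T (1 : H₀ ≀ᵣ Q)).trace * (Heis.mat (1 : Heis p)).trace = _
    rw [hT 1 rfl, Heis.trace_mat, if_pos ⟨rfl, rfl⟩]
    simp [hd1, ← Nat.card_eq_fintype_card, hQ, show (1 : Heis p).c = 0 from rfl]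
  have hval : ∀ z : Z', χW z = χW 1 * (ω z : ℂ) := by
    intro z
    obtain ⟨h1, h2, h3, h4⟩ := (hmem z).1 z.2
    show (T _).trace * (Heis.mat _).trace = _
    rw [hT _ h1, Heis.trace_mat, if_pos ⟨h3, h4⟩, hW1]
    rw [Finset.prod_congr rfl fun q _ => hω₀ ⟨_, h2 q⟩, Finset.prod_mul_distrib, Finset.prod_const,
      Finset.card_univ, ← Nat.card_eq_fintype_card, hQ, hd1]
    simp only [ω, MonoidHom.mk'_apply, Units.val_mul, Units.coe_prod, MonoidHom.coe_toHomUnits]
    push_cast
    show _ = _ * (_ * (ZMod.stdAddChar _ : ℂ))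
    ring_nf
    rfl
  have hoff : ∀ x : W, x ∉ Z' → χW x = 0 := by
    intro x hx
    show (T _).trace * (Heis.mat _).trace = 0
    by_cases hab : (x : (H₀ ≀ᵣ Q) × Heis p).2.a = 0 ∧ (x : (H₀ ≀ᵣ Q) × Heis p).2.b = 0
    · have hr : (x : (H₀ ≀ᵣ Q) × Heis p).1.right = 1 := by
        rw [show (x : (H₀ ≀ᵣ Q) × Heis p).1.right = _ from x.2, hab.1, ofAdd_zero, map_one]
      obtain ⟨q, hq⟩ : ∃ q, (x : (H₀ ≀ᵣ Q) × Heis p).1.left q ∉ Subgroup.center H₀ := by
        by_contra hcon
        push Not at hcon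
        exact hx ((hmem x).2 ⟨hr, hcon, hab.1, hab.2⟩)
      rw [hT _ hr, Finset.prod_eq_zero (Finset.mem_univ q) (hvan _ hq), zero_mul]
    · rw [Heis.trace_mat, if_neg hab, mul_zero]
  have hidx : Z'.index = (d ^ p * p) ^ 2 := by
    rw [hZ', Subgroup.index_ker, MonoidHom.range_eq_top.2 hprj, Subgroup.card_top, Nat.card_prod,
      RegularWreathProduct.card, hQ, ← Subgroup.index_eq_card, ← hdeg,
      Nat.card_congr Multiplicative.toAdd, Nat.card_zmod]
    ring
  haveI : Fintype Z' := Fintype.ofFinite Z'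
  have hnormω : ∀ z : Z', (ω z : ℂ) * conj (ω z : ℂ) = 1 := by
    intro z
    obtain ⟨k, hk, hk1⟩ := (isOfFinOrder_of_finite z).exists_pow_eq_one
    have h1 : (ω z : ℂ) ^ k = 1 := by
      rw [← Units.val_pow_eq_pow_val, ← map_pow, hk1, map_one, Units.val_one]
    rw [Complex.mul_conj', Complex.norm_eq_one_of_pow_eq_one h1 hk.ne']
    simp
  have hirr : IsIrrCharacter W χW := by
    rw [isIrrCharacter_iff_classInner_self hc, classInner,
      ← Finset.sum_filter_add_sum_filter_not Finset.univ (fun x => x ∈ Z'),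
      Finset.sum_eq_zero (s := Finset.univ.filter fun x : W => ¬ x ∈ Z') (fun x hx => by
        rw [hoff x (Finset.mem_filter.1 hx).2, zero_mul]), add_zero,
      Finset.sum_subtype (p := fun x : W => x ∈ Z') _ (by simp)]
    have he : ∀ z : Z', χW z * conj (χW z) = ((Z'.index : ℕ) : ℂ) := by
      intro z
      rw [hval, hW1, map_mul, Complex.conj_natCast, mul_mul_mul_comm, hnormω, mul_one, hidx]
      push_cast
      ring
    rw [Finset.sum_congr rfl fun z _ => he z, Finset.sum_const, Finset.card_univ, nsmul_eq_mul,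
      ← Nat.card_eq_fintype_card, ← Nat.cast_mul, Z'.card_mul_index,
      inv_mul_cancel₀ (Nat.cast_ne_zero.2 Nat.card_pos.ne')]
  obtain ⟨H, _, _, η, hηf, hη1, hηi, hηc, π, hπ⟩ :=
    exists_central_quotient Z' ⟨χW, hirr⟩ ω hval hoff
  set L := Nat.lcm (Nat.card (Subgroup.center H₀)) p with hL
  have hrange : Nat.card ω.range ∣ L := by
    have hle : ω.range ≤ rootsOfUnity L ℂ := by
      rintro _ ⟨z, rfl⟩
      show (_ : ℂˣ) ^ L = 1
      simp only [ω, MonoidHom.mk'_apply, mul_pow, ← Finset.prod_pow]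
      rw [Finset.prod_eq_one fun q _ => by
        rw [← map_pow, show (⟨_, _⟩ : Subgroup.center H₀) ^ L = 1 from
          orderOf_dvd_iff_pow_eq_one.1 ((orderOf_dvd_natCard _).trans (Nat.dvd_lcm_left _ _)),
          map_one], one_mul, ← map_pow]
      rw [orderOf_dvd_iff_pow_eq_one.1 ((orderOf_dvd_natCard _).trans (by
        rw [Nat.card_congr Multiplicative.toAdd, Nat.card_zmod]; exact Nat.dvd_lcm_right _ _)),
        map_one]
    haveI : NeZero L := ⟨Nat.lcm_ne_zero Nat.card_pos.ne' hp.out.ne_zero⟩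
    have h := Subgroup.card_dvd_of_le hle
    rwa [Complex.card_rootsOfUnity] at h
  have hz0 : Nat.card (Subgroup.center H₀) ∣ Nat.card ω.range := by
    rw [Nat.card_congr (MonoidHom.ofInjective hω₀i).toEquiv]
    refine Subgroup.card_dvd_of_le ?_
    rintro _ ⟨z, rfl⟩
    refine ⟨⟨⟨(⟨Pi.mulSingle 1 (z : H₀), 1⟩, ⟨0, 0, 0⟩), by simp [W]⟩, (hmem _).2 ⟨rfl, fun q => ?_,
      rfl, rfl⟩⟩, ?_⟩
    · by_cases hq : q = 1
      · subst hq; simp
      · simp [Pi.mulSingle_eq_of_ne hq]
    · simp only [ω, MonoidHom.mk'_apply]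
      show (∏ q, ω₀ _) * ZMod.stdAddChar.toMonoidHom.toHomUnits (1 : Multiplicative (ZMod p)) = _
      rw [show ZMod.stdAddChar.toMonoidHom.toHomUnits (1 : Multiplicative (ZMod p)) = 1 from map_one _,
        mul_one, Finset.prod_eq_single (1 : Q)]
      · exact congrArg ω₀ (Subtype.ext (by simp))
      · intro q _ hq
        rw [show (⟨_, _⟩ : Subgroup.center H₀) = 1 from
          Subtype.ext (Pi.mulSingle_eq_of_ne hq _), map_one]
      · intro h; exact absurd (Finset.mem_univ _) h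
  have hp0 : p ∣ Nat.card ω.range := by
    let j : Multiplicative (ZMod p) →* ℂˣ := ZMod.stdAddChar.toMonoidHom.toHomUnits
    have hj : Function.Injective j := fun a b h => by
      have h1 := congrArg (fun u : ℂˣ => (u : ℂ)) h
      exact Multiplicative.toAdd.injective (ZMod.injective_stdAddChar (N := p) h1)
    have h1 : p = Nat.card j.range := by
      rw [← Nat.card_congr (MonoidHom.ofInjective hj).toEquiv,
        Nat.card_congr Multiplicative.toAdd, Nat.card_zmod]
    have hle : j.range ≤ ω.range := by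
      rintro _ ⟨c, rfl⟩
      refine ⟨⟨⟨(1, ⟨0, 0, Multiplicative.toAdd c⟩), by simp [W]⟩, (hmem _).2 ⟨rfl, fun q => ?_,
        rfl, rfl⟩⟩, ?_⟩
      · simp
      · simp only [ω, MonoidHom.mk'_apply]
        rw [Finset.prod_eq_one fun q _ => by
          rw [show (⟨_, _⟩ : Subgroup.center H₀) = 1 from Subtype.ext (by simp), map_one], one_mul]
        rfl
    exact (dvd_of_eq h1).trans (Subgroup.card_dvd_of_le hle)
  have hηdeg : charDegree (η : H → ℂ) = d ^ p * p := by
    have h1 : (η : H → ℂ) 1 = ((d ^ p * p : ℕ) : ℂ) := hη1.trans hW1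
    rw [charDegree, h1, Complex.natCast_re, Nat.floor_natCast]
  have hprimes : ∀ q : ℕ, q.Prime → (q ∣ Nat.card (Subgroup.center H) ↔
      (q ∣ Nat.card (Subgroup.center H₀) ∨ q = p)) := by
    intro q hq
    rw [hηc]
    constructor
    · intro h
      rcases hq.dvd_mul.1 ((h.trans hrange).trans (Nat.lcm_dvd_mul _ _)) with h | h
      · exact Or.inl h
      · exact Or.inr ((Nat.prime_dvd_prime_iff_eq hq hp.out).1 h)
    · rintro (h | rfl)
      · exact h.trans hz0
      · exact hp0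
  have hLsq : Squarefree L := by
    by_cases hpz : p ∣ Nat.card (Subgroup.center H₀)
    · rwa [hL, Nat.lcm_eq_left hpz]
    · have hco := (hp.out.coprime_iff_not_dvd.2 hpz).symm
      rw [hL, hco.lcm_eq_mul, Nat.squarefree_mul hco]
      exact ⟨hsq, hp.out.squarefree⟩
  refine ⟨H, inferInstance, inferInstance, η, hηf, by rw [hηdeg, hηi, hidx],
    hLsq.squarefree_of_dvd (hηc ▸ hrange), hprimes, fun q hq h => ?_, ?_⟩
  · rw [← (Subgroup.center H).card_mul_index, hηi, hidx] at h
    rcases hq.dvd_mul.1 h with h | h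
    · exact h
    · refine (hprimes q hq).2 ?_
      rcases hq.dvd_mul.1 (hq.dvd_of_dvd_pow h) with h | h
      · refine Or.inl (hpr q hq ?_)
        rw [← (Subgroup.center H₀).card_mul_index, ← hdeg]
        exact dvd_mul_of_dvd_right (dvd_pow (hq.dvd_of_dvd_pow h) two_ne_zero) _
      · exact Or.inr ((Nat.prime_dvd_prime_iff_eq hq hp.out).1 h)
  · haveI : Z'.Normal := MonoidHom.normal_ker prj
    let e : W ⧸ Z' ≃* ((H₀ ⧸ Subgroup.center H₀) ≀ᵣ Q) × Multiplicative (ZMod p) :=
      QuotientGroup.quotientKerEquivOfSurjective prj hprj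
    let j : W ⧸ Z' →* H ⧸ Subgroup.center H :=
      QuotientGroup.lift Z' π fun x hx => by rw [← hπ] at hx; exact hx
    refine ⟨j.comp (e.symm.toMonoidHom.comp (MonoidHom.inl _ _)), ?_⟩
    have hj : Function.Injective j := by
      rw [injective_iff_map_eq_one]
      intro x hx
      obtain ⟨x, rfl⟩ := QuotientGroup.mk_surjective x
      exact (QuotientGroup.eq_one_iff x).2 (hπ ▸ (MonoidHom.mem_ker.2 hx : x ∈ π.ker))
    intro a b h
    exact congrArg Prod.fst (e.symm.injective (hj h))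

end CfsgLib.Blk4.RamifiedEmbedding
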