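import Cfsg.Agent.Lib.Blk7.RootBound
import Mathlib.RingTheory.Polynomial.Cyclotomic.Roots
import Mathlib.RingTheory.RootsOfUnity.Complex

/-!
# The average over conjugates of the norm of an integral combination of roots of unity
-/

set_option autoImplicit false
set_option linter.style.haveILetI false

noncomputable section

namespace CfsgLib.Blk4.RootAvg

open CfsgLib.RootBound Polynomial
open scoped ComplexConjugate

/-- The bound, doubled when the weights add up to a multiple of `p`. -/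
theorem sum_conjugates_ge_two {p : ℕ} (hp : p.Prime) (k : ℕ) {ι : Type*} (s : Finset ι) (w : ι → ℤ)
    (r : ι → ℂ) (hr : ∀ a ∈ s, r a ^ p ^ (k + 1) = 1) (hv : ∑ a ∈ s, (w a : ℂ) * r a ≠ 0) :
    ∃ N : ℤ, (p : ℤ) ^ k * ((p : ℤ) - 1) ≤ N ∧
      ((p : ℤ) ∣ ∑ a ∈ s, w a → 2 * ((p : ℤ) ^ k * ((p : ℤ) - 1)) ≤ N) ∧
      ∑ j ∈ (Finset.range (p ^ (k + 1))).filter (fun j => ¬ p ∣ j),
        (∑ a ∈ s, (w a : ℂ) * r a ^ j) * conj (∑ a ∈ s, (w a : ℂ) * r a ^ j) = (N : ℂ) := by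
  classical
  set R := Polynomial.nthRootsFinset (p ^ (k + 1)) (1 : ℂ) with hR
  set R' := Polynomial.nthRootsFinset (p ^ k) (1 : ℂ) with hR'
  have hq : 0 < p ^ (k + 1) := pow_pos hp.pos _
  have hq' : 0 < p ^ k := pow_pos hp.pos _
  have hr' : ∀ a ∈ s, (r a ^ p) ^ p ^ k = 1 := fun a ha => by
    rw [← pow_mul, ← pow_succ']; exact hr a ha
  have hA := sum_range_mul_conj s w r hq.ne' hr
  have hB := sum_range_mul_conj s w (fun a => r a ^ p) hq'.ne' hr'
  rw [← hR] at hA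
  rw [← hR'] at hB
  have hmul : ∑ j ∈ (Finset.range (p ^ (k + 1))).filter (fun j => p ∣ j),
      (∑ a ∈ s, (w a : ℂ) * r a ^ j) * conj (∑ a ∈ s, (w a : ℂ) * r a ^ j) =
      ∑ j ∈ Finset.range (p ^ k),
        (∑ a ∈ s, (w a : ℂ) * (r a ^ p) ^ j) * conj (∑ a ∈ s, (w a : ℂ) * (r a ^ p) ^ j) := by
    refine Finset.sum_nbij' (fun j => j / p) (fun j => p * j) ?_ ?_ ?_ ?_ ?_
    · intro j hj
      simp only [Finset.mem_filter, Finset.mem_range] at hj ⊢
      exact Nat.div_lt_of_lt_mul (by rw [← pow_succ']; exact hj.1)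
    · intro j hj
      simp only [Finset.mem_filter, Finset.mem_range] at hj ⊢
      exact ⟨by rw [pow_succ']; exact Nat.mul_lt_mul_of_pos_left hj hp.pos, dvd_mul_right _ _⟩
    · intro j hj
      simp only [Finset.mem_filter] at hj
      exact Nat.mul_div_cancel' hj.2
    · intro j _
      exact Nat.mul_div_cancel_left _ hp.pos
    · intro j hj
      simp only [Finset.mem_filter] at hj
      simp only [← pow_mul, Nat.mul_div_cancel' hj.2]
  refine ⟨((p ^ (k + 1) : ℕ) : ℤ) * ∑ μ ∈ R, wt s w r μ ^ 2 -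
    ((p ^ k : ℕ) : ℤ) * ∑ c ∈ R', wt s w (fun a => r a ^ p) c ^ 2, ?_⟩
  rw [← and_assoc]
  refine ⟨?_, ?_⟩
  swap
  · rw [Int.cast_sub, ← hA, ← hB, ← hmul, eq_sub_iff_add_eq, add_comm]
    exact Finset.sum_filter_add_sum_filter_not _ _ _
  -- regroup over the fibres of the `p`-th power
  set F : ℂ → Finset ℂ := fun c => R.filter (fun μ => μ ^ p = c) with hF
  have hmap : ∀ μ ∈ R, μ ^ p ∈ R' := fun μ hμ => by
    rw [hR, Polynomial.mem_nthRootsFinset hq] at hμ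
    rw [hR', Polynomial.mem_nthRootsFinset hq', ← pow_mul, ← pow_succ']
    exact hμ
  have hN : ∀ c, wt s w (fun a => r a ^ p) c = ∑ μ ∈ F c, wt s w r μ := by
    intro c
    simp only [wt]
    rw [← Finset.sum_fiberwise_of_maps_to (t := F c) (g := r) (fun a ha => by
      obtain ⟨has, hac⟩ := Finset.mem_filter.1 ha
      exact Finset.mem_filter.2
        ⟨(Polynomial.mem_nthRootsFinset hq 1).2 (hr a has), hac⟩)]
    refine Finset.sum_congr rfl fun μ hμ => ?_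
    rw [Finset.filter_filter]
    refine Finset.sum_congr (Finset.filter_congr fun a _ => ?_) fun _ _ => rfl
    exact ⟨fun h => h.2, fun h => ⟨by rw [h]; exact (Finset.mem_filter.1 hμ).2, h⟩⟩
  suffices hmain : (p : ℤ) - 1 ≤ ∑ c ∈ R', ((p : ℤ) * ∑ μ ∈ F c, wt s w r μ ^ 2 -
        (∑ μ ∈ F c, wt s w r μ) ^ 2) ∧
      ((p : ℤ) ∣ ∑ a ∈ s, w a → 2 * ((p : ℤ) - 1) ≤ ∑ c ∈ R', ((p : ℤ) * ∑ μ ∈ F c, wt s w r μ ^ 2 -
        (∑ μ ∈ F c, wt s w r μ) ^ 2)) by
    rw [← Finset.sum_fiberwise_of_maps_to hmap, pow_succ, Nat.cast_mul, mul_assoc, ← mul_sub,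
      Nat.cast_pow, Finset.mul_sum, ← Finset.sum_sub_distrib]
    simp only [hN]
    exact ⟨mul_le_mul_of_nonneg_left hmain.1 (by positivity), fun h => by
      rw [mul_left_comm]
      exact mul_le_mul_of_nonneg_left (hmain.2 h) (by positivity)⟩
  have hcard : ∀ c, (F c).card ≤ p := fun c => by
    refine le_trans (Finset.card_le_card (t := (Polynomial.nthRoots p c).toFinset) fun μ hμ => ?_)
      ((Multiset.toFinset_card_le _).trans (Polynomial.card_nthRoots p c))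
    rw [Multiset.mem_toFinset, Polynomial.mem_nthRoots hp.pos]
    exact (Finset.mem_filter.1 hμ).2
  have hnn : ∀ c ∈ R', (0 : ℤ) ≤
      (p : ℤ) * ∑ μ ∈ F c, wt s w r μ ^ 2 - (∑ μ ∈ F c, wt s w r μ) ^ 2 := fun c _ => by
    have h1 : ((F c).card : ℤ) ≤ p := by exact_mod_cast hcard c
    have h2 := sq_sum_le_card_mul_sum_sq (s := F c) (f := wt s w r)
    have h3 := mul_le_mul_of_nonneg_right h1
      (Finset.sum_nonneg (s := F c) fun μ _ => sq_nonneg (wt s w r μ))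
    linarith
  obtain ⟨c, hc, a, ha, b, hb, hne⟩ : ∃ c ∈ R', ∃ a ∈ F c, ∃ b ∈ F c,
      wt s w r a ≠ wt s w r b := by
    by_contra hcon
    push Not at hcon
    apply hv
    have hv' : ∑ a ∈ s, (w a : ℂ) * r a = ∑ μ ∈ R, (wt s w r μ : ℂ) * μ := by
      rw [← Finset.sum_fiberwise_of_maps_to (t := R) (g := r)
        (fun a ha => (Polynomial.mem_nthRootsFinset hq 1).2 (hr a ha))]
      refine Finset.sum_congr rfl fun μ _ => ?_
      rw [wt, Int.cast_sum, Finset.sum_mul]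
      exact Finset.sum_congr rfl fun a ha => by rw [(Finset.mem_filter.1 ha).2]
    rw [hv', ← Finset.sum_fiberwise_of_maps_to hmap]
    refine Finset.sum_eq_zero fun c hc => ?_
    change ∑ μ ∈ F c, (wt s w r μ : ℂ) * μ = 0
    rcases (F c).eq_empty_or_nonempty with h | ⟨a, ha⟩
    · rw [h, Finset.sum_empty]
    rw [Finset.sum_congr rfl fun μ hμ => by rw [hcon c hc μ hμ a ha], ← Finset.mul_sum]
    obtain ⟨ω, hω⟩ : ∃ ω : ℂ, IsPrimitiveRoot ω p :=
      ⟨_, Complex.isPrimitiveRoot_exp p hp.ne_zero⟩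
    have hω0 : ω ≠ 0 := hω.ne_zero hp.ne_zero
    have hstep : ∀ μ ∈ F c, ω * μ ∈ F c := fun μ hμ => by
      obtain ⟨h1, h2⟩ := Finset.mem_filter.1 hμ
      rw [hR, Polynomial.mem_nthRootsFinset hq] at h1
      refine Finset.mem_filter.2 ⟨?_, by rw [mul_pow, hω.pow_eq_one, one_mul, h2]⟩
      rw [hR, Polynomial.mem_nthRootsFinset hq, mul_pow, h1, mul_one, pow_succ', pow_mul,
        hω.pow_eq_one, one_pow]
    have himg : (F c).image (ω * ·) = F c :=
      Finset.eq_of_subset_of_card_le (Finset.image_subset_iff.2 hstep)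
        (Finset.card_image_of_injective _ (mul_right_injective₀ hω0)).ge
    have hs : ω * ∑ μ ∈ F c, μ = ∑ μ ∈ F c, μ := by
      conv_rhs => rw [← himg, Finset.sum_image fun _ _ _ _ h => mul_right_injective₀ hω0 h]
      rw [Finset.mul_sum]
    have h0 : ∑ μ ∈ F c, μ = 0 := by
      have : (ω - 1) * ∑ μ ∈ F c, μ = 0 := by rw [sub_mul, hs, one_mul, sub_self]
      exact (mul_eq_zero.1 this).resolve_left (sub_ne_zero.2 (hω.ne_one hp.one_lt))
    rw [h0, mul_zero]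
  refine ⟨(sub_one_le_of_ne (F c) _ (hcard c) ha hb hne).trans (Finset.single_le_sum hnn hc), fun hdiv => ?_⟩
  -- either two fibres are not constant, or the sum over the one is a multiple of `p`
  by_cases h2 : ∃ c' ∈ R', c' ≠ c ∧ ∃ a' ∈ F c', ∃ b' ∈ F c', wt s w r a' ≠ wt s w r b'
  · obtain ⟨c', hc', hcc, a', ha', b', hb', hne'⟩ := h2
    refine le_trans ?_ (Finset.sum_le_sum_of_subset_of_nonneg
      (Finset.insert_subset hc (Finset.singleton_subset_iff.2 hc')) fun x hx _ => hnn x hx)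
    rw [Finset.sum_pair hcc.symm]
    linarith [sub_one_le_of_ne (F c) _ (hcard c) ha hb hne, sub_one_le_of_ne (F c') _ (hcard c') ha' hb' hne']
  push Not at h2
  have hfull : ∀ x, (F x).Nonempty → (F x).card = p := by
    rintro x ⟨ν, hν⟩
    obtain ⟨h1, h3⟩ := Finset.mem_filter.1 hν
    rw [hR, Polynomial.mem_nthRootsFinset hq] at h1
    obtain ⟨ω, hω⟩ : ∃ ω : ℂ, IsPrimitiveRoot ω p := ⟨_, Complex.isPrimitiveRoot_exp p hp.ne_zero⟩
    have hν0 : ν ≠ 0 := fun h0 => by rw [h0, zero_pow hq.ne'] at h1; exact zero_ne_one h1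
    refine le_antisymm (hcard x) (le_trans (le_of_eq ?_) (Finset.card_le_card
      (s := (Finset.range p).image fun i => ω ^ i * ν) ?_))
    · rw [Finset.card_image_of_injOn, Finset.card_range]
      intro i hi i' hi' h
      exact hω.pow_inj (Finset.mem_range.1 hi) (Finset.mem_range.1 hi') (mul_right_cancel₀ hν0 h)
    · intro y hy
      obtain ⟨i, -, rfl⟩ := Finset.mem_image.1 hy
      have hωp : (ω ^ i) ^ p = 1 := by rw [← pow_mul, mul_comm, pow_mul, hω.pow_eq_one, one_pow]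
      refine Finset.mem_filter.2 ⟨?_, by rw [mul_pow, hωp, one_mul, h3]⟩
      rw [hR, Polynomial.mem_nthRootsFinset hq, mul_pow, h1, mul_one, pow_succ', pow_mul, hωp, one_pow]
  have hS : (p : ℤ) ∣ ∑ μ ∈ F c, wt s w r μ := by
    have htot : ∑ a ∈ s, w a = ∑ x ∈ R', ∑ μ ∈ F x, wt s w r μ := by
      simp only [hF, Finset.sum_fiberwise_of_maps_to hmap, wt]
      exact (Finset.sum_fiberwise_of_maps_to
        (fun a ha => (Polynomial.mem_nthRootsFinset hq 1).2 (hr a ha)) w).symm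
    rw [htot, ← Finset.add_sum_erase _ _ hc] at hdiv
    refine (dvd_add_left (Finset.dvd_sum fun x hx => ?_)).1 hdiv
    obtain ⟨hxc, hx'⟩ := Finset.mem_erase.1 hx
    rcases (F x).eq_empty_or_nonempty with h | ⟨u, hu⟩
    · rw [h, Finset.sum_empty]; exact dvd_zero _
    · rw [Finset.sum_congr rfl fun μ hμ => h2 x hx' hxc μ hμ u hu, Finset.sum_const,
        hfull x ⟨u, hu⟩, nsmul_eq_mul]
      exact dvd_mul_right _ _
  obtain ⟨t, ht⟩ := hS
  set m : ℂ → ℤ := fun μ => wt s w r μ - t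
  have hcc : ((F c).card : ℤ) = p := by exact_mod_cast hfull c ⟨a, ha⟩
  have hm0 : ∑ μ ∈ F c, m μ = 0 := by
    simp only [m, Finset.sum_sub_distrib, Finset.sum_const, nsmul_eq_mul, ht, hcc, sub_self]
  have hm2 : 2 ≤ ∑ μ ∈ F c, m μ ^ 2 := by
    obtain ⟨u, hu, hu0⟩ : ∃ u ∈ F c, m u ≠ 0 := by
      by_contra hcon
      push Not at hcon
      have h1 := hcon a ha
      have h3 := hcon b hb
      simp only [m] at h1 h3
      exact hne (by omega)
    rw [← Finset.add_sum_erase _ _ hu]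
    obtain ⟨v, hv', hv0⟩ : ∃ v ∈ (F c).erase u, m v ≠ 0 := by
      by_contra hcon
      push Not at hcon
      rw [← Finset.add_sum_erase _ _ hu, Finset.sum_eq_zero hcon, add_zero] at hm0
      exact hu0 hm0
    have h1 : 0 < m u ^ 2 := pow_two_pos_of_ne_zero hu0
    have h3 : 0 < m v ^ 2 := pow_two_pos_of_ne_zero hv0
    have h4 := Finset.single_le_sum (f := fun μ => m μ ^ 2) (fun μ _ => sq_nonneg _) hv'
    linarith
  refine le_trans ?_ (Finset.single_le_sum hnn hc)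
  have e : (p : ℤ) * ∑ μ ∈ F c, wt s w r μ ^ 2 - (∑ μ ∈ F c, wt s w r μ) ^ 2 =
      (p : ℤ) * ∑ μ ∈ F c, m μ ^ 2 := by
    simp only [m, sub_sq, Finset.sum_add_distrib, Finset.sum_sub_distrib, Finset.sum_const,
      nsmul_eq_mul, ← Finset.sum_mul, ← Finset.mul_sum, ht, hcc]
    ring
  rw [e]
  have := mul_le_mul_of_nonneg_left hm2 (show (0 : ℤ) ≤ p by positivity)
  linarith

/-- The exponents of the conjugates. -/
def J (p e : ℕ) : Finset ℕ := (Finset.range (p ^ (e + 1))).filter (fun j => ¬ p ∣ j)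

theorem card_J {p : ℕ} (hp : p.Prime) (e : ℕ) : (J p e).card = p ^ e * (p - 1) := by
  rw [← Nat.totient_prime_pow_succ hp e, Nat.totient_eq_card_coprime, J]
  congr 1
  refine Finset.filter_congr fun j _ => ?_
  rw [Nat.coprime_pow_left_iff (Nat.succ_pos e), hp.coprime_iff_not_dvd]

theorem exists_tau {p : ℕ} (hp : p.Prime) (e : ℕ) : ∃ τ : ℂ →ₗ[ℚ] ℂ,
    ∀ μ : ℂ, μ ^ p ^ (e + 1) = 1 → τ μ = ∑ j ∈ J p e, μ ^ j := by
  have hq : 0 < p ^ (e + 1) := pow_pos hp.pos _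
  set ζ := Complex.exp (2 * Real.pi * Complex.I / (p ^ (e + 1) : ℕ))
  have hζ : IsPrimitiveRoot ζ (p ^ (e + 1)) := Complex.isPrimitiveRoot_exp _ hq.ne'
  let ψ : ℚ[X] →ₗ[ℚ] ℂ := ∑ j ∈ J p e, (aeval (ζ ^ j) : ℚ[X] →ₐ[ℚ] ℂ).toLinearMap
  let ev : ℚ[X] →ₗ[ℚ] ℂ := (aeval ζ : ℚ[X] →ₐ[ℚ] ℂ).toLinearMap
  obtain ⟨g, hg⟩ := ev.rangeRestrict.exists_rightInverse_of_surjective ev.range_rangeRestrict
  obtain ⟨g', hg'⟩ := g.exists_extend
  refine ⟨ψ.comp g', fun μ hμ => ?_⟩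
  haveI : NeZero (p ^ (e + 1)) := ⟨hq.ne'⟩
  obtain ⟨i, -, rfl⟩ := hζ.eq_pow_of_pow_eq_one hμ
  have hmem : ζ ^ i ∈ LinearMap.range ev := ⟨X ^ i, by simp [ev]⟩
  have h1 : aeval ζ (g' (ζ ^ i)) = ζ ^ i := by
    have h2 := congrArg Subtype.val (LinearMap.congr_fun hg ⟨_, hmem⟩)
    rw [show g' (ζ ^ i) = g ⟨_, hmem⟩ from LinearMap.congr_fun hg' ⟨_, hmem⟩]
    simpa [ev] using h2
  obtain ⟨R, hR⟩ : minpoly ℚ ζ ∣ g' (ζ ^ i) - X ^ i :=
    minpoly.dvd ℚ ζ (by rw [map_sub, h1, map_pow, aeval_X, sub_self])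
  simp only [LinearMap.comp_apply, ψ, LinearMap.coe_sum, Finset.sum_apply, AlgHom.toLinearMap_apply]
  refine Finset.sum_congr rfl fun j hj => ?_
  have hcop : j.Coprime (p ^ (e + 1)) :=
    Nat.Coprime.pow_right _ ((hp.coprime_iff_not_dvd.2 (Finset.mem_filter.1 hj).2).symm)
  have h0 : aeval (ζ ^ j) (minpoly ℚ ζ) = 0 := by
    rw [← cyclotomic_eq_minpoly_rat hζ hq, cyclotomic_eq_minpoly_rat (hζ.pow_of_coprime j hcop) hq,
      minpoly.aeval]
  rw [eq_add_of_sub_eq hR, map_add, map_mul, h0, zero_mul, zero_add, map_pow, aeval_X,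
    ← pow_mul, ← pow_mul, mul_comm]

variable {p : ℕ}

open Classical in
/-- The functional. -/
def tau (p e : ℕ) : ℂ →ₗ[ℚ] ℂ := if h : p.Prime then (exists_tau h e).choose else 0

theorem tau_root (hp : p.Prime) {e : ℕ} {μ : ℂ} (h : μ ^ p ^ (e + 1) = 1) :
    tau p e μ = ∑ j ∈ J p e, μ ^ j := by
  rw [tau, dif_pos hp]
  exact (exists_tau hp e).choose_spec μ h

theorem tau_intCast_mul (e : ℕ) (c : ℤ) (x : ℂ) : tau p e ((c : ℂ) * x) = (c : ℂ) * tau p e x := by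
  rw [← zsmul_eq_mul, map_zsmul, zsmul_eq_mul]

theorem tau_natCast (hp : p.Prime) (e n : ℕ) :
    tau p e (n : ℂ) = ((n * (p ^ e * (p - 1)) : ℕ) : ℂ) := by
  have h := tau_intCast_mul (p := p) e n 1
  rw [tau_root hp (one_pow _)] at h
  simp only [Int.cast_natCast, mul_one, one_pow, Finset.sum_const, nsmul_eq_mul, card_J hp] at h
  rw [h]; push_cast; rfl

/-- The functional on a squared norm. -/
theorem tau_norm (hp : p.Prime) (e : ℕ) {ι : Type*} (s : Finset ι) (w : ι → ℤ) (r : ι → ℂ)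
    (hr : ∀ a ∈ s, r a ^ p ^ (e + 1) = 1) :
    tau p e ((∑ a ∈ s, (w a : ℂ) * r a) * conj (∑ a ∈ s, (w a : ℂ) * r a)) =
      ∑ j ∈ J p e, (∑ a ∈ s, (w a : ℂ) * r a ^ j) * conj (∑ a ∈ s, (w a : ℂ) * r a ^ j) := by
  simp only [map_sum (starRingEnd ℂ), map_mul, map_intCast, Finset.sum_mul_sum, map_sum (tau p e)]
  rw [Finset.sum_comm (s := J p e)]
  refine Finset.sum_congr rfl fun a ha => ?_
  rw [Finset.sum_comm (s := J p e)]
  refine Finset.sum_congr rfl fun b hb => ?_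
  rw [show (w a : ℂ) * r a * ((w b : ℂ) * conj (r b)) =
      ((w a * w b : ℤ) : ℂ) * (r a * conj (r b)) by push_cast; ring, tau_intCast_mul,
    tau_root hp (by rw [mul_pow, ← map_pow, hr a ha, hr b hb]; simp), Finset.mul_sum]
  refine Finset.sum_congr rfl fun j _ => ?_
  rw [mul_pow, map_pow]; push_cast; ring

/-- Lower bounds for the functional on squared norms. -/
theorem tau_norm_ge (hp : p.Prime) (e : ℕ) {ι : Type*} (s : Finset ι) (w : ι → ℤ) (r : ι → ℂ)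
    (hr : ∀ a ∈ s, r a ^ p ^ (e + 1) = 1) :
    0 ≤ (tau p e ((∑ a ∈ s, (w a : ℂ) * r a) * conj (∑ a ∈ s, (w a : ℂ) * r a))).re ∧
    (∑ a ∈ s, (w a : ℂ) * r a ≠ 0 →
      ((p ^ e * (p - 1) : ℕ) : ℝ) ≤
        (tau p e ((∑ a ∈ s, (w a : ℂ) * r a) * conj (∑ a ∈ s, (w a : ℂ) * r a))).re ∧
      ((p : ℤ) ∣ ∑ a ∈ s, w a → 2 * ((p ^ e * (p - 1) : ℕ) : ℝ) ≤
        (tau p e ((∑ a ∈ s, (w a : ℂ) * r a) * conj (∑ a ∈ s, (w a : ℂ) * r a))).re)) := by
  refine ⟨?_, fun hv => ?_⟩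
  · rw [tau_norm hp e s w r hr, Complex.re_sum]
    exact Finset.sum_nonneg fun j _ => by rw [Complex.mul_conj, Complex.ofReal_re]; exact Complex.normSq_nonneg _
  · obtain ⟨N, h1, h2, h3⟩ := sum_conjugates_ge_two hp e s w r hr hv
    rw [tau_norm hp e s w r hr, J, h3, Complex.intCast_re]
    push_cast [Nat.cast_pred hp.pos]
    exact ⟨by exact_mod_cast h1, fun h => by exact_mod_cast h2 h⟩

end CfsgLib.Blk4.RootAvg
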