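import Cfsg.Agent.Lib.Blk4.SubsectionShape
import Cfsg.Agent.Lib.Blk4.RootAverage
import Cfsg.Agent.Lib.Blk4.BinaryForm

/-!
# Major subsections of rank at most two
-/

set_option autoImplicit false
set_option linter.unusedSectionVars false
set_option linter.style.haveILetI false

noncomputable section

namespace CfsgLib.Blk4.RankTwo

open Cfsg CfsgLib.Characters CfsgLib.Blocks CfsgLib.Contribution CfsgLib.Blk4
open scoped ComplexConjugate

universe u

variable {G : Type u} [Group G] [Fintype G] {p : ℕ} {M : Ideal AlgInt}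

open scoped Classical in
/-- The contributions of a block are `p ^ d` times a projection. -/
theorem contrib_mul [Fintype (ConjClasses G)] (hM : IsPModular p M) {B : Set (IrrCharacter G)}
    (hB : IsPBlock M B) {χ ψ : IrrCharacter G} (hχ : χ ∈ B) :
    ∑ φ ∈ Finset.univ.filter (· ∈ B),
        contrib p (blockDefect p B) χ φ * contrib p (blockDefect p B) φ ψ =
      (p : ℂ) ^ blockDefect p B * contrib p (blockDefect p B) χ ψ := by
  have key : ∀ φ ∈ Finset.univ.filter (· ∈ B),
      contrib p (blockDefect p B) χ φ * contrib p (blockDefect p B) φ ψ =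
        (p : ℂ) ^ blockDefect p B * (Nat.card G : ℂ)⁻¹ *
          ∑ x ∈ Finset.univ.filter (fun x : G => ¬ p ∣ orderOf x),
            (contrib p (blockDefect p B) χ φ * (φ : G → ℂ) x) * conj ((ψ : G → ℂ) x) := by
    intro φ _
    conv_lhs => arg 2; rw [contrib, Contribution.regSum]
    rw [Finset.mul_sum, Finset.mul_sum, Finset.mul_sum]
    exact Finset.sum_congr rfl fun x _ => by ring
  rw [Finset.sum_congr rfl key, ← Finset.mul_sum, Finset.sum_comm, contrib, Contribution.regSum]
  rw [Finset.mul_sum, Finset.mul_sum, Finset.mul_sum]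
  refine Finset.sum_congr rfl fun x hx => ?_
  rw [← Finset.sum_mul, ← expand hM hB hχ x, if_pos (Finset.mem_filter.mp hx).2]
  ring

open scoped Classical in
/-- The trace of the contributions of a block. -/
theorem contrib_trace [Fact p.Prime] (hM : IsPModular p M) {B : Set (IrrCharacter G)}
    (hB : IsPBlock M B) (d : ℕ) :
    ∑ χ ∈ Finset.univ.filter (· ∈ B), contrib p d χ χ = (p : ℂ) ^ d * blockRank p B := by
  have h := CfsgLib.Blk7.card_mul_blockRank hM hB
  have hC : (Nat.card G : ℂ) ≠ 0 := Nat.cast_ne_zero.2 Nat.card_pos.ne'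
  have hpR : ∀ (f : G → ℂ) (g : G), pRegularPart p f g = if p ∣ orderOf g then 0 else f g := by
    intro f g
    by_cases h : p ∣ orderOf g <;> simp [pRegularPart, IsPRegular, h]
  simp only [contrib, Contribution.regSum]
  rw [← Finset.mul_sum, Finset.sum_comm, mul_assoc]
  congr 1
  rw [inv_mul_eq_iff_eq_mul₀ hC, h, Finset.sum_filter]
  refine Finset.sum_congr rfl fun y _ => ?_
  simp only [hpR]
  split_ifs with hy
  · simp
  · rfl

open scoped Classical in
/-- The integral form of the contributions of a block of rank at most two. -/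
theorem exists_form_block [Fintype (ConjClasses G)] [Fact p.Prime] (hM : IsPModular p M) {B : Set (IrrCharacter G)}
    (hB : IsPBlock M B) (hl : blockRank p B ≤ 2) :
    ∃ (A B' D : ℤ) (x y : IrrCharacter G → ℤ), 0 < A ∧ 2 * |B'| ≤ A ∧ A ≤ D ∧
      ∀ ξ ∈ B, ∀ η ∈ B, contrib p (blockDefect p B) ξ η = (BinaryForm.val A B' D x y ξ η : ℂ) := by
  let C : {ξ : IrrCharacter G // ξ ∈ B} → {ξ : IrrCharacter G // ξ ∈ B} → ℤ :=
    fun i j => contribInt p B i j
  have hC : ∀ i j, (C i j : ℂ) = contrib p (blockDefect p B) (i : IrrCharacter G) j :=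
    fun i j => contribInt_cast hM hB _ j.2
  obtain ⟨A, B', D, x, y, h1, h2, h3, h4⟩ := BinaryForm.exists_form C
    (N := (p : ℤ) ^ blockDefect p B) (pow_pos (by exact_mod_cast hM.1.pos) _)
    (fun i j => by
      apply Int.cast_injective (α := ℂ)
      rw [hC, hC]; exact contrib_symm hM hB _ j.2)
    (fun i j => by
      apply Int.cast_injective (α := ℂ)
      push_cast
      simp only [hC]
      rw [← contrib_mul hM hB i.2, ← Finset.sum_subtype (p := (· ∈ B)) (Finset.univ.filter (· ∈ B)) (by simp)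
        (fun k => contrib p (blockDefect p B) (i : IrrCharacter G) k * contrib p (blockDefect p B) k j)])
    (by
      have h : ((∑ i, C i i : ℤ) : ℂ) = (((p : ℤ) ^ blockDefect p B * blockRank p B : ℤ) : ℂ) := by
        push_cast
        simp only [hC]
        rw [← contrib_trace hM hB, ← Finset.sum_subtype (p := (· ∈ B)) (Finset.univ.filter (· ∈ B)) (by simp)
          (fun k => contrib p (blockDefect p B) k k)]
      rw [Int.cast_injective h, mul_comm (2 : ℤ)]
      exact mul_le_mul_of_nonneg_left (by exact_mod_cast hl) (by positivity))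
  refine ⟨A, B', D, fun ξ => if h : ξ ∈ B then x ⟨ξ, h⟩ else 0,
    fun ξ => if h : ξ ∈ B then y ⟨ξ, h⟩ else 0, h1, h2, h3, fun ξ hξ η hη => ?_⟩
  rw [← hC ⟨ξ, hξ⟩ ⟨η, hη⟩, h4]
  simp [BinaryForm.val, hξ, hη]

variable [Fintype (ConjClasses G)]
variable (z : G) [Fintype (Subgroup.centralizer ({z} : Set G))]
  [Fintype (ConjClasses (Subgroup.centralizer ({z} : Set G)))]
  (b : Set (IrrCharacter (Subgroup.centralizer ({z} : Set G)))) {B : Set (IrrCharacter G)}

open scoped Classical in
/-- A coordinate of a character. -/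
def coord (v : IrrCharacter (Subgroup.centralizer ({z} : Set G)) → ℤ) (χ : IrrCharacter G) : ℂ :=
  ∑ ξ ∈ Finset.univ.filter (· ∈ b), (((Major.nm z χ ξ : ℤ) * v ξ : ℤ) : ℂ) * Major.lam z ξ

open scoped Classical in
theorem cz_coord {d : ℕ} {A B' D : ℤ} {x y : IrrCharacter (Subgroup.centralizer ({z} : Set G)) → ℤ}
    (hf : ∀ ξ ∈ b, ∀ η ∈ b, contrib p d ξ η = (BinaryForm.val A B' D x y ξ η : ℂ))
    (χ φ : IrrCharacter G) :
    Major.cz z b p d χ φ = (A : ℂ) * (coord z b x χ * conj (coord z b x φ)) +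
      (B' : ℂ) * (coord z b x χ * conj (coord z b y φ) + coord z b y χ * conj (coord z b x φ)) +
      (D : ℂ) * (coord z b y χ * conj (coord z b y φ)) := by
  simp only [Major.cz_expand, coord, map_sum, Finset.mul_sum, Finset.sum_mul, mul_add,
    ← Finset.sum_add_distrib]
  conv_rhs => rw [Finset.sum_comm]
  refine Finset.sum_congr rfl fun ξ hξ => Finset.sum_congr rfl fun η hη => ?_
  rw [hf ξ (Finset.mem_filter.1 hξ).2 η (Finset.mem_filter.1 hη).2, BinaryForm.val, Major.w, Major.w]
  simp only [map_mul, Complex.conj_natCast, map_intCast]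
  push_cast
  ring

/-- The averaged norm. -/
def T (p e : ℕ) (x : ℂ) : ℝ := (RootAvg.tau p e x).re

theorem T_add (e : ℕ) (x y : ℂ) : T p e (x + y) = T p e x + T p e y := by
  simp [T, map_add]

theorem T_intCast_mul (e : ℕ) (c : ℤ) (x : ℂ) : T p e ((c : ℂ) * x) = (c : ℝ) * T p e x := by
  simp [T, RootAvg.tau_intCast_mul, Complex.mul_re]

open scoped Classical in
theorem coord_bounds (hM : IsPModular p M) {m : ℕ} (hz : orderOf z = p ^ m)
    (v : IrrCharacter (Subgroup.centralizer ({z} : Set G)) → ℤ) (χ : IrrCharacter G) :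
    0 ≤ T p m (coord z b v χ * conj (coord z b v χ)) ∧
      (coord z b v χ ≠ 0 → ((p ^ m * (p - 1) : ℕ) : ℝ) ≤ T p m (coord z b v χ * conj (coord z b v χ)) ∧
        (MemLocalIdeal M (coord z b v χ * conj (coord z b v χ)) →
          2 * ((p ^ m * (p - 1) : ℕ) : ℝ) ≤ T p m (coord z b v χ * conj (coord z b v χ)))) := by
  have hpow : z ^ p ^ m = 1 := hz ▸ pow_orderOf_eq_one z
  have hr : ∀ ξ ∈ Finset.univ.filter (· ∈ b), Major.lam z ξ ^ p ^ (m + 1) = 1 := fun ξ _ => by
    rw [pow_succ, pow_mul, Major.lam_pow z hpow, one_pow]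
  obtain ⟨h0, h1⟩ := RootAvg.tau_norm_ge hM.1 m _ (fun ξ => (Major.nm z χ ξ : ℤ) * v ξ) (Major.lam z) hr
  refine ⟨h0, fun hne => ⟨(h1 hne).1, fun hI => (h1 hne).2 ?_⟩⟩
  set S : ℤ := ∑ ξ ∈ Finset.univ.filter (· ∈ b), (Major.nm z χ ξ : ℤ) * v ξ
  have hc : MemLocalIdeal M (coord z b v χ - (S : ℂ)) ∧ MemLocalIdeal M (conj (coord z b v χ) - (S : ℂ)) := by
    simp only [coord, S, map_sum, map_mul, map_intCast, Int.cast_sum, ← Finset.sum_sub_distrib]
    refine ⟨MemLocalIdeal.sum hM _ fun ξ _ => ?_, MemLocalIdeal.sum hM _ fun ξ _ => ?_⟩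
    all_goals
      rw [← mul_sub_one]
      refine MemLocalIdeal.mul_left hM (intCast_mem (lRing hM) _) ?_
    · exact Major.lam_congr z hM hz ξ
    · exact Major.root_congr hM (n := m) (by rw [← map_pow, Major.lam_pow z hpow, map_one])
  have hSm : MemLocalRing M (S : ℂ) := intCast_mem (lRing hM) _
  have h2 := Major.congr_mul hM hSm
    (by simpa using (lRing hM).add_mem (MemLocalIdeal.memLocalRing hc.2) hSm) hc.1 hc.2
  have h3 : MemLocalIdeal M ((S : ℂ) * (S : ℂ)) := by simpa using MemLocalIdeal.sub hM hI h2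
  exact (memLocalIdeal_intCast_iff hM S).1 ((MemLocalIdeal.mul_cases hM hSm hSm h3).elim id id)

open scoped Classical in
/-- A character seen by one coordinate only. -/
theorem one_coord (hM : IsPModular p M) {m : ℕ} (hz : orderOf z = p ^ m)
    (hind : IsInducedBlock M (Subgroup.centralizer ({z} : Set G)) b B)
    {χ₀ : IrrCharacter G} (hne0 : ∀ φ ∈ B, Major.cz z b p (blockDefect p b) χ₀ φ ≠ 0)
    {v : IrrCharacter (Subgroup.centralizer ({z} : Set G)) → ℤ}
    (hc : ∀ φ, Major.cz z b p (blockDefect p b) χ₀ φ = coord z b v χ₀ * conj (coord z b v φ))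
    (hc' : ∀ φ, Major.cz z b p (blockDefect p b) φ χ₀ = coord z b v φ * conj (coord z b v χ₀))
    (hχ₀ : χ₀ ∈ B) :
    Nat.card B ≤ p ^ blockDefect p b := by
  have h := Major.cz_mul' z b hM hz hind χ₀ χ₀
  simp only [hc, hc'] at h
  have hX : coord z b v χ₀ * conj (coord z b v χ₀) ≠ 0 := hc χ₀ ▸ hne0 χ₀ hχ₀
  have hsum : ∑ φ ∈ Finset.univ.filter (· ∈ B), coord z b v φ * conj (coord z b v φ) =
      ((p ^ blockDefect p b : ℕ) : ℂ) := by
    apply mul_left_cancel₀ hX
    push_cast
    rw [mul_comm _ ((p : ℂ) ^ blockDefect p b), ← h, Finset.mul_sum]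
    exact Finset.sum_congr rfl fun φ _ => by ring
  have hge : ((members B).card : ℝ) * ((p ^ m * (p - 1) : ℕ) : ℝ) ≤
      ∑ φ ∈ members B, T p m (coord z b v φ * conj (coord z b v φ)) := by
    rw [← nsmul_eq_mul]
    refine Finset.card_nsmul_le_sum _ _ _ fun φ hφ => ((coord_bounds z b hM hz v φ).2 ?_).1
    intro h0
    exact hne0 φ (mem_members.1 hφ) (by rw [hc, h0, map_zero, mul_zero])
  have heq : ∑ φ ∈ members B, T p m (coord z b v φ * conj (coord z b v φ)) =
      ((p ^ blockDefect p b : ℕ) : ℝ) * ((p ^ m * (p - 1) : ℕ) : ℝ) := by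
    simp only [T, ← Complex.re_sum, ← map_sum (RootAvg.tau p m), members]
    rw [hsum, RootAvg.tau_natCast hM.1, Complex.natCast_re, Nat.cast_mul]
  rw [heq] at hge
  have hpos : (0 : ℝ) < ((p ^ m * (p - 1) : ℕ) : ℝ) := by
    exact_mod_cast Nat.mul_pos (pow_pos hM.1.pos m) (Nat.sub_pos_of_lt hM.1.one_lt)
  rw [CfsgLib.Contribution.card_members]
  exact_mod_cast le_of_mul_le_mul_right hge hpos

open scoped Classical in
/-- Major subsections of rank at most two. -/
theorem card_le [Fact p.Prime] (hM : IsPModular p M) {m : ℕ} (hz : orderOf z = p ^ m)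
    (hind : IsInducedBlock M (Subgroup.centralizer ({z} : Set G)) b B)
    (hd : blockDefect p b = blockDefect p B) (hl : blockRank p b ≤ 2) :
    Nat.card B ≤ p ^ blockDefect p B := by
  obtain ⟨A, B', D, x, y, hA, hAB, hAD, hf⟩ := exists_form_block hM hind.1 hl
  obtain ⟨χ₀, hχ₀, hr0, hodd, heven⟩ := Major.shape z b hM hz hind hd
  rw [← hd] at hodd heven ⊢
  set d := blockDefect p b with hdb
  set φn : ℝ := ((p ^ m * (p - 1) : ℕ) : ℝ) with hφn
  have hcz := cz_coord z b hf (p := p)
  set X := coord z b x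
  set Y := coord z b y
  by_contra hlt
  have hkey : ∀ χ ∈ members B, 2 * φn ≤ T p m (Major.cz z b p d χ χ) := by
    intro χ hχ
    have hχB := mem_members.1 hχ
    have hdiag : Major.cz z b p d χ χ ≠ 0 := by
      by_cases hh : p ∣ red p B χ
      · obtain ⟨hne, -⟩ := heven χ hχB hh
        intro h0
        apply hne
        have h := Major.cz_mul' z b hM hz hind χ χ
        rw [← hdb, h0, mul_zero] at h
        have hre := congrArg Complex.re h
        rw [Complex.re_sum, Complex.zero_re] at hre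
        have hterm : ∀ φ, (Major.cz z b p d χ φ * Major.cz z b p d φ χ).re =
            Complex.normSq (Major.cz z b p d χ φ) := fun φ => by
          rw [← Major.cz_conj z b d χ φ, Complex.mul_conj, Complex.ofReal_re]
        simp only [hterm] at hre
        exact Complex.normSq_eq_zero.1 ((Finset.sum_eq_zero_iff_of_nonneg
          (fun φ _ => Complex.normSq_nonneg _)).1 hre χ₀ (mem_members.2 hχ₀ : χ₀ ∈ members B))
      · exact (hodd χ hχB hh).2 χ hχB
    have hX0 := coord_bounds z b hM hz x χ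
    have hY0 := coord_bounds z b hM hz y χ
    have hA1 : (1 : ℝ) ≤ A := by exact_mod_cast hA
    -- a single coordinate
    have hone : ∀ v : IrrCharacter (Subgroup.centralizer ({z} : Set G)) → ℤ,
        (∀ φ, Major.cz z b p d χ φ = coord z b v χ * conj (coord z b v φ)) →
        (∀ φ, Major.cz z b p d φ χ = coord z b v φ * conj (coord z b v χ)) →
        2 * φn ≤ T p m (Major.cz z b p d χ χ) := by
      intro v hc hc'
      by_cases hI : MemLocalIdeal M (Major.cz z b p d χ χ)
      · rw [hc]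
        refine ((coord_bounds z b hM hz v χ).2 fun h0 => hdiag ?_).2 (hc χ ▸ hI)
        rw [hc, h0, zero_mul]
      · have hr := ((Major.cz_unit_iff z b hM hz hind hχB hχB).1 hI).1
        exact absurd (one_coord z b hM hz hind (hodd χ hχB hr).2 hc hc' hχB) hlt
    by_cases hX : X χ = 0
    · have hY : Y χ ≠ 0 := fun hY => hdiag (by rw [hcz, hX, hY]; simp)
      rcases le_or_gt 2 D with hD | hD
      · rw [hcz, hX]
        simp only [zero_mul, mul_zero, zero_add, map_zero, T_intCast_mul, add_zero]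
        refine mul_le_mul ?_ (hY0.2 hY).1 (by positivity) ?_
        · exact_mod_cast hD
        · exact_mod_cast (show (0 : ℤ) ≤ D by omega)
      · obtain rfl : D = 1 := by omega
        obtain rfl : A = 1 := by omega
        have hB0 : B' = 0 := by
          have := abs_nonneg B'; exact abs_eq_zero.1 (by omega)
        refine hone y (fun φ => ?_) (fun φ => ?_)
        · rw [hcz, hX, hB0]; simp [Y]
        · rw [hcz, hX, hB0]; simp [Y]
    by_cases hY : Y χ = 0
    · rcases le_or_gt 2 A with hA2 | hA2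
      · rw [hcz, hY]
        simp only [zero_mul, mul_zero, map_zero, T_intCast_mul, add_zero]
        refine mul_le_mul ?_ (hX0.2 hX).1 (by positivity) ?_
        · exact_mod_cast hA2
        · exact_mod_cast (show (0 : ℤ) ≤ A by omega)
      · obtain rfl : A = 1 := by omega
        have hB0 : B' = 0 := by
          have := abs_nonneg B'; exact abs_eq_zero.1 (by omega)
        refine hone x (fun φ => ?_) (fun φ => ?_)
        · rw [hcz, hY, hB0]; simp [X]
        · rw [hcz, hY, hB0]; simp [X]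
    -- both coordinates
    obtain ⟨s, hs, hsB⟩ : ∃ s : ℤ, s * s = 1 ∧ |B'| * s = B' := by
      rcases le_total 0 B' with h | h
      · exact ⟨1, rfl, by rw [mul_one, abs_of_nonneg h]⟩
      · exact ⟨-1, rfl, by rw [abs_of_nonpos h]; ring⟩
    have hW := coord_bounds z b hM hz (fun ξ => x ξ + s * y ξ) χ
    have hWe : coord z b (fun ξ => x ξ + s * y ξ) χ = X χ + (s : ℂ) * Y χ := by
      simp only [X, Y, coord, Finset.mul_sum, ← Finset.sum_add_distrib]
      exact Finset.sum_congr rfl fun ξ _ => by push_cast; ring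
    rw [hWe] at hW
    have hs' : (s : ℂ) * (s : ℂ) = 1 := by exact_mod_cast hs
    have hid : Major.cz z b p d χ χ = (((A - |B'|) : ℤ) : ℂ) * (X χ * conj (X χ)) +
        (((D - |B'|) : ℤ) : ℂ) * (Y χ * conj (Y χ)) +
        ((|B'| : ℤ) : ℂ) * ((X χ + (s : ℂ) * Y χ) * conj (X χ + (s : ℂ) * Y χ)) := by
      have hsB' : ((|B'| : ℤ) : ℂ) * (s : ℂ) = (B' : ℂ) := by exact_mod_cast hsB
      rw [hcz, map_add, map_mul, map_intCast, ← hsB']
      push_cast
      linear_combination (-(((|B'| : ℤ) : ℂ) * (Y χ * conj (Y χ)))) * hs'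
    rw [hid, T_add, T_add, T_intCast_mul, T_intCast_mul, T_intCast_mul]
    have h1 := (hX0.2 hX).1
    have h2 := (hY0.2 hY).1
    have h3 := hW.1
    have hb0 : (0 : ℝ) ≤ ((|B'| : ℤ) : ℝ) := by exact_mod_cast abs_nonneg B'
    have hAb : (0 : ℝ) ≤ ((A - |B'| : ℤ) : ℝ) := by exact_mod_cast (by have := abs_nonneg B'; omega : 0 ≤ A - |B'|)
    have hDb : (0 : ℝ) ≤ ((D - |B'| : ℤ) : ℝ) := by exact_mod_cast (by have := abs_nonneg B'; omega : 0 ≤ D - |B'|)
    have hge2 : (2 : ℝ) ≤ ((A - |B'| : ℤ) : ℝ) + ((D - |B'| : ℤ) : ℝ) := by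
      exact_mod_cast (by have := abs_nonneg B'; omega : (2 : ℤ) ≤ (A - |B'|) + (D - |B'|))
    have hφ0 : (0 : ℝ) ≤ φn := by positivity
    nlinarith [mul_le_mul_of_nonneg_left h1 hAb, mul_le_mul_of_nonneg_left h2 hDb, mul_nonneg hb0 h3,
      mul_le_mul_of_nonneg_right hge2 hφ0]
  have htr : ∑ χ ∈ members B, T p m (Major.cz z b p d χ χ) =
      ((p ^ d * blockRank p b : ℕ) : ℝ) * φn := by
    simp only [T, ← Complex.re_sum, ← map_sum (RootAvg.tau p m), members]
    rw [Major.cz_trace z b hM hz hind d,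
      show (p : ℂ) ^ d * (blockRank p b : ℂ) = ((p ^ d * blockRank p b : ℕ) : ℂ) by push_cast; rfl,
      RootAvg.tau_natCast hM.1, Complex.natCast_re, hφn]
    push_cast; ring
  have hge := Finset.card_nsmul_le_sum _ _ _ hkey
  rw [htr, nsmul_eq_mul] at hge
  have hpos : (0 : ℝ) < φn := by
    rw [hφn]; exact_mod_cast Nat.mul_pos (pow_pos hM.1.pos m) (Nat.sub_pos_of_lt hM.1.one_lt)
  have h4 : ((members B).card : ℝ) * 2 ≤ ((p ^ d * blockRank p b : ℕ) : ℝ) :=
    le_of_mul_le_mul_right (by rw [mul_assoc]; exact hge) hpos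
  have h5 : (members B).card * 2 ≤ p ^ d * blockRank p b := by exact_mod_cast h4
  have h6 := Nat.mul_le_mul_left (p ^ d) hl
  rw [CfsgLib.Contribution.card_members] at hlt
  omega

end CfsgLib.Blk4.RankTwo
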