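import Cfsg.Agent.Lib.Characters.ExtensionUnique
import Cfsg.Agent.Lib.Characters.Equivalence
import Cfsg.Agent.Lib.Characters.LinearTwist

/-!
Determinants from characters, and real twists of extensions of real characters of odd degree.
-/

set_option autoImplicit false
set_option linter.unusedSectionVars false

namespace CfsgLib.Blk4

open Cfsg CfsgLib.Characters CfsgLib.CharExtension
open scoped ComplexConjugate

universe u

variable {G : Type u} [Group G] [Finite G] {d : ℕ}

/-- Representations whose characters are complex conjugate have inverse determinants. -/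
theorem det_mul_det_of_conj (ρ σ : Representation ℂ G (Fin d → ℂ))
    (h : ∀ g, σ.character g = conj (ρ.character g)) (g : G) :
    LinearMap.det (σ g) * LinearMap.det (ρ g) = 1 := by
  set H := Subgroup.zpowers g
  haveI := Fintype.ofFinite G
  let inv' : H →* G :=
    { toFun := fun x => (x : G)⁻¹
      map_one' := by simp
      map_mul' := fun a b => by
        obtain ⟨i, hi⟩ := Subgroup.mem_zpowers_iff.1 a.2
        obtain ⟨j, hj⟩ := Subgroup.mem_zpowers_iff.1 b.2
        rw [Subgroup.coe_mul, mul_inv_rev, ← hi, ← hj]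
        group }
  obtain ⟨φ⟩ := CfsgLib.Characters.nonempty_equiv_of_character_eq (G := H)
    (σ.comp H.subtype : Representation ℂ H (Fin d → ℂ))
    (ρ.comp inv' : Representation ℂ H (Fin d → ℂ)) (funext fun x => by
      show σ.character (x : G) = ρ.character (x : G)⁻¹
      rw [h, CfsgLib.Characters.char_inv_eq_conj])
  have hdet : LinearMap.det (σ g) = LinearMap.det (ρ g⁻¹) := by
    rw [← LinearMap.det_conj (σ g) φ.toLinearEquiv]
    congr 1
    refine LinearMap.ext fun v => ?_
    have h1 := LinearMap.congr_fun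
      (φ.toIntertwiningMap.isIntertwining' ⟨g, Subgroup.mem_zpowers g⟩) (φ.toLinearEquiv.symm v)
    have e : φ.toLinearEquiv (φ.toLinearEquiv.symm v) = v := φ.toLinearEquiv.apply_symm_apply v
    exact h1.trans (congrArg (ρ g⁻¹) e)
  rw [hdet, ← map_mul, ← map_mul, inv_mul_cancel, map_one, map_one]

theorem conj_val_hom (f : G →* ℂˣ) (g : G) : conj ((f g : ℂˣ) : ℂ) = ((f⁻¹ g : ℂˣ) : ℂ) := by
  haveI := Fintype.ofFinite G
  rw [show conj ((f g : ℂˣ) : ℂ) = ((f g⁻¹ : ℂˣ) : ℂ) from
    (irr_apply_inv ⟨_, isIrrCharacter_of_hom f⟩ g).symm, map_inv, MonoidHom.inv_apply]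

/-- If a real irreducible character of odd degree of a normal subgroup extends to `G`, then some
extension becomes real after a twist by a linear character whose square is trivial on `N`. -/
theorem exists_real_twist (N : Subgroup G) [N.Normal] {θ : N → ℂ} (hθ : IsIrrCharacter N θ)
    (hreal : ∀ n : N, conj (θ n) = θ n) (hd : θ 1 = (d : ℂ)) (hodd : Odd d) {η : G → ℂ}
    (hη : IsIrrCharacter G η) (hηn : ∀ n : N, η n = θ n) :
    ∃ ν : G →* ℂˣ, (∀ g, conj (η g * (ν g : ℂ)) = η g * (ν g : ℂ)) ∧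
      ∀ n : N, ν n ^ 2 = 1 := by
  haveI := Fintype.ofFinite G
  obtain ⟨m, ρ, hρ, rfl⟩ := hθ
  haveI := hρ
  have hmd : m = d := by
    rw [Representation.char_one, Module.finrank_fin_fun] at hd; exact_mod_cast hd
  subst hmd
  obtain ⟨s, hs, hsη⟩ := exists_hom_of_char_top N ρ (isCharacter_of_irr hη) hηn
  obtain ⟨t, ht, htη⟩ := exists_hom_of_char_top N ρ (isCharacter_conj (isCharacter_of_irr hη))
    (fun n => by rw [hηn, hreal])
  obtain ⟨μ, hμ, hμN⟩ := exists_twist N ρ hs ht
  let δ : G →* ℂˣ := (Units.map LinearMap.det).comp s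
  obtain ⟨c, hc⟩ := hodd
  have hdet : μ ^ m * (δ * δ) = 1 := by
    refine MonoidHom.ext fun g => Units.ext ?_
    have h1 := det_mul_det_of_conj (repOfUnits s) (repOfUnits t) (fun x => by rw [hsη, htη]) g
    change LinearMap.det ((t g : GLd m) : Module.End ℂ (Fin m → ℂ)) *
      LinearMap.det ((s g : GLd m) : Module.End ℂ (Fin m → ℂ)) = 1 at h1
    rw [hμ g, det_sc_mul, mul_assoc] at h1
    exact h1
  let ν : G →* ℂˣ := δ⁻¹ * (μ ^ c)⁻¹
  have hν : ∀ g, ν g * ν g = μ g := by
    intro g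
    have h0 : μ g ^ (2 * c + 1) * (δ g * δ g) = 1 := by
      rw [← hc]; exact DFunLike.congr_fun hdet g
    show (δ g)⁻¹ * (μ g ^ c)⁻¹ * ((δ g)⁻¹ * (μ g ^ c)⁻¹) = μ g
    calc (δ g)⁻¹ * (μ g ^ c)⁻¹ * ((δ g)⁻¹ * (μ g ^ c)⁻¹)
        = (μ g ^ (2 * c + 1) * (δ g * δ g))⁻¹ * μ g := by
          simp only [pow_succ, two_mul, pow_add, mul_inv]
          simp [mul_comm, mul_left_comm, mul_assoc]
      _ = μ g := by rw [h0, inv_one, one_mul]
  refine ⟨ν, fun g => ?_, fun n => ?_⟩
  · have h1 : conj (η g) = (μ g : ℂ) * η g := by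
      rw [show conj (η g) = (repOfUnits t).character g from (congrFun htη g).symm, ← congrFun hsη g]
      show LinearMap.trace ℂ _ ((t g : GLd m) : Module.End ℂ (Fin m → ℂ)) =
        (μ g : ℂ) * LinearMap.trace ℂ _ ((s g : GLd m) : Module.End ℂ (Fin m → ℂ))
      rw [hμ g, Units.val_mul]
      show LinearMap.trace ℂ _ (algebraMap ℂ (Module.End ℂ (Fin m → ℂ)) (μ g : ℂ) *
        ((s g : GLd m) : Module.End ℂ (Fin m → ℂ))) = _
      rw [Algebra.algebraMap_eq_smul_one, smul_mul_assoc, one_mul, map_smul, smul_eq_mul]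
    rw [map_mul, h1, conj_val_hom]
    have h2 : μ g = ν g * ν g := (hν g).symm
    rw [h2, Units.val_mul, MonoidHom.inv_apply]
    have hne : ((ν g : ℂˣ) : ℂ) ≠ 0 := Units.ne_zero _
    rw [Units.val_inv_eq_inv_val]
    field_simp
  · rw [pow_two, hν, hμN]

end CfsgLib.Blk4
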