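import Cfsg.Agent.Lib.Characters.NormalRes
import Cfsg.Agent.Lib.Characters.Clifford
import Cfsg.Agent.Lib.Characters.Counting
import Cfsg.Agent.Lib.Characters.LinearTwist
import Cfsg.Agent.Lib.Chars17.IrrBasic

/-!
# Real characters of odd degree: kernels and quotients
-/

set_option autoImplicit false
set_option linter.unusedSectionVars false
set_option linter.style.haveILetI false

noncomputable section

namespace CfsgLib.Blk4.RealOdd

open Cfsg CfsgLib.Characters CfsgLib.BrauerPerm CfsgLib.NormalRes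
open CfsgLib.Chars17 (irrKer mem_irrKer)
open scoped ComplexConjugate

universe u

variable {G : Type u} [Group G]

/-- Real of odd degree. -/
def IsRO (χ : IrrCharacter G) : Prop :=
  (∀ g : G, ((χ : G → ℂ) g).im = 0) ∧ Odd (charDegree (χ : G → ℂ))

/-- The number of real irreducible characters of odd degree. -/
def nRO (G : Type u) [Group G] : ℕ := Nat.card {χ : IrrCharacter G // IsRO χ}

/-- All irreducible characters of odd degree are real. -/
def AllReal (G : Type u) [Group G] : Prop :=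
  ∀ χ : IrrCharacter G, Odd (charDegree (χ : G → ℂ)) → ∀ g : G, ((χ : G → ℂ) g).im = 0

section Pullback

variable {B : Type u} [Group B] [Finite G] [Finite B] (f : G →* B) (hf : Function.Surjective f)

/-- Inflation along a surjection. -/
def pull (χ : IrrCharacter B) : IrrCharacter G :=
  ⟨fun g => (χ : B → ℂ) (f g), CfsgLib.Clifford.isIrrCharacter_pullback χ.2 f hf⟩

theorem pull_injective : Function.Injective (pull f hf) := fun a b h =>
  Subtype.ext (funext fun y => by
    obtain ⟨x, rfl⟩ := hf y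
    exact congrFun (congrArg Subtype.val h) x)

theorem charDegree_pull (χ : IrrCharacter B) :
    charDegree (pull f hf χ : G → ℂ) = charDegree (χ : B → ℂ) := by
  simp [charDegree, pull, map_one]

theorem isRO_pull_iff (χ : IrrCharacter B) : IsRO (pull f hf χ) ↔ IsRO χ := by
  unfold IsRO
  rw [charDegree_pull]
  refine and_congr ⟨fun h y => ?_, fun h g => h (f g)⟩ Iff.rfl
  obtain ⟨x, rfl⟩ := hf y
  exact h x

theorem exists_pull_eq {χ : IrrCharacter G} (h : f.ker ≤ irrKer χ) :
    ∃ η : IrrCharacter B, pull f hf η = χ := by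
  obtain ⟨η, hη⟩ := CfsgLib.Chars17.exists_infl_eq f.ker h
  let e : G ⧸ f.ker ≃* B := QuotientGroup.quotientKerEquivOfSurjective f hf
  refine ⟨⟨fun y => (η : G ⧸ f.ker → ℂ) (e.symm y),
    CfsgLib.Clifford.isIrrCharacter_pullback η.2 e.symm.toMonoidHom e.symm.surjective⟩,
    Subtype.ext (funext fun g => ?_)⟩
  show (η : G ⧸ f.ker → ℂ) (e.symm (f g)) = _
  rw [← hη, CfsgLib.Chars17.infl_apply]
  exact congrArg _ (e.symm_apply_apply (g : G ⧸ f.ker))

include hf

theorem nRO_of_surjective (h : ∀ χ : IrrCharacter G, IsRO χ → f.ker ≤ irrKer χ) :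
    nRO G = nRO B := by
  refine (Nat.card_congr (Equiv.ofBijective
    (fun χ : {χ : IrrCharacter B // IsRO χ} =>
      (⟨pull f hf χ.1, (isRO_pull_iff f hf χ.1).2 χ.2⟩ : {χ : IrrCharacter G // IsRO χ}))
    ⟨fun a b he => Subtype.ext (pull_injective f hf (congrArg Subtype.val he)), fun χ => ?_⟩)).symm
  obtain ⟨η, hη⟩ := exists_pull_eq f hf (h χ.1 χ.2)
  exact ⟨⟨η, (isRO_pull_iff f hf η).1 (hη ▸ χ.2)⟩, Subtype.ext hη⟩

theorem allReal_of_surjective (h : AllReal G) : AllReal B := by
  intro χ hd y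
  obtain ⟨x, rfl⟩ := hf y
  exact h (pull f hf χ) (by rwa [charDegree_pull]) x

end Pullback

theorem nRO_congr {B : Type u} [Group B] [Finite G] [Finite B] (e : G ≃* B) : nRO G = nRO B :=
  nRO_of_surjective e.toMonoidHom e.surjective fun χ _ g hg => by
    rw [MonoidHom.mem_ker] at hg
    rw [e.injective (hg.trans (map_one e).symm)]
    exact one_mem _

section Constituent

variable [Finite G] (X : Subgroup G) [X.Normal]

/-- A real constituent of odd degree. -/
theorem exists_real_constituent [Fintype X] {χ : IrrCharacter G} (h : IsRO χ) :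
    ∃ θ : IrrCharacter X, mult X (χ : G → ℂ) θ ≠ 0 ∧ (∀ x, ((θ : X → ℂ) x).im = 0) ∧
      Odd (charDegree (θ : X → ℂ)) := by
  classical
  choose m hm using fun θ : IrrCharacter X => mult_nat X (irr_isCharacter χ) θ
  have hdeg : ∀ θ : IrrCharacter X, (θ : X → ℂ) 1 = (charDegree (θ : X → ℂ) : ℂ) := fun θ =>
    (CfsgLib.Chars17.cast_irrDegree θ).symm
  have hsum : charDegree (χ : G → ℂ) = ∑ θ : IrrCharacter X, m θ * charDegree (θ : X → ℂ) := by
    have h1 := res_eq_sum X (irr_isClassFunction χ) 1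
    rw [Subgroup.coe_one, ← CfsgLib.Chars17.cast_irrDegree χ] at h1
    simp only [hm, hdeg] at h1
    exact_mod_cast h1
  have hinv : ∀ θ : IrrCharacter X, m (conjIrr θ) * charDegree (conjIrr θ : X → ℂ) =
      m θ * charDegree (θ : X → ℂ) := by
    intro θ
    have hd : charDegree (conjIrr θ : X → ℂ) = charDegree (θ : X → ℂ) := by
      unfold charDegree
      rw [conjIrr_apply, Complex.conj_re]
    have hme : mult X (χ : G → ℂ) (conjIrr θ) = mult X (χ : G → ℂ) θ := by
      rw [show mult X (χ : G → ℂ) θ = conj (mult X (χ : G → ℂ) θ) by rw [hm, map_natCast]]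
      unfold mult classInner
      rw [map_mul, map_inv₀, map_natCast, map_sum]
      congr 1
      refine Finset.sum_congr rfl fun x _ => ?_
      rw [map_mul, conjIrr_apply, Complex.conj_eq_iff_im.2 (h.1 x)]
    rw [hm, hm] at hme
    rw [hd, Nat.cast_injective hme]
  by_contra hne
  push Not at hne
  have h2 : ((∑ θ : IrrCharacter X, m θ * charDegree (θ : X → ℂ) : ℕ) : ZMod 2) = 0 := by
    push_cast
    refine Finset.sum_involution (fun θ _ => conjIrr θ) (fun θ _ => ?_) (fun θ _ hθ heq => hθ ?_)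
      (fun θ _ => Finset.mem_univ _) (fun θ _ => ?_)
    · rw [← Nat.cast_mul, ← Nat.cast_mul, hinv, ← Nat.cast_add]
      exact ZMod.natCast_eq_zero_iff_even.2 ⟨_, rfl⟩
    · rw [← Nat.cast_mul]
      refine ZMod.natCast_eq_zero_iff_even.2 ?_
      by_cases hm0 : m θ = 0
      · rw [hm0, zero_mul]; exact Even.zero
      · refine (Nat.not_odd_iff_even.1 fun ho => ?_).mul_left _
        exact hne θ (by rw [hm]; exact Nat.cast_ne_zero.2 hm0) ((conjIrr_eq_self_iff θ).1 heq) ho
    · exact Subtype.ext (funext fun x => by simp)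
  rw [← hsum, ZMod.natCast_eq_zero_iff_even] at h2
  exact Nat.not_even_iff_odd.2 h.2 h2

/-- An element at which all conjugates of a constituent are trivial lies in the kernel. -/
theorem mem_irrKer_of_constituent [Fintype X] {χ : IrrCharacter G} {θ : IrrCharacter X}
    (hθ : mult X (χ : G → ℂ) θ ≠ 0) (x : X)
    (hx : ∀ g : G, CfsgLib.Clifford.conjChar (inferInstance : X.Normal) (θ : X → ℂ) g x = (θ : X → ℂ) 1) :
    (x : G) ∈ irrKer χ := by
  haveI := Fintype.ofFinite G
  rw [mem_irrKer]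
  have h := CfsgLib.Clifford.clifford (inferInstance : X.Normal) χ.2 θ.2 hθ
  have e1 := congrFun h x
  have e2 := congrFun h 1
  simp only [Subgroup.coe_one, Pi.smul_apply, Finset.sum_apply] at e1 e2
  rw [e1, e2]
  congr 1
  refine Finset.sum_congr rfl fun ψ hψ => ?_
  obtain ⟨g, rfl⟩ := (CfsgLib.Clifford.conjOrbit_finite _ _).mem_toFinset.1 hψ
  rw [hx, CfsgLib.Clifford.conjChar_apply_one]

/-- A normal subgroup of odd order lies in the kernel. -/
theorem le_irrKer_of_odd (hodd : Odd (Nat.card X)) {χ : IrrCharacter G} (h : IsRO χ) :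
    X ≤ irrKer χ := by
  haveI := Fintype.ofFinite X
  obtain ⟨θ, hθ, hr, -⟩ := exists_real_constituent X h
  have hp := CfsgLib.Characters.real_irr_eq_one hodd θ hr
  intro x hx
  exact mem_irrKer_of_constituent X hθ ⟨x, hx⟩ fun g => by
    rw [hp, CfsgLib.Clifford.conjChar]
    simp

/-- The squares of a normal `2`-subgroup lie in the kernel. -/
theorem sq_mem_irrKer (hX : IsPGroup 2 X) {χ : IrrCharacter G} (h : IsRO χ) {u : G} (hu : u ∈ X) :
    u * u ∈ irrKer χ := by
  haveI := Fintype.ofFinite X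
  haveI : Fact (Nat.Prime 2) := ⟨Nat.prime_two⟩
  obtain ⟨θ, hθ, hr, hodd⟩ := exists_real_constituent X h
  obtain ⟨n, hn⟩ := IsPGroup.iff_card.1 hX
  have h1 : charDegree (θ : X → ℂ) = 1 := by
    refine Nat.eq_one_of_dvd_coprimes ?_ dvd_rfl (hn ▸ CfsgLib.Chars17.irrDegree_dvd_card θ)
    exact (Nat.coprime_two_right.2 hodd).pow_right n
  obtain ⟨f, hf⟩ := CfsgLib.LinearTwist.exists_hom_of_charDegree_one (irr_isCharacter θ) h1
  have hsq : ∀ y : X, f (y * y) = 1 := by
    intro y
    have e : (θ : X → ℂ) y⁻¹ = (θ : X → ℂ) y := by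
      rw [irr_apply_inv, Complex.conj_eq_iff_im.2 (hr y)]
    simp only [hf] at e
    rw [map_mul]
    conv_lhs => arg 1; rw [← Units.ext e, map_inv]
    rw [inv_mul_cancel]
  exact mem_irrKer_of_constituent X hθ ⟨u * u, X.mul_mem hu hu⟩ fun g => by
    unfold CfsgLib.Clifford.conjChar
    rw [show (⟨g * (u * u) * g⁻¹, _⟩ : X) = ⟨g * u * g⁻¹, Subgroup.Normal.conj_mem ‹_› u hu g⟩ *
      ⟨g * u * g⁻¹, Subgroup.Normal.conj_mem ‹_› u hu g⟩ from Subtype.ext (by
        simp only [Subgroup.coe_mul]; group)]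
    simp only [hf, hsq, map_one]

end Constituent

/-- In a quotient the normalizer of a Sylow subgroup is the image of the normalizer. -/
theorem map_normalizer_sylow [Finite G] {p : ℕ} [Fact p.Prime] (P : Sylow p G) (X : Subgroup G)
    [X.Normal] :
    (Subgroup.normalizer ((P : Subgroup G) : Set G)).map (QuotientGroup.mk' X) =
      Subgroup.normalizer (((P : Subgroup G).map (QuotientGroup.mk' X) : Subgroup (G ⧸ X)) :
        Set (G ⧸ X)) := by
  refine le_antisymm (Subgroup.le_normalizer_map _) fun q hq => ?_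
  obtain ⟨g, rfl⟩ := QuotientGroup.mk'_surjective X q
  set M := (P : Subgroup G) ⊔ X with hM
  have hMc : M = ((P : Subgroup G).map (QuotientGroup.mk' X)).comap (QuotientGroup.mk' X) := by
    rw [Subgroup.comap_map_eq, QuotientGroup.ker_mk']
  have hle : ((g • P : Sylow p G) : Subgroup G) ≤ M := by
    rw [Sylow.coe_subgroup_smul]
    rintro _ ⟨u, hu, rfl⟩
    rw [hMc, Subgroup.mem_comap]
    simpa using
      (Subgroup.mem_normalizer_iff.1 hq (QuotientGroup.mk' X u)).1 (Subgroup.mem_map_of_mem _ hu)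
  obtain ⟨y, hy⟩ := MulAction.exists_smul_eq M (P.subtype le_sup_left) ((g • P).subtype hle)
  have hyg : (y : G) • P = g • P := by
    refine Sylow.subtype_injective (N := M) (hP := ?_) (hQ := hle) ?_
    · rw [Sylow.coe_subgroup_smul]
      rintro _ ⟨u, hu, rfl⟩
      exact M.mul_mem (M.mul_mem y.2 (Subgroup.mem_sup_left hu)) (M.inv_mem y.2)
    · rw [← hy, Sylow.smul_subtype]
      rfl
  have hn : (y : G)⁻¹ * g ∈ Subgroup.normalizer ((P : Subgroup G) : Set G) := by
    refine Sylow.smul_eq_iff_mem_normalizer.1 ?_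
    rw [mul_smul, ← hyg, inv_smul_smul]
  obtain ⟨a, ha, b, hb, hab⟩ := Subgroup.mem_sup_of_normal_right.1 y.2
  refine ⟨a * ((y : G)⁻¹ * g), Subgroup.mul_mem _ (Subgroup.le_normalizer ha) hn, ?_⟩
  have e : (QuotientGroup.mk' X) b = 1 := (QuotientGroup.eq_one_iff b).2 hb
  rw [← hab, map_mul, map_mul, mul_inv_rev, map_mul, map_inv, map_inv, e, inv_one, one_mul,
    mul_inv_cancel_left]

end CfsgLib.Blk4.RealOdd
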