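import Cfsg.Agent.Lib.Blk4.RealOddSolvable
import Cfsg.Agent.S0867
import Mathlib.GroupTheory.FiniteAbelian.Duality

/-!
# Solvable groups whose characters of odd degree are real
-/

set_option autoImplicit false
set_option linter.unusedSectionVars false
set_option linter.style.haveILetI false

noncomputable section

namespace CfsgLib.Blk4.RealOdd

open Cfsg CfsgLib.Characters
open CfsgLib.Chars17 (irrKer mem_irrKer)
open scoped ComplexConjugate commutatorElement

universe u

variable {G : Type u} [Group G] [Finite G]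

theorem good_quotient {P : Sylow 2 G} (h : Good P) (X : Subgroup G) [X.Normal] :
    ∀ Q : Sylow 2 (G ⧸ X), (Q : Subgroup (G ⧸ X)) = (P : Subgroup G).map (QuotientGroup.mk' X) →
      Good Q := by
  haveI : Fact (Nat.Prime 2) := ⟨Nat.prime_two⟩
  intro Q hQ
  refine ⟨fun μ x => ?_, ?_⟩
  · obtain ⟨y, hy⟩ := (MulEquiv.subgroupCongr hQ).symm.surjective.comp
      ((QuotientGroup.mk' X).subgroupMap_surjective (P : Subgroup G)) x
    rw [← hy]
    exact h.1 (μ.comp ((MulEquiv.subgroupCongr hQ).symm.toMonoidHom.comp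
      ((QuotientGroup.mk' X).subgroupMap (P : Subgroup G)))) y
  · rw [hQ, ← map_normalizer_sylow, h.2]

/-- Good passes up from a quotient. -/
theorem good_of_quotient (P : Sylow 2 G) (X : Subgroup G) [X.Normal] (Q : Sylow 2 (G ⧸ X))
    (hQ : (Q : Subgroup (G ⧸ X)) = (P : Subgroup G).map (QuotientGroup.mk' X)) (h : Good Q)
    (hN : ∀ x ∈ Subgroup.normalizer ((P : Subgroup G) : Set G), x ∈ X → x ∈ (P : Subgroup G))
    (hk : ∀ (μ : (P : Subgroup G) →* ℂˣ) (x : (P : Subgroup G)), (x : G) ∈ X → μ x = 1) :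
    Good P := by
  haveI : Fact (Nat.Prime 2) := ⟨Nat.prime_two⟩
  refine ⟨fun μ x => ?_, le_antisymm (fun g hg => ?_) Subgroup.le_normalizer⟩
  · let r : (P : Subgroup G) →* (Q : Subgroup (G ⧸ X)) :=
      (MulEquiv.subgroupCongr hQ).symm.toMonoidHom.comp
        ((QuotientGroup.mk' X).subgroupMap (P : Subgroup G))
    have hr : Function.Surjective r := (MulEquiv.subgroupCongr hQ).symm.surjective.comp
      ((QuotientGroup.mk' X).subgroupMap_surjective (P : Subgroup G))
    have hker : r.ker ≤ μ.ker := fun y hy => by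
      refine hk μ y ((QuotientGroup.eq_one_iff (y : G)).1 ?_)
      exact congrArg Subtype.val (MonoidHom.mem_ker.1 hy)
    have h1 := h.1 (r.liftOfSurjective hr ⟨μ, hker⟩) (r x)
    rwa [MonoidHom.liftOfRightInverse_comp_apply] at h1
  · have h1 : (g : G ⧸ X) ∈ (P : Subgroup G).map (QuotientGroup.mk' X) := by
      have h2 := h.2
      rw [hQ, ← map_normalizer_sylow] at h2
      rw [← h2]
      exact Subgroup.mem_map_of_mem (QuotientGroup.mk' X) hg
    obtain ⟨u, hu, he⟩ := h1
    have hx : u⁻¹ * g ∈ X := QuotientGroup.eq.1 he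
    have := hN _ (Subgroup.mul_mem _ (Subgroup.inv_mem _ (Subgroup.le_normalizer hu)) hg) hx
    simpa using (P : Subgroup G).mul_mem hu this

/-- An extension of a fixed linear character restricted to a Sylow subgroup. -/
theorem sq_eq_one_of_hom {V H : Subgroup G} [V.Normal] (hc : Subgroup.IsComplement' V H)
    (P : Sylow 2 G) (hVP : V ≤ (P : Subgroup G))
    (hP : ∀ (μ : (P : Subgroup G) →* ℂˣ) (x : (P : Subgroup G)), μ x * μ x = 1)
    {f : V →* ℂˣ} (hf : ∀ u ∈ (P : Subgroup G), cj V u f = f) (v : V) : f v * f v = 1 := by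
  have h := hP ((lamExt V hc f).comp (Subgroup.inclusion (fun u hu => hf u hu)))
    ⟨v, hVP v.2⟩
  have e := lamExt_inclusion V hc f v
  rw [MonoidHom.comp_apply] at h
  rw [← e]
  exact h

theorem sylow_eq_top_of_normalizer {P : Sylow 2 G} (h : Good P)
    (htop : Subgroup.normalizer ((P : Subgroup G) : Set G) = ⊤) : (P : Subgroup G) = ⊤ :=
  h.2.symm.trans htop

/-- The easy direction. -/
theorem allReal_of_good (n : ℕ) : ∀ (G : Type u) [Group G] [Finite G], Group.IsSolvable G →
    Nat.card G = n → ∀ P : Sylow 2 G, Good P → AllReal G := by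
  induction n using Nat.strong_induction_on with
  | _ n ih =>
  intro G _ _ hs hn P hg χ hd
  classical
  haveI := hs
  haveI : Fact (Nat.Prime 2) := ⟨Nat.prime_two⟩
  haveI := Fintype.ofFinite G
  by_cases htop : Subgroup.normalizer ((P : Subgroup G) : Set G) = ⊤
  · have hPtop := sylow_eq_top_of_normalizer hg htop
    obtain ⟨k, hk⟩ := IsPGroup.iff_card.1 P.2
    rw [hPtop, Subgroup.card_top] at hk
    have h1 : charDegree (χ : G → ℂ) = 1 :=
      Nat.eq_one_of_dvd_coprimes ((Nat.coprime_two_right.2 hd).pow_right k) dvd_rfl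
        (hk ▸ CfsgLib.Chars17.irrDegree_dvd_card χ)
    obtain ⟨μ, hμ⟩ := CfsgLib.LinearTwist.exists_hom_of_charDegree_one (irr_isCharacter χ) h1
    intro g
    have h2 : (μ g : ℂ) * (μ g : ℂ) = 1 := by
      rw [← Units.val_mul]
      exact (congrArg Units.val (hg.1 (μ.comp (P : Subgroup G).subtype)
        ⟨g, hPtop ▸ Subgroup.mem_top g⟩)).trans Units.val_one
    rw [hμ]
    rcases mul_self_eq_one_iff.1 h2 with h | h <;> simp [h]
  -- a normal subgroup in every kernel
  have hquot : ∀ (X : Subgroup G) [X.Normal], X ≠ ⊥ → X ≤ irrKer χ →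
      ∀ g, ((χ : G → ℂ) g).im = 0 := by
    intro X _ hX hker
    have hA : AllReal (G ⧸ X) := ih _ (hn ▸ card_quotient_lt hX) (G ⧸ X) inferInstance rfl
      (P.mapSurjective (QuotientGroup.mk'_surjective X)) (good_quotient hg X _ rfl)
    obtain ⟨η, rfl⟩ := exists_pull_eq (QuotientGroup.mk' X) (QuotientGroup.mk'_surjective X)
      (χ := χ) (by rwa [QuotientGroup.ker_mk'])
    rw [charDegree_pull] at hd
    exact fun g => hA η hd _
  by_cases hcore : Cfsg.pPrimeCore 2 G = ⊥
  swap
  · set X := Cfsg.pPrimeCore 2 G with hX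
    haveI := Fintype.ofFinite X
    have hodd : Odd (Nat.card X) := Nat.coprime_two_right.1 CfsgLib.PCore.pPrimeCore_coprime
    refine hquot X hcore ?_
    have hC : X ⊓ Subgroup.centralizer ((P : Subgroup G) : Set G) = ⊥ := by
      refine le_bot_iff.1 ?_
      calc X ⊓ Subgroup.centralizer ((P : Subgroup G) : Set G)
          ≤ X ⊓ (P : Subgroup G) := inf_le_inf_left X
            ((Subgroup.centralizer_le_normalizer _).trans hg.2.le)
        _ = ⊥ := by
          rw [inf_comm]
          exact CfsgLib.PCore.inf_eq_bot_of_isPGroup_coprime P.2 (Nat.coprime_two_right.2 hodd)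
    obtain ⟨θ, hm, hfix⟩ := CfsgLib.InvariantOrbit.exists_fixed_constituent (N := X) P.2 χ
      (CfsgLib.Chars17.cast_irrDegree χ).symm
      (fun h => Nat.not_even_iff_odd.2 hd (even_iff_two_dvd.2 h))
    have h1 := CfsgLib.InvariantOrbit.eq_one_of_fixed P.2 hC θ hfix
    intro x hx
    exact mem_irrKer_of_constituent X hm ⟨x, hx⟩ fun g => by
      simp [CfsgLib.Clifford.conjChar, h1]
  set U := Cfsg.pCore 2 G with hUdef
  haveI hUn : U.Normal := inferInstance
  haveI := Fintype.ofFinite U
  have hUp : IsPGroup 2 U := CfsgLib.PCore.pCore_isPGroup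
  by_cases hX0 : ⁅U, U⁆ = ⊥
  swap
  · refine hquot ⁅U, U⁆ hX0 ?_
    obtain ⟨f, hf, -⟩ := exists_fixed_linear (V := U) hUp P χ hd
    refine (Subgroup.commutator_le).2 fun a ha b hb => ?_
    refine mem_irrKer_of_constituent U (θ := ⟨cfun U f, isIrr_cfun U f⟩) hf
      ⟨⁅a, b⁆, Subgroup.commutator_le_left U U (Subgroup.commutator_mem_commutator ha hb)⟩
      fun g => ?_
    rw [show CfsgLib.Clifford.conjChar (inferInstance : U.Normal) (cfun U f) g _ =
      cfun U (cj U g f) _ from congrFun (conjChar_cfun U g f) _]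
    show ((cj U g f ⟨⁅a, b⁆, _⟩ : ℂˣ) : ℂ) = (f 1 : ℂ)
    rw [show (⟨⁅a, b⁆, _⟩ : U) = ⁅(⟨a, ha⟩ : U), ⟨b, hb⟩⁆ from rfl, map_commutatorElement,
      map_one, commutatorElement_eq_one_iff_commute.2 (Commute.all _ _)]
  have hab : ∀ a ∈ U, ∀ b ∈ U, a * b = b * a := fun a ha b hb =>
    (Subgroup.mem_centralizer_iff.1 (Subgroup.commutator_eq_bot_iff_le_centralizer.1 hX0 hb) a ha)
  obtain ⟨V, H, hVn, hVp, hVP, hVne, hc⟩ := exists_split P htop hcore hab
  haveI := hVn
  haveI := Fintype.ofFinite V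
  obtain ⟨f, hf, hfix⟩ := exists_fixed_linear (V := V) hVp P χ hd
  have hsq : ∀ v, f v * f v = 1 := sq_eq_one_of_hom hc P hVP hg.1 hfix
  obtain ⟨ψ, hψ⟩ := exists_indChar_eq V hc hf
  rw [← hψ]
  refine (indChar_real V hc hsq ψ).2 ?_
  obtain ⟨Q, hQ⟩ := exists_sylow_stab hc P hVP hfix
  have hlt : Nat.card (stabH V H f) < n :=
    hn ▸ (Subgroup.card_le_card_group _).trans_lt (card_complement_lt hc hVne)
  refine ih _ hlt (stabH V H f) inferInstance rfl Q ⟨fun μ x => ?_, ?_⟩ ψ ?_
  · have hle : (P : Subgroup G) ≤ cjStab V f := fun u hu => hfix u hu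
    have hmem : ∀ u : (P : Subgroup G),
        projI V hc f (Subgroup.inclusion hle u) ∈ (Q : Subgroup (stabH V H f)) := fun u => by
      rw [hQ]
      exact (mem_iff_proj_mem hc hVP _).1 u.2
    have hx : (((x : stabH V H f) : H) : G) ∈ (P : Subgroup G) := by
      exact (SetLike.ext_iff.1 hQ (x : stabH V H f)).1 x.2
    have h := hg.1 (μ.comp (((projI V hc f).comp (Subgroup.inclusion hle)).codRestrict
      (Q : Subgroup (stabH V H f)) hmem)) ⟨_, hx⟩
    rw [MonoidHom.comp_apply] at h
    have e : ((projI V hc f).comp (Subgroup.inclusion hle)).codRestrict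
        (Q : Subgroup (stabH V H f)) hmem ⟨_, hx⟩ = x := by
      exact Subtype.ext (Subtype.ext (proj_coe V hc ((x : stabH V H f) : H)))
    rwa [e] at h
  · ext x
    rw [hQ, mem_normalizer_stab_iff hc P hVP hfix, hg.2]
    exact Iff.rfl
  · rw [← hψ, charDegree_indChar, Nat.odd_mul] at hd
    exact hd.2

/-- The extension of a fixed character of a normal subgroup of odd order. -/
theorem eq_one_of_allReal (hreal : AllReal G) (P : Sylow 2 G) (X : Subgroup G) [hXn : X.Normal]
    [Fintype X] (hodd : Odd (Nat.card X)) (θ : IrrCharacter X)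
    (hfix : CfsgLib.InvariantOrbit.Fixed X (P : Subgroup G) (θ : X → ℂ)) :
    (θ : X → ℂ) = fun _ => 1 := by
  classical
  haveI : Fact (Nat.Prime 2) := ⟨Nat.prime_two⟩
  haveI := Fintype.ofFinite G
  set M := (P : Subgroup G) ⊔ X with hM
  haveI := Fintype.ofFinite M
  set X' := X.subgroupOf M with hX'
  haveI : X'.Normal := hXn.subgroupOf M
  haveI : Fintype X' := Fintype.ofFinite X'
  let e : X' ≃* X := Subgroup.subgroupOfEquivOfLe le_sup_right
  set θ' : X' → ℂ := fun x => (θ : X → ℂ) (e x) with hθ'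
  have hθ'irr : IsIrrCharacter X' θ' :=
    CfsgLib.Clifford.isIrrCharacter_pullback θ.2 e.toMonoidHom e.surjective
  have hinv : ∀ (g : M) (x : X'), θ' ⟨g * x * g⁻¹, (inferInstance : X'.Normal).conj_mem _ x.2 g⟩ =
      θ' x := by
    intro g x
    obtain ⟨u, hu, v, hv, huv⟩ := Subgroup.mem_sup_of_normal_right.1 g.2
    set a : X := e x with ha
    have e1 : e ⟨g * x * g⁻¹, (inferInstance : X'.Normal).conj_mem _ x.2 g⟩ =
        (⟨u * (((⟨v, hv⟩ : X) * a * (⟨v, hv⟩ : X)⁻¹ : X) : G) * u⁻¹,
          hXn.conj_mem _ ((⟨v, hv⟩ : X) * a * (⟨v, hv⟩ : X)⁻¹).2 u⟩ : X) := by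
      refine Subtype.ext ?_
      show (g : G) * ((x : M) : G) * (g : G)⁻¹ = u * (v * (a : G) * v⁻¹) * u⁻¹
      rw [show ((x : M) : G) = (a : G) from rfl, ← huv]
      group
    show (θ : X → ℂ) (e _) = (θ : X → ℂ) a
    rw [e1, hfix u hu, irr_isClassFunction θ a ⟨v, hv⟩]
  obtain ⟨d, hd0, hd⟩ := irr_exists_degree θ.2
  have hd' : θ' 1 = (d : ℂ) := by rw [hθ']; simp [hd]
  have hcard : Nat.card X' = Nat.card X := Nat.card_congr e.toEquiv
  have hdX : d ∣ Nat.card X := by
    have := CfsgLib.Chars17.irrDegree_dvd_card θ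
    rwa [CfsgLib.LinearTwist.charDegree_eq_of_apply_one hd] at this
  have hod : Cfsg.detOrder θ' ∣ Nat.card X' := by
    obtain ⟨hdc, hd1⟩ := CfsgLib.CharExtension.isCharacter_detChar X' hθ'irr
    obtain ⟨l, hl⟩ := CfsgLib.LinearExt.exists_unitsHom hdc hd1
    unfold Cfsg.detOrder
    rw [hl, CfsgLib.LinearExt.orderOf_coeUnitsFun]
    refine orderOf_dvd_of_pow_eq_one (MonoidHom.ext fun x => ?_)
    rw [MonoidHom.pow_apply, ← map_pow, pow_card_eq_one', map_one, MonoidHom.one_apply]
  have hidx : ∃ k, X'.index = 2 ^ k := by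
    obtain ⟨k, hk⟩ := IsPGroup.iff_card.1 P.2
    have h1 : X'.index ∣ Nat.card (P : Subgroup G) := by
      show X.relIndex ((P : Subgroup G) ⊔ X) ∣ _
      rw [sup_comm, Subgroup.relIndex_sup_left]
      exact Subgroup.relIndex_dvd_card _ _
    rw [hk] at h1
    obtain ⟨j, -, hj⟩ := (Nat.dvd_prime_pow Nat.prime_two).1 h1
    exact ⟨j, hj⟩
  obtain ⟨k, hk⟩ := hidx
  obtain ⟨η, ⟨hη, hηres, -⟩, -⟩ := Cfsg.Agent.S0867.result X' θ' hθ'irr hinv d hd' (by
    rw [hk]
    exact (Nat.Coprime.mul_right ((Nat.coprime_two_left.2 hodd).coprime_dvd_right (hcard ▸ hod))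
      ((Nat.coprime_two_left.2 hodd).coprime_dvd_right hdX)).pow_left k)
  -- a constituent of odd degree of the induced character
  obtain ⟨m, hm, hsum⟩ := CfsgLib.Clifford.exists_mult
    (CfsgLib.Induction.isCharacter_indFun M (isCharacter_of_irr hη))
  have hdeg : ∑ χ : IrrCharacter G, m χ * charDegree (χ : G → ℂ) = M.index * d := by
    have h1 := congrFun hsum 1
    rw [CfsgLib.Induction.indFun_one_apply, show η 1 = θ' 1 from hηres 1, hd'] at h1
    simp only [Finset.sum_apply, Pi.smul_apply, smul_eq_mul,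
      ← CfsgLib.Chars17.cast_irrDegree] at h1
    exact_mod_cast h1.symm
  obtain ⟨χ, hχm, hχd⟩ : ∃ χ : IrrCharacter G, m χ ≠ 0 ∧ Odd (charDegree (χ : G → ℂ)) := by
    by_contra hcon
    push Not at hcon
    have heven : Even (M.index * d) := by
      rw [← hdeg]
      refine Finset.even_sum _ fun χ _ => ?_
      by_cases h0 : m χ = 0
      · rw [h0, zero_mul]; exact Even.zero
      · exact (Nat.not_odd_iff_even.1 (hcon χ h0)).mul_left _
    rcases Nat.even_mul.1 heven with h | h
    · exact P.not_dvd_index ((even_iff_two_dvd.1 h).trans (Subgroup.index_dvd_of_le le_sup_left))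
    · exact Nat.not_even_iff_odd.2 (hodd.of_dvd_nat hdX) h
  have hker := le_irrKer_of_odd X hodd (χ := χ) ⟨hreal χ hχd, hχd⟩
  have h1 : classInner (fun x : M => (χ : G → ℂ) x) η ≠ 0 := by
    rw [classInner_conj_symm, ← CfsgLib.Induction.classInner_indFun M η (irr_isClassFunction χ),
      hm, map_natCast]
    exact Nat.cast_ne_zero.2 hχm
  have h2 := CfsgLib.Clifford.classInner_ne_zero_of_constituent
    (CfsgLib.Clifford.isCharacter_subtype (irr_isCharacter χ) M) hη (H := X') hθ'irr h1 (by
      rw [show (fun x : X' => η x) = θ' from funext hηres, classInner_irr_self hθ'irr]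
      exact one_ne_zero)
  by_contra hne
  refine h2 ?_
  have hne' : (fun _ : X' => (1 : ℂ)) ≠ θ' := by
    intro h
    refine hne (funext fun x => ?_)
    obtain ⟨y, rfl⟩ := e.surjective x
    exact (congrFun h y).symm
  rw [show (fun x : X' => ((χ : G → ℂ) ((x : M) : G))) =
    ((χ : G → ℂ) 1) • (fun _ : X' => (1 : ℂ)) from funext fun x => by
      rw [Pi.smul_apply, smul_eq_mul, mul_one]
      exact hker x.2, classInner_smul_left,
    classInner_irr_ne isIrrCharacter_one hθ'irr hne', mul_zero]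

/-- The converse direction. -/
theorem good_of_allReal (n : ℕ) : ∀ (G : Type u) [Group G] [Finite G], Group.IsSolvable G →
    Nat.card G = n → ∀ P : Sylow 2 G, AllReal G → Good P := by
  induction n using Nat.strong_induction_on with
  | _ n ih =>
  intro G _ _ hs hn P hA
  classical
  haveI := hs
  haveI : Fact (Nat.Prime 2) := ⟨Nat.prime_two⟩
  haveI := Fintype.ofFinite G
  have hquot : ∀ (X : Subgroup G) [X.Normal], X ≠ ⊥ →
      (∀ x ∈ Subgroup.normalizer ((P : Subgroup G) : Set G), x ∈ X → x ∈ (P : Subgroup G)) →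
      (∀ (μ : (P : Subgroup G) →* ℂˣ) (x : (P : Subgroup G)), (x : G) ∈ X → μ x = 1) → Good P := by
    intro X _ hX h1 h2
    exact good_of_quotient P X (P.mapSurjective (QuotientGroup.mk'_surjective X)) rfl
      (ih _ (hn ▸ card_quotient_lt hX) (G ⧸ X) inferInstance rfl _
        (allReal_of_surjective _ (QuotientGroup.mk'_surjective X) hA)) h1 h2
  by_cases hcore : Cfsg.pPrimeCore 2 G = ⊥
  swap
  · set X := Cfsg.pPrimeCore 2 G with hX
    haveI := Fintype.ofFinite X
    have hodd : Odd (Nat.card X) := Nat.coprime_two_right.1 CfsgLib.PCore.pPrimeCore_coprime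
    have hXP : (P : Subgroup G) ⊓ X = ⊥ :=
      CfsgLib.PCore.inf_eq_bot_of_isPGroup_coprime P.2 (Nat.coprime_two_right.2 hodd)
    have hC := CfsgLib.InvariantOrbit.centralizer_eq_bot_of_fixed (N := X) P.2
      (fun θ hθ => eq_one_of_allReal hA P X hodd θ hθ)
    refine hquot X hcore (fun x hxN hx => ?_) (fun μ x hx => ?_)
    · have hxc : x ∈ Subgroup.centralizer ((P : Subgroup G) : Set G) := by
        refine Subgroup.mem_centralizer_iff.2 fun u hu => ?_
        have h1 : x * u * x⁻¹ * u⁻¹ ∈ (P : Subgroup G) ⊓ X := by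
          refine ⟨(P : Subgroup G).mul_mem ((Subgroup.mem_normalizer_iff.1 hxN u).1 hu)
            ((P : Subgroup G).inv_mem hu), ?_⟩
          rw [show x * u * x⁻¹ * u⁻¹ = x * (u * x⁻¹ * u⁻¹) by group]
          exact mul_mem hx ((inferInstance : X.Normal).conj_mem _ (inv_mem hx) u)
        rw [hXP, Subgroup.mem_bot, mul_inv_eq_one, mul_inv_eq_iff_eq_mul] at h1
        exact h1.symm
      have : x ∈ X ⊓ Subgroup.centralizer ((P : Subgroup G) : Set G) := ⟨hx, hxc⟩
      rw [hC, Subgroup.mem_bot] at this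
      rw [this]; exact one_mem _
    · have : (x : G) ∈ (P : Subgroup G) ⊓ X := ⟨x.2, hx⟩
      rw [hXP, Subgroup.mem_bot] at this
      rw [show x = 1 from Subtype.ext this, map_one]
  by_cases htop : Subgroup.normalizer ((P : Subgroup G) : Set G) = ⊤
  · -- the Sylow subgroup is normal and self-centralizing modulo nothing
    haveI : (P : Subgroup G).Normal := Subgroup.normalizer_eq_top_iff.1 htop
    have hPtop : (P : Subgroup G) = ⊤ := by
      by_contra hne
      haveI : Nontrivial (G ⧸ (P : Subgroup G)) := QuotientGroup.nontrivial_iff.2 hne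
      haveI := Fintype.ofFinite (G ⧸ (P : Subgroup G))
      have hoddq : Odd (Nat.card (G ⧸ (P : Subgroup G))) :=
        Nat.not_even_iff_odd.1 fun h => P.not_dvd_index
          (by rw [Subgroup.index_eq_card]; exact even_iff_two_dvd.1 h)
      have hall : ∀ η : IrrCharacter (G ⧸ (P : Subgroup G)),
          (η : G ⧸ (P : Subgroup G) → ℂ) = fun _ => 1 := by
        intro η
        have hA' := allReal_of_surjective _ (QuotientGroup.mk'_surjective (P : Subgroup G)) hA
        have hp := CfsgLib.Characters.real_irr_eq_one hoddq η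
          (hA' η (hoddq.of_dvd_nat (CfsgLib.Chars17.irrDegree_dvd_card η)))
        rw [hp]
        exact funext fun x => principalIrr_apply x
      obtain ⟨x, hx⟩ := exists_ne (1 : G ⧸ (P : Subgroup G))
      exact hx (CfsgLib.Chars17.eq_one_of_forall_irr fun η => by rw [hall η])
    refine ⟨fun μ x => ?_, htop.trans hPtop.symm⟩
    let μG : G →* ℂˣ := μ.comp ((MonoidHom.id G).codRestrict (P : Subgroup G)
      fun g => hPtop ▸ Subgroup.mem_top g)
    have hodd : Odd (charDegree (fun g => (μG g : ℂ))) := by simp [charDegree]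
    have h := hA ⟨_, isIrrCharacter_of_hom μG⟩ hodd (x : G)
    have e : (μG (x : G)⁻¹ : ℂ) = (μG (x : G) : ℂ) := by
      have h' := irr_apply_inv ⟨_, isIrrCharacter_of_hom μG⟩ (x : G)
      rw [Complex.conj_eq_iff_im.2 h] at h'
      exact h'
    have e' := Units.ext e
    rw [map_inv] at e'
    have e2 : μG (x : G) = μ x := congrArg μ (Subtype.ext rfl)
    rw [← e2]
    conv_lhs => arg 1; rw [← e']
    rw [inv_mul_cancel]
  set U := Cfsg.pCore 2 G with hUdef
  haveI hUn : U.Normal := inferInstance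
  have hUP : U ≤ (P : Subgroup G) := CfsgLib.PCore.pCore_le_sylow P
  by_cases hX0 : ⁅U, U⁆ = ⊥
  swap
  · have hle : ⁅U, U⁆ ≤ ⁅(P : Subgroup G), (P : Subgroup G)⁆ := Subgroup.commutator_mono hUP hUP
    refine hquot ⁅U, U⁆ hX0 (fun x _ hx => hUP (Subgroup.commutator_le_left U U hx)) (fun μ x hx => ?_)
    have hx' := hle hx
    rw [← Subgroup.map_subtype_commutator] at hx'
    obtain ⟨y, hy, he⟩ := hx'
    rw [← Subtype.ext he]
    exact (Abelianization.commutator_subset_ker μ hy : y ∈ μ.ker)
  have hab : ∀ a ∈ U, ∀ b ∈ U, a * b = b * a := fun a ha b hb =>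
    (Subgroup.mem_centralizer_iff.1 (Subgroup.commutator_eq_bot_iff_le_centralizer.1 hX0 hb) a ha)
  obtain ⟨V, H, hVn, hVp, hVP, hVne, hc⟩ := exists_split P htop hcore hab
  haveI := hVn
  haveI := Fintype.ofFinite V
  have hPH : ¬ 2 ∣ ((P : Subgroup G).subgroupOf H).index := by
    rw [← Subgroup.index_comap_of_surjective ((P : Subgroup G).subgroupOf H) (proj_surjective V hc)]
    have e : ((P : Subgroup G).subgroupOf H).comap (proj V hc) = (P : Subgroup G) := by
      ext g; exact (mem_iff_proj_mem hc hVP g).symm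
    rw [e]
    exact P.not_dvd_index
  let Q : Sylow 2 H := IsPGroup.toSylow (P := (P : Subgroup G).subgroupOf H) P.2.comap_subtype hPH
  have hQ : (Q : Subgroup H) = (P : Subgroup G).subgroupOf H := IsPGroup.toSylow_coe _ _
  have hgH : Good Q := ih _ (hn ▸ card_complement_lt hc hVne) H inferInstance rfl Q
    (allReal_of_surjective _ (proj_surjective V hc) hA)
  have hNP : Subgroup.normalizer ((P : Subgroup G) : Set G) = (P : Subgroup G) := by
    refine le_antisymm (fun g hg => ?_) Subgroup.le_normalizer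
    have hp : (proj V hc g : G) ∈ Subgroup.normalizer ((P : Subgroup G) : Set G) :=
      (mem_iff_proj_mem hc (hVP.trans Subgroup.le_normalizer) g).1 hg
    have hmem : proj V hc g ∈ Subgroup.normalizer ((Q : Subgroup H) : Set H) := by
      rw [Subgroup.mem_normalizer_iff]
      intro y
      rw [hQ]
      exact Subgroup.mem_normalizer_iff.1 hp (y : G)
    rw [hgH.2, hQ] at hmem
    exact (mem_iff_proj_mem hc hVP g).2 hmem
  refine ⟨fun μ x => ?_, hNP⟩
  -- the part on `V`
  set f : V →* ℂˣ := μ.comp (Subgroup.inclusion hVP) with hf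
  have hfix : ∀ u ∈ (P : Subgroup G), cj V u f = f := by
    intro u hu
    ext v
    rw [cj_apply, hf, MonoidHom.comp_apply, MonoidHom.comp_apply,
      show Subgroup.inclusion hVP ⟨u * (v : G) * u⁻¹, _⟩ = (⟨u, hu⟩ : (P : Subgroup G)) *
        Subgroup.inclusion hVP v * (⟨u, hu⟩ : (P : Subgroup G))⁻¹ from Subtype.ext rfl,
      map_mul, map_mul, map_inv, mul_comm (μ ⟨u, hu⟩), mul_assoc, mul_inv_cancel, mul_one]
  have hfsq : ∀ v, f v * f v = 1 := by
    haveI := Fintype.ofFinite (stabH V H f)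
    set χ := indChar V hc f (principalIrr _) with hχ
    have hodd : Odd (charDegree (χ : G → ℂ)) := by
      rw [hχ, charDegree_indChar, Nat.odd_mul]
      refine ⟨odd_index_cjStab P hfix, ?_⟩
      rw [CfsgLib.LinearTwist.charDegree_eq_of_apply_one
        (n := 1) (by rw [principalIrr_apply, Nat.cast_one])]
      exact odd_one
    have hover : Over V χ f := over_indChar V hc f _
    have hreal := hA χ hodd
    have hinvover : Over V χ f⁻¹ := by
      intro h0
      refine hover ?_
      have h1 := congrArg conj h0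
      rw [map_zero] at h1
      rw [← h1]
      unfold classInner
      rw [map_mul, map_inv₀, map_natCast, map_sum]
      congr 1
      refine Finset.sum_congr rfl fun v _ => ?_
      rw [map_mul, Complex.conj_eq_iff_im.2 (hreal _), Complex.conj_conj]
      congr 1
      rw [cfun, cfun, MonoidHom.inv_apply]
      refine (irr_apply_inv ⟨cfun V f, isIrr_cfun V f⟩ v).symm.trans ?_
      exact congrArg Units.val (map_inv f v)
    obtain ⟨g, hg⟩ := exists_cj_of_over V hover hinvover
    obtain ⟨m, hm, hm'⟩ := exists_normalizer_cj V P hfix (fun u hu => by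
      refine MonoidHom.ext fun v => ?_
      rw [cj_apply, MonoidHom.inv_apply, MonoidHom.inv_apply]
      exact congrArg _ (DFunLike.congr_fun (hfix u hu) v)) hg
    rw [hNP] at hm
    rw [hfix m hm] at hm'
    intro v
    have := DFunLike.congr_fun hm' v
    rw [MonoidHom.inv_apply] at this
    conv_lhs => arg 1; rw [this]
    rw [inv_mul_cancel]
  -- the part on the complement
  let ι : (Q : Subgroup H) →* (P : Subgroup G) :=
    (H.subtype.comp (Q : Subgroup H).subtype).codRestrict _ fun y => by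
      have := y.2
      simp only [hQ] at this
      exact this
  have hy : proj V hc (x : G) ∈ (Q : Subgroup H) := by
    rw [hQ]
    exact (mem_iff_proj_mem hc hVP _).1 x.2
  have hdec : x = Subgroup.inclusion hVP ⟨_, mul_proj_inv_mem V hc (x : G)⟩ * ι ⟨_, hy⟩ :=
    Subtype.ext (inv_mul_cancel_right (x : G) _).symm
  have h1 := hgH.1 (μ.comp ι) ⟨_, hy⟩
  have h2 := hfsq ⟨_, mul_proj_inv_mem V hc (x : G)⟩
  rw [MonoidHom.comp_apply] at h1
  rw [hf, MonoidHom.comp_apply] at h2
  rw [hdec, map_mul, mul_mul_mul_comm, h2, h1, one_mul]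

theorem allReal_iff_good [Group.IsSolvable G] (P : Sylow 2 G) : AllReal G ↔ Good P :=
  ⟨fun h => good_of_allReal _ G inferInstance rfl P h,
    fun h => allReal_of_good _ G inferInstance rfl P h⟩

/-- The condition on the linear characters is the one on the Frattini subgroup. -/
theorem commutator_eq_frattini_iff (P : Sylow 2 G) :
    commutator (P : Subgroup G) = frattini (P : Subgroup G) ↔
      ∀ (μ : (P : Subgroup G) →* ℂˣ) (x : (P : Subgroup G)), μ x * μ x = 1 := by
  haveI : Fact (Nat.Prime 2) := ⟨Nat.prime_two⟩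
  constructor
  · intro h μ x
    have hx : x ^ 2 ∈ commutator (P : Subgroup G) := h ▸ CfsgLib.PGroup.pow_mem_frattini P.2 x
    rw [← map_mul, ← sq]
    exact Abelianization.commutator_subset_ker μ hx
  · intro h
    refine le_antisymm (CfsgLib.PGroup.commutator_le_frattini P.2)
      (CfsgLib.PGroup.frattini_le_of (p := 2) _ le_rfl fun x => ?_)
    by_contra hx
    have hx' : (Abelianization.of x : Abelianization (P : Subgroup G)) ^ 2 ≠ 1 := by
      rw [← map_pow]
      exact fun h' => hx ((QuotientGroup.eq_one_iff _).1 h')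
    obtain ⟨φ, hφ⟩ := CommGroup.exists_apply_ne_one_of_hasEnoughRootsOfUnity
      (Abelianization (P : Subgroup G)) ℂ hx'
    refine hφ ?_
    rw [map_pow, sq]
    exact h (φ.comp Abelianization.of) x

end CfsgLib.Blk4.RealOdd
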