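import Cfsg.Agent.Lib.Blk4.RealOddSplit
import Cfsg.Agent.Lib.Solvable.MinNormal
import Cfsg.Agent.Lib.PCore.Basic
import Cfsg.Agent.Lib.PGroup.Frattini

/-!
# Real characters of odd degree in solvable groups
-/

set_option autoImplicit false
set_option linter.unusedSectionVars false
set_option linter.style.haveILetI false

noncomputable section

namespace CfsgLib.Blk4.RealOdd

open Cfsg CfsgLib.Characters
open CfsgLib.Chars17 (irrKer mem_irrKer)
open scoped ComplexConjugate commutatorElement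

universe u

variable {G : Type u} [Group G] [Finite G]

section Fixed

variable {V : Subgroup G} [V.Normal] [Fintype V]

/-- An irreducible character of odd degree lies over a fixed linear character. -/
theorem exists_fixed_linear (hV : IsPGroup 2 V) (P : Sylow 2 G) (χ : IrrCharacter G)
    (hodd : Odd (charDegree (χ : G → ℂ))) :
    ∃ f : V →* ℂˣ, Over V χ f ∧ ∀ u ∈ (P : Subgroup G), cj V u f = f := by
  haveI := Fintype.ofFinite G
  haveI : Fact (Nat.Prime 2) := ⟨Nat.prime_two⟩
  obtain ⟨θ, hm, hfix⟩ := CfsgLib.InvariantOrbit.exists_fixed_constituent (N := V) P.2 χ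
    (CfsgLib.Chars17.cast_irrDegree χ).symm (fun h => Nat.not_even_iff_odd.2 hodd (even_iff_two_dvd.2 h))
  have hdvd : charDegree (θ : V → ℂ) ∣ charDegree (χ : G → ℂ) := by
    have h := CfsgLib.Clifford.clifford_degree (inferInstance : V.Normal) χ.2 θ.2 hm
    obtain ⟨m, hm'⟩ := CfsgLib.NormalRes.mult_nat V (irr_isCharacter χ) θ
    rw [show classInner (fun n : V => (χ : G → ℂ) n) (θ : V → ℂ) = (m : ℂ) from hm',
      ← CfsgLib.Chars17.cast_irrDegree, ← CfsgLib.Chars17.cast_irrDegree θ] at h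
    exact ⟨m * (CfsgLib.Clifford.inertia (inferInstance : V.Normal) (θ : V → ℂ)).index,
      (show charDegree (χ : G → ℂ) = _ from by exact_mod_cast h).trans (mul_comm _ _)⟩
  obtain ⟨n, hn⟩ := IsPGroup.iff_card.1 hV
  have h1 : charDegree (θ : V → ℂ) = 1 :=
    Nat.eq_one_of_dvd_coprimes ((Nat.coprime_two_right.2 (hodd.of_dvd_nat hdvd)).pow_right n)
      dvd_rfl (hn ▸ CfsgLib.Chars17.irrDegree_dvd_card θ)
  obtain ⟨f, hf⟩ := CfsgLib.LinearTwist.exists_hom_of_charDegree_one (irr_isCharacter θ) h1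
  refine ⟨f, ?_, fun u hu => cfun_injective V (funext fun v => ?_)⟩
  · show classInner _ (fun v : V => (f v : ℂ)) ≠ 0
    rw [← hf]
    exact hm
  · have h := hfix u hu v
    rw [hf] at h
    show (cj V u f v : ℂ) = _
    rw [cj_apply]
    exact h

/-- A linear constituent of a real character of odd degree has square one. -/
theorem sq_eq_one_of_over (hV : IsPGroup 2 V) {χ : IrrCharacter G} (h : IsRO χ) {f : V →* ℂˣ}
    (hf : Over V χ f) (v : V) : f v * f v = 1 := by
  haveI := Fintype.ofFinite G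
  have hk := sq_mem_irrKer V hV h v.2
  obtain ⟨θ, hm, hr, hodd⟩ := exists_real_constituent V h
  haveI : Fact (Nat.Prime 2) := ⟨Nat.prime_two⟩
  obtain ⟨n, hn⟩ := IsPGroup.iff_card.1 hV
  have h1 : charDegree (θ : V → ℂ) = 1 :=
    Nat.eq_one_of_dvd_coprimes ((Nat.coprime_two_right.2 hodd).pow_right n)
      dvd_rfl (hn ▸ CfsgLib.Chars17.irrDegree_dvd_card θ)
  obtain ⟨f₀, hf₀⟩ := CfsgLib.LinearTwist.exists_hom_of_charDegree_one (irr_isCharacter θ) h1
  have h0 : Over V χ f₀ := by
    show classInner _ (fun v : V => (f₀ v : ℂ)) ≠ 0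
    rw [← hf₀]
    exact hm
  obtain ⟨g, rfl⟩ := exists_cj_of_over V h0 hf
  have key : ∀ w : V, f₀ w * f₀ w = 1 := by
    intro w
    have e : (θ : V → ℂ) w⁻¹ = (θ : V → ℂ) w := by
      rw [irr_apply_inv, Complex.conj_eq_iff_im.2 (hr w)]
    simp only [hf₀] at e
    conv_lhs => arg 1; rw [← Units.ext e, map_inv]
    rw [inv_mul_cancel]
  rw [cj_apply]
  exact key _

end Fixed

theorem odd_index_cjStab {V : Subgroup G} [V.Normal] (P : Sylow 2 G) {f : V →* ℂˣ}
    (hf : ∀ u ∈ (P : Subgroup G), cj V u f = f) : Odd (cjStab V f).index := by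
  haveI : Fact (Nat.Prime 2) := ⟨Nat.prime_two⟩
  refine Nat.not_even_iff_odd.1 fun h => P.not_dvd_index ((even_iff_two_dvd.1 h).trans ?_)
  exact Subgroup.index_dvd_of_le fun u hu => hf u hu

section Formula

variable (V : Subgroup G) [V.Normal] (P : Sylow 2 G)

/-- Fixed linear characters of square one. -/
abbrev Lam : Type u :=
  {f : V →* ℂˣ // (∀ v, f v * f v = 1) ∧ ∀ u ∈ (P : Subgroup G), cj V u f = f}

instance lamSetoid : Setoid (Lam V P) where
  r a b := ∃ g : G, cj V g a.1 = b.1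
  iseqv :=
    { refl := fun a => ⟨1, cj_one V a.1⟩
      symm := fun {a b} ⟨g, h⟩ => ⟨g⁻¹, by rw [← h, cj_cj, mul_inv_cancel, cj_one]⟩
      trans := fun {a b c} ⟨g, h⟩ ⟨g', h'⟩ => ⟨g * g', by rw [← h', ← h, cj_cj]⟩ }

instance : Finite (Lam V P) := Subtype.finite

variable {H : Subgroup G} (hc : Subgroup.IsComplement' V H)

include hc in
theorem nRO_eq_sum [Fintype (Quotient (lamSetoid V P))] (hV : IsPGroup 2 V)
    (rep : Quotient (lamSetoid V P) → Lam V P) (hrep : ∀ c, Quotient.mk _ (rep c) = c) :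
    nRO G = ∑ c, nRO (stabH V H (rep c).1) := by
  classical
  haveI := Fintype.ofFinite G
  haveI := Fintype.ofFinite V
  have hro : ∀ (c : Quotient (lamSetoid V P)) (ψ : IrrCharacter (stabH V H (rep c).1)),
      IsRO (indChar V hc (rep c).1 ψ) ↔ IsRO ψ := by
    intro c ψ
    refine and_congr (indChar_real V hc (rep c).2.1 ψ) ?_
    rw [charDegree_indChar, Nat.odd_mul]
    exact ⟨fun h => h.2, fun h => ⟨odd_index_cjStab P (rep c).2.2, h⟩⟩
  simp only [nRO]
  rw [← Nat.card_sigma]
  refine (Nat.card_congr (Equiv.ofBijective (fun x : (c : Quotient (lamSetoid V P)) ×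
      {ψ : IrrCharacter (stabH V H (rep c).1) // IsRO ψ} =>
    (⟨indChar V hc (rep x.1).1 x.2.1, (hro x.1 x.2.1).2 x.2.2⟩ : {χ : IrrCharacter G // IsRO χ}))
    ⟨?_, ?_⟩)).symm
  · rintro ⟨c, ψ, hψ⟩ ⟨c', ψ', hψ'⟩ h
    have he : indChar V hc (rep c).1 ψ = indChar V hc (rep c').1 ψ' := congrArg Subtype.val h
    obtain rfl : c = c' := by
      rw [← hrep c, ← hrep c']
      exact Quotient.sound (exists_cj_of_over V (over_indChar V hc _ ψ) (he ▸ over_indChar V hc _ ψ'))
    obtain rfl := indChar_injective V hc _ he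
    rfl
  · rintro ⟨χ, hχ⟩
    obtain ⟨f, hf, hfix⟩ := exists_fixed_linear hV P χ hχ.2
    set a : Lam V P := ⟨f, sq_eq_one_of_over hV hχ hf, hfix⟩ with ha
    obtain ⟨g, hg⟩ : ∃ g : G, cj V g a.1 = (rep (Quotient.mk _ a)).1 :=
      Quotient.exact (hrep (Quotient.mk _ a)).symm
    obtain ⟨ψ, hψ⟩ := exists_indChar_eq V hc (hg ▸ over_cj V hf g :
      Over V χ (rep (Quotient.mk _ a)).1)
    exact ⟨⟨Quotient.mk _ a, ψ, (hro _ ψ).1 (hψ ▸ hχ)⟩, Subtype.ext hψ⟩

end Formula

section Complement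

variable {V H : Subgroup G} [V.Normal] (hc : Subgroup.IsComplement' V H)

theorem mem_iff_proj_mem {L : Subgroup G} (hVL : V ≤ L) (g : G) :
    g ∈ L ↔ (proj V hc g : G) ∈ L := by
  have h := hVL (mul_proj_inv_mem V hc g)
  constructor
  · intro hg
    have := L.mul_mem (L.inv_mem h) hg
    simpa using this
  · intro hg
    have := L.mul_mem h hg
    simpa using this

include hc in
theorem card_complement_lt (hne : V ≠ ⊥) : Nat.card H < Nat.card G := by
  rw [← hc.card_mul_card]
  exact lt_mul_of_one_lt_left Nat.card_pos ((Subgroup.one_lt_card_iff_ne_bot V).2 hne)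

include hc in
/-- The Sylow subgroup of a stabilizer in the complement. -/
theorem exists_sylow_stab (P : Sylow 2 G) (hVP : V ≤ (P : Subgroup G)) {f : V →* ℂˣ}
    (hf : ∀ u ∈ (P : Subgroup G), cj V u f = f) :
    ∃ Q : Sylow 2 (stabH V H f),
      ((Q : Subgroup (stabH V H f))) =
        ((P : Subgroup G).subgroupOf H).subgroupOf (stabH V H f) := by
  haveI : Fact (Nat.Prime 2) := ⟨Nat.prime_two⟩
  have hle : (P : Subgroup G).subgroupOf H ≤ stabH V H f := fun h hh => hf _ hh
  have hp : IsPGroup 2 (((P : Subgroup G).subgroupOf H).subgroupOf (stabH V H f)) :=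
    (P.2.comap_subtype).comap_subtype
  have hidx : ¬ 2 ∣ (((P : Subgroup G).subgroupOf H).subgroupOf (stabH V H f)).index := by
    intro h
    refine P.not_dvd_index ?_
    have e : ((P : Subgroup G).subgroupOf H).index = (P : Subgroup G).index := by
      rw [← Subgroup.index_comap_of_surjective ((P : Subgroup G).subgroupOf H) (proj_surjective V hc)]
      congr 1
      ext g
      exact (mem_iff_proj_mem hc hVP g).symm
    rw [← e, ← Subgroup.relIndex_mul_index hle]
    exact dvd_mul_of_dvd_left h _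
  exact ⟨hp.toSylow hidx, IsPGroup.toSylow_coe _ _⟩

include hc in
theorem mem_normalizer_stab_iff (P : Sylow 2 G) (hVP : V ≤ (P : Subgroup G)) {f : V →* ℂˣ}
    (hf : ∀ u ∈ (P : Subgroup G), cj V u f = f) (x : stabH V H f) :
    x ∈ Subgroup.normalizer
        ((((P : Subgroup G).subgroupOf H).subgroupOf (stabH V H f) : Subgroup _) : Set _) ↔
      ((x : H) : G) ∈ Subgroup.normalizer ((P : Subgroup G) : Set G) := by
  set g := ((x : H) : G) with hg
  constructor
  · intro hx
    rw [Subgroup.mem_normalizer_iff]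
    intro y
    have hcj : proj V hc (g * y * g⁻¹) = (x : H) * proj V hc y * (x : H)⁻¹ := by
      rw [map_mul, map_mul, map_inv, hg, proj_coe]
    rw [mem_iff_proj_mem hc hVP y, mem_iff_proj_mem hc hVP (g * y * g⁻¹), hcj]
    by_cases hy : proj V hc y ∈ stabH V H f
    · exact (Subgroup.mem_normalizer_iff.1 hx ⟨_, hy⟩)
    · refine ⟨fun h => absurd (hf _ h) hy, fun h => absurd ?_ hy⟩
      have h2 : (x : H) * proj V hc y * (x : H)⁻¹ ∈ stabH V H f := hf _ h
      have h3 := (stabH V H f).mul_mem ((stabH V H f).mul_mem ((stabH V H f).inv_mem x.2) h2) x.2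
      simpa [mul_assoc] using h3
  · intro hx
    rw [Subgroup.mem_normalizer_iff]
    intro y
    exact Subgroup.mem_normalizer_iff.1 hx (((y : stabH V H f) : H) : G)

end Complement

/-- A splitting when there is no normal subgroup of odd order. -/
theorem exists_split [Group.IsSolvable G] (P : Sylow 2 G)
    (hP : Subgroup.normalizer ((P : Subgroup G) : Set G) ≠ ⊤) (hcore : Cfsg.pPrimeCore 2 G = ⊥)
    (hab : ∀ a ∈ Cfsg.pCore 2 G, ∀ b ∈ Cfsg.pCore 2 G, a * b = b * a) :
    ∃ V H : Subgroup G, V.Normal ∧ IsPGroup 2 V ∧ V ≤ (P : Subgroup G) ∧ V ≠ ⊥ ∧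
      Subgroup.IsComplement' V H := by
  classical
  haveI : Fact (Nat.Prime 2) := ⟨Nat.prime_two⟩
  set U := Cfsg.pCore 2 G with hU
  have hUP : U ≤ (P : Subgroup G) := CfsgLib.PCore.pCore_le_sylow P
  have hUp : IsPGroup 2 U := CfsgLib.PCore.pCore_isPGroup
  haveI hUn : U.Normal := inferInstance
  haveI : Nontrivial (G ⧸ U) := by
    refine QuotientGroup.nontrivial_iff.2 fun h => hP ?_
    have hPtop : (P : Subgroup G) = ⊤ := top_le_iff.1 (h.ge.trans hUP)
    rw [hPtop, Subgroup.normalizer_eq_top]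
  obtain ⟨Kb, hKb⟩ := CfsgLib.MinNormal.exists_isMinNormal (G := G ⧸ U)
  haveI := hKb.1
  obtain ⟨q, hq, -, hqK, r, hr0, hqr⟩ := hKb.exists_prime_elementaryAbelian hKb.isMulCommutative
  haveI := Fact.mk hq
  have hq2 : q ≠ 2 := by
    rintro rfl
    have h := CfsgLib.PCore.le_pCore hKb.1 hqK
    exact hKb.2.1 (le_bot_iff.1 (h.trans CfsgLib.PCore.pCore_quotient_pCore.le))
  set K := Kb.comap (QuotientGroup.mk' U) with hK
  haveI hKn : K.Normal := hKb.1.comap _
  have hUK : U ≤ K := fun x hx => by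
    show (x : G ⧸ U) ∈ Kb
    rw [(QuotientGroup.eq_one_iff x).2 hx]
    exact one_mem _
  obtain ⟨Q₀⟩ : Nonempty (Sylow q K) := inferInstance
  set Q := (Q₀ : Subgroup K).map K.subtype with hQ
  have hQK : Q ≤ K := Subgroup.map_subtype_le _
  have hQp : IsPGroup q Q := Q₀.2.map _
  obtain ⟨n, hn⟩ := IsPGroup.iff_card.1 hQp
  have hQodd : Odd (Nat.card Q) := hn ▸ (hq.odd_of_ne_two hq2).pow
  obtain ⟨m, hm⟩ := IsPGroup.iff_card.1 hUp
  have hKcard : Nat.card K = 2 ^ m * q ^ r := by
    rw [hK, CfsgLib.PCore.card_comap_mk' U Kb, hm, hqr]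
  have hKQ : Nat.card Q = q ^ r := by
    rw [hQ, Subgroup.card_map_of_injective K.subtype_injective, Sylow.card_eq_multiplicity, hKcard,
      Nat.factorization_mul (by positivity) (pow_ne_zero _ hq.ne_zero)]
    simp [Nat.Prime.factorization_pow, hq, Nat.prime_two, Finsupp.single_apply, Ne.symm hq2]
  have hdisj : U ⊓ Q = ⊥ := CfsgLib.PCore.inf_eq_bot_of_isPGroup_coprime hUp
    (Nat.coprime_two_right.2 hQodd)
  have hKeq : U ⊔ Q = K := by
    refine Subgroup.eq_of_le_of_card_ge (sup_le hUK hQK) ?_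
    rw [hKcard, ← hm, ← hKQ]
    exact Nat.le_of_dvd Nat.card_pos (Nat.Coprime.mul_dvd_of_dvd_of_dvd
      (by rw [hm, hKQ]; exact ((Nat.coprime_primes Nat.prime_two hq).2 (Ne.symm hq2)).pow m r)
      (Subgroup.card_dvd_of_le le_sup_left) (Subgroup.card_dvd_of_le le_sup_right))
  set N := Subgroup.normalizer (Q : Set G) with hN
  have hfr : N ⊔ U = ⊤ := by
    rw [eq_top_iff, ← Sylow.normalizer_sup_eq_top Q₀, sup_le_iff]
    refine ⟨le_sup_left, ?_⟩
    rw [← hKeq]
    exact sup_le le_sup_right (Subgroup.le_normalizer.trans le_sup_left)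
  haveI := Fintype.ofFinite Q
  -- the norm map
  letI : CommGroup U := { (inferInstance : Group U) with
    mul_comm := fun a b => Subtype.ext (hab a a.2 b b.2) }
  let π : U →* U :=
    { toFun := fun u => ∏ x : Q, MulAut.conjNormal (x : G) u
      map_one' := Finset.prod_eq_one fun x _ => map_one _
      map_mul' := fun a b => by simp only [map_mul, Finset.prod_mul_distrib] }
  have hπfix : ∀ (y : Q) (u : U), MulAut.conjNormal (y : G) (π u) = π u := by
    intro y u
    show MulAut.conjNormal (y : G) (∏ x : Q, MulAut.conjNormal (x : G) u) = _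
    rw [map_prod]
    refine Fintype.prod_equiv (Equiv.mulLeft y) _ _ fun x => ?_
    show _ = MulAut.conjNormal (((y * x : Q) : G)) u
    rw [Subgroup.coe_mul, map_mul]
    rfl
  have hπc : ∀ u : U, (∀ x : Q, MulAut.conjNormal (x : G) u = u) → π u = u ^ Nat.card Q := by
    intro u hu
    show ∏ x : Q, MulAut.conjNormal (x : G) u = _
    rw [Finset.prod_congr rfl fun x _ => hu x, Finset.prod_const, Finset.card_univ,
      Nat.card_eq_fintype_card]
  have hcop : (Nat.card U).Coprime (Nat.card Q) := by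
    rw [hm]
    exact ((Nat.coprime_two_left).2 hQodd).pow_left m
  have hπN : ∀ g ∈ N, ∀ u : U, π (MulAut.conjNormal g u) = MulAut.conjNormal g (π u) := by
    intro g hg u
    show ∏ x : Q, MulAut.conjNormal (x : G) (MulAut.conjNormal g u) =
      MulAut.conjNormal g (∏ x : Q, MulAut.conjNormal (x : G) u)
    rw [map_prod]
    refine Fintype.prod_bijective (fun x : Q => (⟨g⁻¹ * x * g, by
      simpa using (Subgroup.mem_normalizer_iff.1 (N.inv_mem hg) (x : G)).1 x.2⟩ : Q)) ?_ _ _ fun x => ?_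
    · refine (Finite.injective_iff_bijective).1 fun a b hab' => Subtype.ext ?_
      have := congrArg Subtype.val hab'
      simpa using this
    · rw [← MulAut.mul_apply, ← map_mul, ← MulAut.mul_apply, ← map_mul]
      congr 2
      group
  set V := π.ker.map U.subtype with hVdef
  have hVU : V ≤ U := Subgroup.map_subtype_le _
  have hVn : V.Normal := by
    rw [← Subgroup.normalizer_eq_top_iff, eq_top_iff, ← hfr, sup_le_iff]
    have key : ∀ g : G, (∀ u : U, u ∈ π.ker → MulAut.conjNormal g u ∈ π.ker) →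
        ∀ x ∈ V, g * x * g⁻¹ ∈ V := by
      rintro g hg _ ⟨u, hu, rfl⟩
      exact ⟨_, hg u hu, by simp⟩
    have key2 : ∀ L : Subgroup G, (∀ g ∈ L, ∀ x ∈ V, g * x * g⁻¹ ∈ V) →
        L ≤ Subgroup.normalizer (V : Set G) := by
      intro L hL g hg
      rw [Subgroup.mem_normalizer_iff]
      refine fun x => ⟨hL g hg x, fun hx => ?_⟩
      have := hL g⁻¹ (L.inv_mem hg) _ hx
      simpa [mul_assoc] using this
    refine ⟨key2 N fun g hg => key g fun u hu => ?_, key2 U fun g hg => key g fun u hu => ?_⟩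
    · rw [MonoidHom.mem_ker] at hu ⊢
      rw [hπN g hg, hu, map_one]
    · have : MulAut.conjNormal g u = u := Subtype.ext (by
        rw [MulAut.conjNormal_apply, hab g hg u u.2, mul_inv_cancel_right])
      rwa [this]
  have hNc : ∀ u : U, (u : G) ∈ N → ∀ x : Q, MulAut.conjNormal (x : G) u = u := by
    intro u hu x
    have h1 : (x : G) * u * (x : G)⁻¹ * (u : G)⁻¹ ∈ U ⊓ Q := by
      refine ⟨U.mul_mem (hUn.conj_mem _ u.2 _) (U.inv_mem u.2), ?_⟩
      rw [show (x : G) * u * (x : G)⁻¹ * (u : G)⁻¹ = x * (u * (x : G)⁻¹ * (u : G)⁻¹) by group]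
      exact Q.mul_mem x.2 ((Subgroup.mem_normalizer_iff.1 hu _).1 (Q.inv_mem x.2))
    rw [hdisj, Subgroup.mem_bot, mul_inv_eq_one] at h1
    exact Subtype.ext (by rw [MulAut.conjNormal_apply]; exact h1)
  have hcN : ∀ u : U, (∀ x : Q, MulAut.conjNormal (x : G) u = u) → (u : G) ∈ N := by
    intro u hu
    rw [hN, Subgroup.mem_normalizer_iff]
    have h1 : ∀ y ∈ Q, (u : G) * y * (u : G)⁻¹ = y := fun y hy => by
      have e := congrArg Subtype.val (hu ⟨y, hy⟩)
      rw [MulAut.conjNormal_apply] at e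
      change y * (u : G) * y⁻¹ = u at e
      rw [mul_inv_eq_iff_eq_mul] at e ⊢
      exact e.symm
    intro y
    refine ⟨fun hy => (h1 y hy).symm ▸ hy, fun hy => ?_⟩
    have := h1 _ hy
    have e : y = (u : G) * y * (u : G)⁻¹ :=
      mul_left_cancel (a := (u : G)) (mul_right_cancel (b := (u : G)⁻¹) this.symm)
    rw [e]
    exact hy
  refine ⟨V, N, hVn, hUp.to_le hVU, hVU.trans hUP, ?_, ?_⟩
  · intro hV
    have hker : π.ker = ⊥ := (Subgroup.map_eq_bot_iff_of_injective _ U.subtype_injective).1 hV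
    have hall : ∀ u : U, ∀ x : Q, MulAut.conjNormal (x : G) u = u := by
      intro u x
      obtain ⟨v, rfl⟩ := (Finite.injective_iff_surjective).1
        ((MonoidHom.ker_eq_bot_iff π).1 hker) u
      exact hπfix x v
    have hNtop : N = ⊤ := by
      rw [← hfr, eq_comm, sup_eq_left]
      exact fun u hu => hcN ⟨u, hu⟩ (hall ⟨u, hu⟩)
    haveI : Q.Normal := Subgroup.normalizer_eq_top_iff.1 hNtop
    have hQb : Q = ⊥ := le_bot_iff.1 (hcore ▸ CfsgLib.PCore.le_pPrimeCore (p := 2) ‹_›
      (Nat.coprime_two_right.2 hQodd))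
    rw [hQb, Subgroup.card_bot] at hKQ
    exact absurd hKQ.symm (Nat.one_lt_pow hr0.ne' hq.one_lt).ne'
  · haveI := hVn
    refine Subgroup.isComplement'_of_disjoint_and_mul_eq_univ ?_ ?_
    · rw [Subgroup.disjoint_def]
      rintro _ ⟨u, hu, rfl⟩ huN
      have h1 : π u = u ^ Nat.card Q := hπc u (hNc u huN)
      rw [MonoidHom.mem_ker.1 hu] at h1
      have h2 : u = 1 := (powCoprime hcop).injective (by
        show u ^ Nat.card Q = (1 : U) ^ Nat.card Q
        rw [← h1, one_pow])
      rw [h2]; rfl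
    · rw [← Subgroup.normal_mul, ← Subgroup.coe_top]
      congr 1
      rw [eq_top_iff, ← hfr, sup_le_iff]
      refine ⟨le_sup_right, fun x hx => ?_⟩
      set u : U := ⟨x, hx⟩
      obtain ⟨c, hc⟩ := (powCoprime hcop).surjective (π u)
      have hcfix : ∀ y : Q, MulAut.conjNormal (y : G) c = c := fun y =>
        (powCoprime hcop).injective (by
          show MulAut.conjNormal (y : G) c ^ Nat.card Q = c ^ Nat.card Q
          rw [← map_pow]
          exact (congrArg _ hc).trans ((hπfix y u).trans hc.symm))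
      have hv : u * c⁻¹ ∈ π.ker := by
        rw [MonoidHom.mem_ker, map_mul, map_inv, hπc c hcfix]
        exact mul_inv_eq_one.2 hc.symm
      rw [show x = ((u * c⁻¹ : U) : G) * (c : G) by simp [u]]
      exact Subgroup.mul_mem _ (Subgroup.mem_sup_left ⟨_, hv, rfl⟩)
        (Subgroup.mem_sup_right (hcN c hcfix))

/-- Both conditions on the Sylow subgroup. -/
def Good (P : Sylow 2 G) : Prop :=
  (∀ (μ : (P : Subgroup G) →* ℂˣ) (x : (P : Subgroup G)), μ x * μ x = 1) ∧
    Subgroup.normalizer ((P : Subgroup G) : Set G) = (P : Subgroup G)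

theorem card_quotient_lt {X : Subgroup G} (hX : X ≠ ⊥) : Nat.card (G ⧸ X) < Nat.card G := by
  rw [← X.card_mul_index, Subgroup.index_eq_card]
  exact lt_mul_of_one_lt_left Nat.card_pos ((Subgroup.one_lt_card_iff_ne_bot X).2 hX)

/-- Reduction of the count to a quotient. -/
theorem nRO_eq_of_quotient (P : Sylow 2 G) (X : Subgroup G) [X.Normal]
    (hG : ∀ χ : IrrCharacter G, IsRO χ → X ≤ irrKer χ)
    (hN : ∀ χ : IrrCharacter (Subgroup.normalizer ((P : Subgroup G) : Set G)), IsRO χ →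
      X.subgroupOf (Subgroup.normalizer ((P : Subgroup G) : Set G)) ≤ irrKer χ)
    (hq : ∀ Q : Sylow 2 (G ⧸ X),
      nRO (G ⧸ X) = nRO (Subgroup.normalizer ((Q : Subgroup (G ⧸ X)) : Set (G ⧸ X)))) :
    nRO G = nRO (Subgroup.normalizer ((P : Subgroup G) : Set G)) := by
  haveI : Fact (Nat.Prime 2) := ⟨Nat.prime_two⟩
  set N := Subgroup.normalizer ((P : Subgroup G) : Set G) with hNdef
  rw [nRO_of_surjective (QuotientGroup.mk' X) (QuotientGroup.mk'_surjective X)
    (fun χ hχ => by rw [QuotientGroup.ker_mk']; exact hG χ hχ),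
    hq (P.mapSurjective (QuotientGroup.mk'_surjective X)),
    nRO_of_surjective ((QuotientGroup.mk' X).subgroupMap N)
      ((QuotientGroup.mk' X).subgroupMap_surjective N) (fun χ hχ => ?_)]
  · exact (nRO_congr (MulEquiv.subgroupCongr (map_normalizer_sylow P X))).symm
  · intro x hx
    refine hN χ hχ ?_
    exact (QuotientGroup.eq_one_iff (x : G)).1 (congrArg Subtype.val hx)

theorem mem_irrKer_closure {B : Type u} [Group B] [Finite B] (f : B →* G)
    (hf : Function.Injective f) (S : Set G) (hS : S ⊆ f.range) {χ : IrrCharacter B}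
    (h : ∀ x : B, f x ∈ S → x ∈ irrKer χ) :
    (Subgroup.closure S).comap f ≤ irrKer χ := by
  intro x hx
  have hle : Subgroup.closure S ≤ (irrKer χ).map f := (Subgroup.closure_le _).2 fun y hy => by
    obtain ⟨b, rfl⟩ := hS hy
    exact Subgroup.mem_map_of_mem f (h b hy)
  obtain ⟨b, hb, he⟩ := hle hx
  exact hf he ▸ hb

/-- The count of real characters of odd degree. -/
theorem nRO_eq (n : ℕ) : ∀ (G : Type u) [Group G] [Finite G], Group.IsSolvable G → Nat.card G = n →
    ∀ P : Sylow 2 G, nRO G = nRO (Subgroup.normalizer ((P : Subgroup G) : Set G)) := by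
  induction n using Nat.strong_induction_on with
  | _ n ih =>
  intro G _ _ hs hn P
  classical
  haveI := hs
  haveI : Fact (Nat.Prime 2) := ⟨Nat.prime_two⟩
  set N := Subgroup.normalizer ((P : Subgroup G) : Set G) with hNdef
  by_cases htop : N = ⊤
  · exact (nRO_congr ((MulEquiv.subgroupCongr htop).trans Subgroup.topEquiv)).symm
  by_cases hcore : Cfsg.pPrimeCore 2 G = ⊥
  swap
  · have hodd : Odd (Nat.card (Cfsg.pPrimeCore 2 G)) :=
      Nat.coprime_two_right.1 CfsgLib.PCore.pPrimeCore_coprime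
    refine nRO_eq_of_quotient P _ (fun χ hχ => le_irrKer_of_odd _ hodd hχ) (fun χ hχ => ?_)
      (fun Q => ih _ (hn ▸ card_quotient_lt hcore) _ inferInstance rfl Q)
    exact le_irrKer_of_odd _ (hodd.of_dvd_nat (Subgroup.card_comap_dvd_of_injective _ N.subtype
      N.subtype_injective)) hχ
  set U := Cfsg.pCore 2 G with hUdef
  haveI hUn : U.Normal := inferInstance
  have hUp : IsPGroup 2 U := CfsgLib.PCore.pCore_isPGroup
  have hUP : U ≤ (P : Subgroup G) := CfsgLib.PCore.pCore_le_sylow P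
  set S : Set G := {y | ∃ u ∈ U, y = u * u} with hS
  set X := Subgroup.closure S with hX
  haveI hXn : X.Normal := by
    refine ⟨fun x hx g => ?_⟩
    have hle : X ≤ X.comap (MulAut.conj g).toMonoidHom := (Subgroup.closure_le _).2 fun y hy => by
      obtain ⟨u, hu, rfl⟩ := hy
      refine Subgroup.subset_closure ⟨g * u * g⁻¹, hUn.conj_mem u hu g, ?_⟩
      simp [MulAut.conj_apply, mul_assoc]
    exact hle hx
  by_cases hX0 : X = ⊥
  swap
  · have hUN : U ≤ N := hUP.trans Subgroup.le_normalizer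
    refine nRO_eq_of_quotient P X (fun χ hχ => (Subgroup.closure_le _).2 fun y hy => by
        obtain ⟨u, hu, rfl⟩ := hy
        exact sq_mem_irrKer U hUp hχ hu) (fun χ hχ => ?_)
      (fun Q => ih _ (hn ▸ card_quotient_lt hX0) _ inferInstance rfl Q)
    refine mem_irrKer_closure N.subtype N.subtype_injective S ?_ fun x hx => ?_
    · rintro _ ⟨u, hu, rfl⟩
      exact ⟨⟨u * u, N.mul_mem (hUN hu) (hUN hu)⟩, rfl⟩
    · obtain ⟨u, hu, he⟩ := hx
      rw [show x = ⟨u, hUN hu⟩ * ⟨u, hUN hu⟩ from Subtype.ext he]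
      haveI := hUn.subgroupOf N
      exact sq_mem_irrKer (U.subgroupOf N) hUp.comap_subtype hχ (u := ⟨u, hUN hu⟩) hu
  have hsq : ∀ u ∈ U, u * u = 1 := fun u hu =>
    Subgroup.mem_bot.1 (hX0 ▸ Subgroup.subset_closure ⟨u, hu, rfl⟩)
  have hab : ∀ a ∈ U, ∀ b ∈ U, a * b = b * a := by
    intro a ha b hb
    have h1 := inv_eq_of_mul_eq_one_right (hsq _ (U.mul_mem ha hb))
    rw [mul_inv_rev, inv_eq_of_mul_eq_one_right (hsq a ha), inv_eq_of_mul_eq_one_right (hsq b hb)]
      at h1
    exact h1.symm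
  obtain ⟨V, H, hVn, hVp, hVP, hVne, hc⟩ := exists_split P htop hcore hab
  haveI := hVn
  haveI := Fintype.ofFinite G
  haveI := Fintype.ofFinite V
  haveI : Fintype (Quotient (lamSetoid V P)) := Fintype.ofFinite _
  have hVN : V ≤ N := hVP.trans Subgroup.le_normalizer
  let V' := V.subgroupOf N
  let H' := H.subgroupOf N
  haveI : V'.Normal := hVn.subgroupOf N
  have hc' : Subgroup.IsComplement' V' H' := by
    refine Subgroup.isComplement'_of_disjoint_and_mul_eq_univ ?_ ?_
    · rw [Subgroup.disjoint_def]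
      intro x hx hx'
      exact Subtype.ext (Subgroup.disjoint_def.1 hc.disjoint hx hx')
    · refine Set.eq_univ_of_forall fun x => ?_
      have hh : (proj V hc (x : G) : G) ∈ N := (mem_iff_proj_mem hc hVN _).1 x.2
      exact ⟨⟨_, hVN (mul_proj_inv_mem V hc (x : G))⟩, mul_proj_inv_mem V hc (x : G),
        ⟨_, hh⟩, (proj V hc (x : G)).2, Subtype.ext (inv_mul_cancel_right _ _)⟩
  let P' : Sylow 2 N := P.subtype Subgroup.le_normalizer
  let e : V' ≃* V := Subgroup.subgroupOfEquivOfLe hVN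
  have hcje : ∀ (g : N) (f : V →* ℂˣ),
      cj V' g (f.comp e.toMonoidHom) = (cj V (g : G) f).comp e.toMonoidHom := by
    intro g f
    refine MonoidHom.ext fun v => ?_
    rw [MonoidHom.comp_apply, cj_apply, cj_apply, MonoidHom.comp_apply]
    exact congrArg f (Subtype.ext rfl)
  have hcancel : ∀ a b : V →* ℂˣ, a.comp e.toMonoidHom = b.comp e.toMonoidHom → a = b := by
    intro a b h
    refine MonoidHom.ext fun v => ?_
    obtain ⟨w, rfl⟩ := e.surjective v
    exact DFunLike.congr_fun h w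
  let T : Lam V P ≃ Lam V' P' := Equiv.ofBijective
    (fun a => ⟨a.1.comp e.toMonoidHom, fun v => a.2.1 (e v), fun u hu => by
      rw [hcje]; exact congrArg (fun t : V →* ℂˣ => t.comp e.toMonoidHom) (a.2.2 _ hu)⟩)
    ⟨fun a b h => Subtype.ext (hcancel _ _ (congrArg Subtype.val h)), fun b =>
      ⟨⟨b.1.comp e.symm.toMonoidHom, fun v => b.2.1 (e.symm v), fun u hu => hcancel _ _ (by
          rw [← hcje ⟨u, Subgroup.le_normalizer hu⟩]
          have hb : (b.1.comp e.symm.toMonoidHom).comp e.toMonoidHom = b.1 :=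
            MonoidHom.ext fun w => congrArg b.1 (e.symm_apply_apply w)
          rw [hb]
          exact b.2.2 ⟨u, Subgroup.le_normalizer hu⟩ hu)⟩,
        Subtype.ext (MonoidHom.ext fun w => congrArg b.1 (e.symm_apply_apply w))⟩⟩
  have hT : ∀ a : Lam V P, (T a).1 = a.1.comp e.toMonoidHom := fun a => rfl
  have hrel : ∀ a b : Lam V P, (lamSetoid V P).r a b ↔ (lamSetoid V' P').r (T a) (T b) := by
    intro a b
    constructor
    · rintro ⟨g, hg⟩
      obtain ⟨m, hm, hm'⟩ := exists_normalizer_cj V P a.2.2 b.2.2 hg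
      exact ⟨⟨m, hm⟩, by rw [hT, hT, hcje, hm']⟩
    · rintro ⟨g, hg⟩
      rw [hT, hT, hcje] at hg
      exact ⟨g, hcancel _ _ hg⟩
  let eQ : Quotient (lamSetoid V P) ≃ Quotient (lamSetoid V' P') := Quotient.congr T hrel
  haveI : Fintype (Quotient (lamSetoid V' P')) := Fintype.ofFinite _
  rw [nRO_eq_sum V P hc hVp Quotient.out Quotient.out_eq,
    nRO_eq_sum (G := N) V' P' hc' hVp.comap_subtype (fun c => T (eQ.symm c).out) (fun c => by
      conv_rhs => rw [← eQ.apply_symm_apply c, ← (eQ.symm c).out_eq]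
      rfl)]
  refine Fintype.sum_equiv eQ _ _ fun c => ?_
  rw [Equiv.symm_apply_apply]
  set f := c.out with hf
  obtain ⟨Q, hQ⟩ := exists_sylow_stab hc P hVP f.2.2
  have hlt : Nat.card (stabH V H f.1) < n :=
    hn ▸ (Subgroup.card_le_card_group _).trans_lt (card_complement_lt hc hVne)
  rw [ih _ hlt (stabH V H f.1) inferInstance rfl Q]
  have hstab : ∀ x : H', x ∈ stabH V' H' (T f).1 ↔
      (⟨((x : N) : G), x.2⟩ : H) ∈ stabH V H f.1 := by
    intro x
    show cj V' (x : N) (T f).1 = (T f).1 ↔ cj V ((x : N) : G) f.1 = f.1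
    rw [hT, hcje]
    exact ⟨hcancel _ _, fun h => by rw [h]⟩
  let j : stabH V' H' (T f).1 →* stabH V H f.1 :=
    { toFun := fun x => ⟨⟨(((x : H') : N) : G), (x : H').2⟩, (hstab x).1 x.2⟩
      map_one' := rfl
      map_mul' := fun a b => rfl }
  have hj : Function.Injective j := fun a b h => by
    exact Subtype.ext (Subtype.ext (Subtype.ext
      (congrArg (fun y : stabH V H f.1 => ((y : H) : G)) h)))
  refine (nRO_congr ((MonoidHom.ofInjective hj).trans (MulEquiv.subgroupCongr ?_))).symm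
  ext x
  rw [hQ, mem_normalizer_stab_iff hc P hVP f.2.2]
  constructor
  · rintro ⟨y, rfl⟩
    exact ((y : H') : N).2
  · intro hx
    exact ⟨⟨⟨⟨_, hx⟩, (x : H).2⟩, (hstab ⟨⟨_, hx⟩, (x : H).2⟩).2 x.2⟩, rfl⟩

end CfsgLib.Blk4.RealOdd
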