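import Cfsg.Agent.Lib.Blk4.RealOddBasic
import Cfsg.Agent.Lib.OddOrder.CliffordInd
import Cfsg.Agent.Lib.Characters.InvariantOrbit
import Cfsg.Agent.Lib.Characters.Ramified
import Mathlib.GroupTheory.Complement

/-!
# Odd-degree characters of a split extension of a normal `2`-subgroup
-/

set_option autoImplicit false
set_option linter.unusedSectionVars false
set_option linter.style.haveILetI false

noncomputable section

namespace CfsgLib.Blk4.RealOdd

open Cfsg CfsgLib.Characters
open CfsgLib.Chars17 (irrKer mem_irrKer)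
open scoped ComplexConjugate

universe u

variable {G : Type u} [Group G] (V : Subgroup G) [V.Normal]

/-- The conjugate of a linear character. -/
def cj (g : G) (f : V →* ℂˣ) : V →* ℂˣ := f.comp (MulAut.conjNormal g).toMonoidHom

theorem cj_apply (g : G) (f : V →* ℂˣ) (v : V) :
    cj V g f v = f ⟨g * v * g⁻¹, Subgroup.Normal.conj_mem ‹_› (v : G) v.2 g⟩ :=
  congrArg f (Subtype.ext (by simp))

theorem cj_one (f : V →* ℂˣ) : cj V 1 f = f := by
  ext v; simp [cj_apply]

theorem cj_cj (g h : G) (f : V →* ℂˣ) : cj V g (cj V h f) = cj V (h * g) f := by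
  ext v
  simp only [cj_apply]
  exact congrArg (fun x : V => ((f x : ℂˣ) : ℂ)) (Subtype.ext (by simp [mul_assoc]))

theorem cj_of_mem {v : G} (hv : v ∈ V) (f : V →* ℂˣ) : cj V v f = f := by
  ext x
  rw [cj_apply, show (⟨v * (x : G) * v⁻¹, _⟩ : V) = ⟨v, hv⟩ * x * (⟨v, hv⟩ : V)⁻¹ from
    Subtype.ext (by simp), map_mul, map_mul, mul_comm (f ⟨v, hv⟩), mul_assoc, map_inv,
    mul_inv_cancel, mul_one]

/-- The stabilizer of a linear character. -/
def cjStab (f : V →* ℂˣ) : Subgroup G where
  carrier := {g | cj V g f = f}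
  one_mem' := cj_one V f
  mul_mem' := fun {a b} (ha : cj V a f = f) (hb : cj V b f = f) => by
    show cj V (a * b) f = f
    rw [← cj_cj, ha, hb]
  inv_mem' := fun {a} (ha : cj V a f = f) => by
    show cj V a⁻¹ f = f
    conv_lhs => rw [← ha]
    rw [cj_cj, mul_inv_cancel, cj_one]

theorem mem_cjStab {f : V →* ℂˣ} {g : G} : g ∈ cjStab V f ↔ cj V g f = f := Iff.rfl

/-- The function of a linear character. -/
def cfun (f : V →* ℂˣ) : V → ℂ := fun v => (f v : ℂ)

theorem cfun_injective : Function.Injective (cfun V) := fun _ _ h =>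
  MonoidHom.ext fun v => Units.ext (congrFun h v)

theorem isIrr_cfun [Finite G] (f : V →* ℂˣ) : IsIrrCharacter V (cfun V f) :=
  isIrrCharacter_of_hom f

theorem conjChar_cfun (g : G) (f : V →* ℂˣ) :
    CfsgLib.Clifford.conjChar (inferInstance : V.Normal) (cfun V f) g = cfun V (cj V g f) := by
  funext v
  simp only [CfsgLib.Clifford.conjChar, cfun, cj_apply]

theorem inertia_cfun (f : V →* ℂˣ) :
    CfsgLib.Clifford.inertia (inferInstance : V.Normal) (cfun V f) = cjStab V f := by
  ext g
  constructor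
  · intro h
    exact cfun_injective V ((conjChar_cfun V g f).symm.trans h)
  · intro h
    show CfsgLib.Clifford.conjChar (inferInstance : V.Normal) (cfun V f) g = cfun V f
    rw [conjChar_cfun, (h : cj V g f = f)]

/-- The character lies over the linear character. -/
def Over [Fintype V] (χ : IrrCharacter G) (f : V →* ℂˣ) : Prop :=
  classInner (fun v : V => (χ : G → ℂ) v) (cfun V f) ≠ 0

variable [Finite G]

theorem over_cj [Fintype V] {χ : IrrCharacter G} {f : V →* ℂˣ} (h : Over V χ f) (g : G) :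
    Over V χ (cj V g f) := by
  haveI := Fintype.ofFinite G
  unfold Over
  rw [← conjChar_cfun, CfsgLib.Clifford.classInner_res_conjChar _ (irr_isClassFunction χ)]
  exact h

theorem exists_cj_of_over [Fintype V] {χ : IrrCharacter G} {f μ : V →* ℂˣ} (h : Over V χ f)
    (h' : Over V χ μ) : ∃ g : G, cj V g f = μ := by
  haveI := Fintype.ofFinite G
  obtain ⟨g, hg⟩ := CfsgLib.Clifford.exists_conj_of_constituent (inferInstance : V.Normal) χ.2
    (isIrr_cfun V f) (isIrr_cfun V μ) h h'
  exact ⟨g, cfun_injective V ((conjChar_cfun V g f).symm.trans hg.symm)⟩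

/-- Fixed linear characters that are conjugate are conjugate in the normalizer. -/
theorem exists_normalizer_cj {p : ℕ} [Fact p.Prime] (P : Sylow p G) {f μ : V →* ℂˣ}
    (hf : ∀ u ∈ (P : Subgroup G), cj V u f = f) (hμ : ∀ u ∈ (P : Subgroup G), cj V u μ = μ)
    {g : G} (hg : cj V g f = μ) :
    ∃ n ∈ Subgroup.normalizer ((P : Subgroup G) : Set G), cj V n f = μ := by
  have hle : ((g⁻¹ • P : Sylow p G) : Subgroup G) ≤ cjStab V μ := by
    rw [Sylow.coe_subgroup_smul]
    rintro _ ⟨u, hu, rfl⟩
    show cj V (g⁻¹ * u * g⁻¹⁻¹) μ = μ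
    rw [← hg, cj_cj, inv_inv, show g * (g⁻¹ * u * g) = u * g by group, ← cj_cj, hf u hu]
  obtain ⟨y, hy⟩ := MulAction.exists_smul_eq (cjStab V μ)
    (P.subtype (fun u hu => hμ u hu)) ((g⁻¹ • P).subtype hle)
  have hyg : (y : G) • P = g⁻¹ • P := by
    refine Sylow.subtype_injective (N := cjStab V μ) (hP := ?_) (hQ := hle) ?_
    · rw [Sylow.coe_subgroup_smul]
      rintro _ ⟨u, hu, rfl⟩
      exact (cjStab V μ).mul_mem ((cjStab V μ).mul_mem y.2 (hμ u hu)) ((cjStab V μ).inv_mem y.2)
    · rw [← hy]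
      exact (Sylow.smul_subtype _ y).symm
  refine ⟨g * y, Sylow.smul_eq_iff_mem_normalizer.1 (by rw [mul_smul, hyg, smul_inv_smul]), ?_⟩
  rw [← cj_cj, hg]
  exact y.2

section Split

variable {H : Subgroup G} (hc : Subgroup.IsComplement' V H)

/-- The complement is the quotient. -/
def quotEquiv : H ≃* G ⧸ V :=
  MulEquiv.ofBijective ((QuotientGroup.mk' V).comp H.subtype) (by
    constructor
    · rw [injective_iff_map_eq_one]
      intro h hh
      have h1 : (h : G) ∈ V := (QuotientGroup.eq_one_iff _).1 hh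
      exact Subtype.ext (Subgroup.disjoint_def.1 hc.disjoint h1 h.2)
    · intro q
      obtain ⟨g, rfl⟩ := QuotientGroup.mk_surjective q
      have hg : g ∈ H ⊔ V := by rw [sup_comm, hc.sup_eq_top]; exact Subgroup.mem_top g
      obtain ⟨h, hh, v, hv, rfl⟩ := Subgroup.mem_sup_of_normal_right.1 hg
      refine ⟨⟨h, hh⟩, ?_⟩
      show (h : G ⧸ V) = (h * v : G)
      rw [QuotientGroup.eq]
      simpa using hv)

/-- The projection on the complement. -/
def proj : G →* H := (quotEquiv V hc).symm.toMonoidHom.comp (QuotientGroup.mk' V)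

theorem proj_coe (h : H) : proj V hc (h : G) = h := (quotEquiv V hc).symm_apply_apply h

theorem mk_proj (g : G) : ((proj V hc g : G) : G ⧸ V) = g :=
  (quotEquiv V hc).apply_symm_apply (g : G ⧸ V)

theorem mul_proj_inv_mem (g : G) : g * (proj V hc g : G)⁻¹ ∈ V := by
  rw [← QuotientGroup.eq_one_iff, QuotientGroup.mk_mul, QuotientGroup.mk_inv, mk_proj,
    mul_inv_cancel]

theorem proj_surjective : Function.Surjective (proj V hc) := fun h => ⟨h, proj_coe V hc h⟩

theorem proj_eq_one_iff {g : G} : proj V hc g = 1 ↔ g ∈ V := by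
  rw [proj, MonoidHom.comp_apply, MulEquiv.coe_toMonoidHom, EmbeddingLike.map_eq_one_iff,
    QuotientGroup.mk'_apply, QuotientGroup.eq_one_iff]

theorem cj_proj (g : G) (f : V →* ℂˣ) : cj V (proj V hc g : G) f = cj V g f := by
  conv_rhs => rw [show g = g * (proj V hc g : G)⁻¹ * (proj V hc g : G) by group, ← cj_cj,
    cj_of_mem V (mul_proj_inv_mem V hc g)]

/-- The stabilizer in the complement. -/
abbrev stabH (H : Subgroup G) (f : V →* ℂˣ) : Subgroup H := (cjStab V f).comap H.subtype

/-- The projection of the inertia group. -/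
def projI (f : V →* ℂˣ) : cjStab V f →* stabH V H f :=
  ((proj V hc).comp (cjStab V f).subtype).codRestrict _ fun g => by
    show cj V (proj V hc (g : G) : G) f = f
    rw [cj_proj]
    exact g.2

theorem projI_surjective (f : V →* ℂˣ) : Function.Surjective (projI V hc f) := fun h =>
  ⟨⟨((h : H) : G), h.2⟩, Subtype.ext (proj_coe V hc (h : H))⟩

/-- The extension of a linear character to its inertia group. -/
def lamExt (f : V →* ℂˣ) : cjStab V f →* ℂˣ :=
  MonoidHom.mk' (fun g => f ⟨_, mul_proj_inv_mem V hc (g : G)⟩) fun a b => by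
    have ha : cj V (proj V hc (a : G) : G) f = f := by rw [cj_proj]; exact a.2
    conv_rhs => arg 2; rw [← DFunLike.congr_fun ha ⟨_, mul_proj_inv_mem V hc (b : G)⟩, cj_apply]
    rw [← map_mul]
    refine congrArg f (Subtype.ext ?_)
    simp only [Subgroup.coe_mul, map_mul, mul_inv_rev]
    group

theorem le_cjStab (f : V →* ℂˣ) : V ≤ cjStab V f := fun _ hv => cj_of_mem V hv f

theorem lamExt_inclusion (f : V →* ℂˣ) (v : V) :
    lamExt V hc f (Subgroup.inclusion (le_cjStab V f) v) = f v := by
  refine congrArg f (Subtype.ext ?_)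
  show (v : G) * (proj V hc (v : G) : G)⁻¹ = v
  rw [(proj_eq_one_iff V hc).2 v.2, OneMemClass.coe_one, inv_one, mul_one]

theorem projI_inclusion (f : V →* ℂˣ) (v : V) :
    projI V hc f (Subgroup.inclusion (le_cjStab V f) v) = 1 :=
  Subtype.ext ((proj_eq_one_iff V hc).2 v.2)

/-- The inflated twisted character. -/
def bigPsi (f : V →* ℂˣ) (ψ : IrrCharacter (stabH V H f)) : IrrCharacter (cjStab V f) :=
  ⟨fun g => (pull (projI V hc f) (projI_surjective V hc f) ψ : cjStab V f → ℂ) g *
      (lamExt V hc f g : ℂ),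
    CfsgLib.LinearTwist.isIrr_mul_hom (pull (projI V hc f) (projI_surjective V hc f) ψ).2 _⟩

theorem bigPsi_injective (f : V →* ℂˣ) : Function.Injective (bigPsi V hc f) := by
  intro a b h
  refine pull_injective _ (projI_surjective V hc f) (Subtype.ext (funext fun g => ?_))
  exact mul_right_cancel₀ (Units.ne_zero _) (congrFun (congrArg Subtype.val h) g)

theorem bigPsi_res (f : V →* ℂˣ) (ψ : IrrCharacter (stabH V H f)) :
    (fun v : V => (bigPsi V hc f ψ : cjStab V f → ℂ) (Subgroup.inclusion (le_cjStab V f) v)) =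
      ((ψ : stabH V H f → ℂ) 1) • cfun V f := by
  funext v
  show (ψ : stabH V H f → ℂ) (projI V hc f _) * (lamExt V hc f _ : ℂ) = _
  rw [projI_inclusion, lamExt_inclusion]
  rfl

theorem bigPsi_con [Fintype V] (f : V →* ℂˣ) (ψ : IrrCharacter (stabH V H f)) :
    classInner (fun v : V => (bigPsi V hc f ψ : cjStab V f → ℂ)
      (Subgroup.inclusion (le_cjStab V f) v)) (cfun V f) ≠ 0 := by
  rw [bigPsi_res, classInner_smul_left, classInner_irr_self (isIrr_cfun V f), mul_one]
  exact irr_one_ne_zero ψ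

theorem irr_indChar [Fintype G] (f : V →* ℂˣ) (ψ : IrrCharacter (stabH V H f)) :
    IsIrrCharacter G (indFun (cjStab V f) (bigPsi V hc f ψ : cjStab V f → ℂ)) := by
  haveI := Fintype.ofFinite V
  haveI := Fintype.ofFinite (cjStab V f)
  exact (CfsgLib.OddOrder.CliffordInd.indFun_of_inertia (inferInstance : V.Normal) (isIrr_cfun V f) _
    (inertia_cfun V f).symm (le_cjStab V f) (bigPsi V hc f ψ).2 (bigPsi_con V hc f ψ)).1

/-- The induced character. -/
def indChar [Fintype G] (f : V →* ℂˣ) (ψ : IrrCharacter (stabH V H f)) : IrrCharacter G :=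
  ⟨_, irr_indChar V hc f ψ⟩

theorem indChar_injective [Fintype G] (f : V →* ℂˣ) : Function.Injective (indChar V hc f) := by
  haveI := Fintype.ofFinite V
  haveI := Fintype.ofFinite (cjStab V f)
  intro a b h
  refine bigPsi_injective V hc f (Subtype.ext ?_)
  exact (CfsgLib.OddOrder.CliffordInd.indFun_of_inertia (inferInstance : V.Normal) (isIrr_cfun V f) _
    (inertia_cfun V f).symm (le_cjStab V f) (bigPsi V hc f a).2 (bigPsi_con V hc f a)).2 _
    (bigPsi V hc f b).2 (bigPsi_con V hc f b) (congrArg Subtype.val h)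

theorem charDegree_indChar [Fintype G] (f : V →* ℂˣ) (ψ : IrrCharacter (stabH V H f)) :
    charDegree (indChar V hc f ψ : G → ℂ) =
      (cjStab V f).index * charDegree (ψ : stabH V H f → ℂ) := by
  refine CfsgLib.LinearTwist.charDegree_eq_of_apply_one ?_
  show indFun (cjStab V f) _ 1 = _
  rw [CfsgLib.Induction.indFun_one_apply, Nat.cast_mul, CfsgLib.Chars17.cast_irrDegree]
  congr 1
  show (ψ : stabH V H f → ℂ) (projI V hc f 1) * (lamExt V hc f 1 : ℂ) = _
  rw [map_one, map_one, Units.val_one, mul_one]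

theorem over_indChar [Fintype G] [Fintype V] (f : V →* ℂˣ) (ψ : IrrCharacter (stabH V H f)) :
    Over V (indChar V hc f ψ) f := by
  classical
  haveI := Fintype.ofFinite (cjStab V f)
  have hres : (fun v : V => (indChar V hc f ψ : G → ℂ) v) =
      ((Nat.card (cjStab V f) : ℂ)⁻¹ * (ψ : stabH V H f → ℂ) 1) •
        ∑ x : G, cfun V (cj V x⁻¹ f) := by
    funext v
    show indFun (cjStab V f) _ (v : G) = _
    rw [CfsgLib.Induction.indFun_apply, Pi.smul_apply, Finset.sum_apply, smul_eq_mul, mul_assoc,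
      Finset.mul_sum _ _ ((ψ : stabH V H f → ℂ) 1)]
    congr 1
    refine Finset.sum_congr rfl fun x _ => ?_
    have hm : x⁻¹ * (v : G) * x ∈ V := Subgroup.Normal.conj_mem' ‹_› (v : G) v.2 x
    rw [CfsgLib.Induction.extendByZero_mem _ _ (le_cjStab V f hm)]
    refine (congrFun (bigPsi_res V hc f ψ) ⟨_, hm⟩).trans ?_
    rw [Pi.smul_apply, smul_eq_mul, cfun, cfun, cj_apply]
    simp only [inv_inv]
  unfold Over
  rw [hres, classInner_smul_left, classInner_sum_left]
  refine mul_ne_zero (mul_ne_zero (inv_ne_zero (Nat.cast_ne_zero.2 Nat.card_pos.ne'))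
    (irr_one_ne_zero ψ)) ?_
  rw [Finset.sum_congr rfl (g := fun x : G => if x⁻¹ ∈ cjStab V f then (1 : ℂ) else 0) fun x _ => by
    split_ifs with hx
    · rw [show cj V x⁻¹ f = f from hx, classInner_irr_self (isIrr_cfun V f)]
    · exact classInner_irr_ne (isIrr_cfun V _) (isIrr_cfun V f) fun e => hx (cfun_injective V e),
    Finset.sum_boole]
  exact Nat.cast_ne_zero.2 (Finset.card_pos.2 ⟨1, by simp [one_mem]⟩).ne'

theorem indChar_real [Fintype G] {f : V →* ℂˣ} (hf : ∀ v, f v * f v = 1)
    (ψ : IrrCharacter (stabH V H f)) :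
    (∀ g : G, ((indChar V hc f ψ : G → ℂ) g).im = 0) ↔
      ∀ h, ((ψ : stabH V H f → ℂ) h).im = 0 := by
  classical
  haveI := Fintype.ofFinite V
  haveI := Fintype.ofFinite (cjStab V f)
  have hlam : ∀ g, conj ((lamExt V hc f g : ℂˣ) : ℂ) = (lamExt V hc f g : ℂ) := by
    intro g
    rcases mul_self_eq_one_iff.1 (show (lamExt V hc f g : ℂ) * (lamExt V hc f g : ℂ) = 1 by
      rw [← Units.val_mul]; exact (congrArg Units.val (hf _)).trans Units.val_one) with h | h <;>
      rw [h] <;> simp
  have hconjP : ∀ (a : IrrCharacter (stabH V H f)) (g : cjStab V f),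
      conj ((bigPsi V hc f a : cjStab V f → ℂ) g) =
        (bigPsi V hc f (CfsgLib.BrauerPerm.conjIrr a) : cjStab V f → ℂ) g := by
    intro a g
    show conj ((a : stabH V H f → ℂ) _ * (lamExt V hc f g : ℂ)) = _
    rw [map_mul, hlam]
    rfl
  have hconj : ∀ a : IrrCharacter (stabH V H f),
      indChar V hc f (CfsgLib.BrauerPerm.conjIrr a) =
        CfsgLib.BrauerPerm.conjIrr (indChar V hc f a) := by
    intro a
    refine Subtype.ext (funext fun g => ?_)
    show indFun (cjStab V f) _ g = conj (indFun (cjStab V f) _ g)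
    rw [CfsgLib.Induction.indFun_apply, CfsgLib.Induction.indFun_apply, map_mul, map_inv₀,
      map_natCast, map_sum]
    congr 1
    refine Finset.sum_congr rfl fun x _ => ?_
    by_cases hm : x⁻¹ * g * x ∈ cjStab V f
    · rw [CfsgLib.Induction.extendByZero_mem _ _ hm, CfsgLib.Induction.extendByZero_mem _ _ hm,
        hconjP]
    · rw [CfsgLib.Induction.extendByZero_notMem _ _ hm, CfsgLib.Induction.extendByZero_notMem _ _ hm,
        map_zero]
  rw [← CfsgLib.BrauerPerm.conjIrr_eq_self_iff, ← CfsgLib.BrauerPerm.conjIrr_eq_self_iff, ← hconj]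
  exact ⟨fun h => indChar_injective V hc f h, fun h => by rw [h]⟩

theorem exists_indChar_eq [Fintype G] [Fintype V] {χ : IrrCharacter G} {f : V →* ℂˣ}
    (h : Over V χ f) : ∃ ψ : IrrCharacter (stabH V H f), indChar V hc f ψ = χ := by
  classical
  haveI := Fintype.ofFinite (cjStab V f)
  obtain ⟨φ, hφ, hind, hmult⟩ := CfsgLib.Clifford.correspondence (inferInstance : V.Normal)
    (isIrr_cfun V f) _ (inertia_cfun V f).symm (le_cjStab V f) χ.2 h
  set φ' : IrrCharacter (cjStab V f) := ⟨fun g => φ g * (((lamExt V hc f)⁻¹ g : ℂˣ) : ℂ),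
    CfsgLib.LinearTwist.isIrr_mul_hom hφ _⟩ with hφ'
  let X := V.subgroupOf (cjStab V f)
  haveI : Fintype X := Fintype.ofFinite X
  haveI : X.Normal := (inferInstance : V.Normal).subgroupOf _
  have hker : X ≤ irrKer φ' := by
    intro x hx
    refine mem_irrKer_of_constituent X (θ := principalIrr X) ?_ ⟨x, hx⟩ fun g => ?_
    · let e : X ≃* V := Subgroup.subgroupOfEquivOfLe (le_cjStab V f)
      unfold CfsgLib.NormalRes.mult
      have h1 : classInner (fun x : X => (φ' : cjStab V f → ℂ) x) (principalIrr X : X → ℂ) =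
          classInner (fun v : V => φ (Subgroup.inclusion (le_cjStab V f) v)) (cfun V f) := by
        unfold classInner
        rw [Nat.card_congr e.toEquiv]
        congr 1
        refine Fintype.sum_equiv e.toEquiv _ _ fun x => ?_
        have hinc : Subgroup.inclusion (le_cjStab V f) (e x) = (x : cjStab V f) := rfl
        show φ (x : cjStab V f) * (((lamExt V hc f)⁻¹ (x : cjStab V f) : ℂˣ) : ℂ) *
          conj ((principalIrr X : X → ℂ) x) = φ (x : cjStab V f) * conj ((f (e x) : ℂ))
        rw [principalIrr_apply, map_one, mul_one, ← hinc, MonoidHom.inv_apply, lamExt_inclusion]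
        congr 1
        refine Eq.trans ?_ (irr_apply_inv ⟨cfun V f, isIrr_cfun V f⟩ (e x))
        exact congrArg Units.val (map_inv f (e x)).symm
      rw [h1, show classInner (fun v : V => φ (Subgroup.inclusion (le_cjStab V f) v)) (cfun V f) =
        classInner (fun v : V => (χ : G → ℂ) v) (cfun V f) from hmult]
      exact h
    · simp [CfsgLib.Clifford.conjChar]
  obtain ⟨ψ, hψ⟩ := exists_pull_eq (projI V hc f) (projI_surjective V hc f) (χ := φ') (by
    intro g hg
    refine hker ?_
    show (g : G) ∈ V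
    exact (proj_eq_one_iff V hc).1 (congrArg Subtype.val hg))
  refine ⟨ψ, Subtype.ext ?_⟩
  show indFun (cjStab V f) _ = (χ : G → ℂ)
  rw [← hind]
  congr 1
  funext g
  show (pull (projI V hc f) (projI_surjective V hc f) ψ : cjStab V f → ℂ) g *
    (lamExt V hc f g : ℂ) = φ g
  rw [hψ]
  show φ g * (((lamExt V hc f)⁻¹ g : ℂˣ) : ℂ) * (lamExt V hc f g : ℂ) = φ g
  rw [mul_assoc, MonoidHom.inv_apply, ← Units.val_mul, inv_mul_cancel, Units.val_one, mul_one]

include hc in
theorem index_cjStab (f : V →* ℂˣ) : (cjStab V f).index = (stabH V H f).index := by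
  rw [← Subgroup.index_comap_of_surjective (stabH V H f) (proj_surjective V hc)]
  congr 1
  ext g
  show g ∈ cjStab V f ↔ cj V (proj V hc g : G) f = f
  rw [cj_proj]
  rfl

end Split

end CfsgLib.Blk4.RealOdd
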