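import Cfsg.Agent.Lib.Characters.ExtensionUnique
import Cfsg.Agent.Lib.Characters.Ramified
import Cfsg.Agent.Lib.CharDeg.ResidualSum
import Cfsg.Agent.Lib.Blocks.PRational
import Cfsg.Agent.Lib.Blocks.ThirdMain
import Cfsg.Agent.Lib.Characters.Galois
import Cfsg.Agent.Lib.Transfer.Basic
import Cfsg.Agent.Lib.CharCorr.CyclicGlauberman
import Cfsg.Agent.Lib.BlockCover.Basic
import Cfsg.Agent.Lib.Blocks.PPart

/-!
# Extensions from the residual with cyclic quotient
-/

set_option autoImplicit false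
set_option linter.unusedSectionVars false
set_option linter.style.haveILetI false

namespace CfsgLib.Blk4.ResidualExt

open Cfsg CfsgLib.Characters

universe u

variable {G : Type u} [Group G] [Finite G] {p : ℕ} [Fact p.Prime] {N : Subgroup G} [hN : N.Normal]

open CfsgLib.CharExtension in
/-- Two extensions differ by a linear character trivial on the subgroup. -/
theorem exists_linear_twist {θ : N → ℂ} (hθ : IsIrrCharacter N θ) {χ χ' : G → ℂ} (hχ : IsCharacter G χ)
    (hχ' : IsCharacter G χ') (h : ∀ n : N, χ n = θ n) (h' : ∀ n : N, χ' n = θ n) :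
    ∃ α : G →* ℂˣ, (∀ n : N, α n = 1) ∧ ∀ g, χ' g = χ g * (α g : ℂ) := by
  obtain ⟨d, ρ, hρ, rfl⟩ := hθ
  obtain ⟨s, hs, rfl⟩ := exists_hom_of_char_top N ρ hχ h
  obtain ⟨t, ht, rfl⟩ := exists_hom_of_char_top N ρ hχ' h'
  obtain ⟨α, hα, hα1⟩ := exists_twist N ρ hs ht
  refine ⟨α, hα1, fun g => ?_⟩
  show LinearMap.trace ℂ _ (repOfUnits t g) = LinearMap.trace ℂ _ (repOfUnits s g) * (α g : ℂ)
  rw [repOfUnits_apply, repOfUnits_apply, hα g, Units.val_mul]
  show LinearMap.trace ℂ _ (algebraMap ℂ (Module.End ℂ (Fin d → ℂ)) (α g : ℂ) * _) = _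
  rw [← Algebra.smul_def, map_smul, smul_eq_mul, mul_comm]

theorem regular_mem (hres : N = pResidual p G) {g : G} (hg : ¬ p ∣ orderOf g) : g ∈ N :=
  hres ▸ CfsgLib.Transfer.mem_pResidual ((Fact.out : p.Prime).coprime_iff_not_dvd.2 hg).symm

/-- An extension lies in the principal block exactly when the restricted character does. -/
theorem principal_iff {M : Ideal AlgInt} (hM : IsPModular p M) (hres : N = pResidual p G)
    (χ : IrrCharacter G) (θ : IrrCharacter N) (h : ∀ n : N, (χ : G → ℂ) n = (θ : N → ℂ) n) :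
    χ ∈ principalBlock M G ↔ θ ∈ principalBlock M N := by
  classical
  letI := Fintype.ofFinite G
  letI := Fintype.ofFinite N
  have e : CfsgLib.Blocks.omega (χ : G → ℂ) (CfsgLib.Blocks.regSum ℂ G p) =
      CfsgLib.Blocks.omega (θ : N → ℂ) (CfsgLib.Blocks.regSum ℂ N p) := by
    rw [CfsgLib.Blocks.omega_regSum, CfsgLib.Blocks.omega_regSum,
      show (χ : G → ℂ) 1 = (θ : N → ℂ) 1 from (by rw [← OneMemClass.coe_one N]; exact h 1)]
    congr 1
    symm
    refine Finset.sum_bij (fun n _ => (n : G)) (fun n hn => ?_) (fun _ _ _ _ he => Subtype.ext he)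
      (fun g hg => ?_) (fun n _ => (h n).symm)
    · exact Finset.mem_filter.2 ⟨Finset.mem_univ _, by rw [Subgroup.orderOf_coe]; exact (Finset.mem_filter.1 hn).2⟩
    · have hg' := (Finset.mem_filter.1 hg).2
      exact ⟨⟨g, regular_mem hres hg'⟩, Finset.mem_filter.2 ⟨Finset.mem_univ _, by rwa [Subgroup.orderOf_mk]⟩, rfl⟩
  constructor
  · intro hχ
    by_contra hθ
    have h0 := CfsgLib.Blocks.omega_regSum_not_mem hM hχ
    rw [e, CfsgLib.Blocks.omega_regSum_eq_zero hM hθ] at h0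
    exact h0 (CfsgLib.Blocks.memLocalIdeal_zero hM)
  · intro hθ
    by_contra hχ
    have h0 := CfsgLib.Blocks.omega_regSum_not_mem hM hθ
    rw [← e, CfsgLib.Blocks.omega_regSum_eq_zero hM hχ] at h0
    exact h0 (CfsgLib.Blocks.memLocalIdeal_zero hM)

/-- A character of degree prime to `p` stays irreducible on the residual. -/
theorem res_isIrr (hres : N = pResidual p G) (χ : IrrCharacter G)
    (hd : ¬ p ∣ charDegree (χ : G → ℂ)) : IsIrrCharacter N (fun n : N => (χ : G → ℂ) n) := by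
  classical
  letI := Fintype.ofFinite G
  letI := Fintype.ofFinite N
  have hp : p.Prime := Fact.out
  obtain ⟨θ, hθ⟩ := CfsgLib.BlockCover.exists_constituent N χ
  obtain ⟨k, hk, hkd⟩ := CfsgLib.Ramified.degree_ratio_dvd_index N χ.2 θ.2 hθ
  obtain ⟨e, he⟩ := CfsgLib.Transfer.pResidual_index_eq_pow (G := G) (p := p)
  rw [← hres] at he
  obtain ⟨d, hd0, hdθ⟩ := irr_exists_degree θ.2
  have hk1 : k = 1 := by
    obtain ⟨j, -, hj⟩ := (Nat.dvd_prime_pow hp).1 (he ▸ hkd)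
    rcases Nat.eq_zero_or_pos j with rfl | hj0
    · simpa using hj
    · refine absurd ?_ hd
      rw [charDegree, hk, hdθ, ← Nat.cast_mul, Complex.natCast_re, Nat.floor_natCast]
      exact dvd_mul_of_dvd_left (hj ▸ dvd_pow_self p hj0.ne') d
  have hχc : IsCharacter N (fun n : N => (χ : G → ℂ) n) := CfsgLib.Clifford.isCharacter_subtype (irr_isCharacter χ) N
  rw [CfsgLib.CharDeg.eq_of_degree_eq hχc θ hθ (by
    rw [OneMemClass.coe_one, hk, hk1, Nat.cast_one, one_mul])]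
  exact θ.2

variable {k : ℕ} (hk₁ : ∀ g : G, (∃ j : ℕ, orderOf g = p ^ j) → g ^ k = g ^ (1 + p))
  (hk₂ : ∀ g : G, Nat.Coprime (orderOf g) p → g ^ k = g)

include hk₁ hk₂

theorem coprime_exponent : k.Coprime (Nat.card G) := by
  have hp : p.Prime := Fact.out
  refine Nat.coprime_of_dvd fun q hq hqk hqG => ?_
  haveI : Fact q.Prime := ⟨hq⟩
  obtain ⟨g, hg⟩ := exists_prime_orderOf_dvd_card' q hqG
  have hgk : g ^ k = 1 := orderOf_dvd_iff_pow_eq_one.1 (hg.symm ▸ hqk)
  by_cases h : q = p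
  · subst h
    have h1 := hk₁ g ⟨1, by rw [hg, pow_one]⟩
    have h2 : g ^ q = 1 := by rw [← hg]; exact pow_orderOf_eq_one g
    rw [hgk, pow_add, pow_one, h2, mul_one] at h1
    rw [← h1, orderOf_one] at hg
    exact hq.ne_one hg.symm
  · have h1 := hk₂ g (by rw [hg]; exact (Nat.coprime_primes hq hp).2 h)
    rw [hgk] at h1
    rw [← h1, orderOf_one] at hg
    exact hq.ne_one hg.symm

/-- On a homomorphism killing the residual the exponent acts as `1 + p`. -/
theorem map_pow_exponent {A : Type*} [CommGroup A] (f : G →* A) (hres : N = pResidual p G)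
    (hf : ∀ n : N, f n = 1) (g : G) : f (g ^ k) = f g ^ (1 + p) := by
  obtain ⟨x, hx⟩ := CfsgLib.Blocks.exists_isPPart (G := G) (Fact.out : p.Prime) g
  obtain ⟨y, hxy, hcomm, hxo, hy⟩ := hx
  subst hxy
  have h1 : f y = 1 := hf ⟨y, regular_mem hres hy⟩
  rw [hcomm.mul_pow, map_mul, map_pow f y k, h1, one_pow, mul_one, map_mul, h1, mul_one, hk₁ x hxo, map_pow]

/-- Some extension is fixed by the exponent. -/
theorem exists_fixed (hres : N = pResidual p G) (χ : IrrCharacter G) (θ : IrrCharacter N)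
    (h : ∀ n : N, (χ : G → ℂ) n = (θ : N → ℂ) n)
    (hd : ¬ p ∣ charDegree (χ : G → ℂ)) (hθk : ∀ n : N, (θ : N → ℂ) (n ^ k) = (θ : N → ℂ) n) :
    ∃ χ₀ : IrrCharacter G, (∀ n : N, (χ₀ : G → ℂ) n = (θ : N → ℂ) n) ∧
      ∀ g : G, (χ₀ : G → ℂ) (g ^ k) = (χ₀ : G → ℂ) g := by
  classical
  letI := Fintype.ofFinite G
  have hp : p.Prime := Fact.out
  have hcop := coprime_exponent hk₁ hk₂
  haveI : NeZero (Nat.card G) := ⟨Nat.card_pos.ne'⟩
  obtain ⟨σ, hσ⟩ := CfsgLib.CharGalois.exists_autComplex (Nat.card G) hcop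
  have hχk := CfsgLib.CharGalois.isIrrCharacter_pow χ.2 hcop
  obtain ⟨α, hα1, hα⟩ := exists_linear_twist θ.2 (irr_isCharacter χ) (isCharacter_of_irr hχk) h (fun n => by
    rw [← SubmonoidClass.coe_pow, h, hθk])
  obtain ⟨d, hd0, hdχ⟩ := irr_exists_degree χ.2
  have hdd : charDegree (χ : G → ℂ) = d := by rw [charDegree, hdχ, Complex.natCast_re, Nat.floor_natCast]
  rw [hdd] at hd
  obtain ⟨D, hD⟩ := CfsgLib.PRational.exists_detHom χ.2
  -- the determinant of the image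
  have hdet : ∀ g, D (g ^ k) = α g ^ d * D g := by
    intro g
    refine Units.ext ?_
    have h1 := congrFun (CfsgLib.CyclicGlauberman.detChar_map σ χ.2) g
    rw [show (fun g => σ ((χ : G → ℂ) g)) = fun g => (χ : G → ℂ) g * (α g : ℂ) from funext fun g => by
      rw [CfsgLib.CharGalois.map_char_eq_pow (irr_isCharacter χ) σ hσ]; exact hα g] at h1
    simp only [CfsgLib.PRational.detChar_mul_hom χ.2 hdχ, hD] at h1
    have h2 : σ (D g : ℂ) = (D g : ℂ) ^ k := hσ _ (by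
      rw [← Units.val_pow_eq_pow_val, ← map_pow, pow_card_eq_one', map_one, Units.val_one])
    rw [h2] at h1
    rw [map_pow, Units.val_pow_eq_pow_val, Units.val_mul, Units.val_pow_eq_pow_val]
    exact h1.symm
  -- the `p`-part of the determinant
  set a := (Nat.card G).factorization p
  set c := Nat.card G / p ^ a
  have hc : ¬ p ∣ c := Nat.not_dvd_ordCompl hp Nat.card_pos.ne'
  have hDN : ∀ n : N, (D (n : G)) ^ c = 1 := by
    have : N ≤ (((powMonoidHom c).comp D : G →* ℂˣ)).ker := by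
      conv_lhs => rw [hres]
      refine CfsgLib.Transfer.pResidual_le_iff.2 fun g hg => ?_
      rw [MonoidHom.mem_ker, MonoidHom.comp_apply, powMonoidHom_apply, ← map_pow,
        orderOf_dvd_iff_pow_eq_one.1 ?_, map_one]
      refine (Nat.Coprime.dvd_mul_left (Nat.Coprime.pow_right a hg)).1 ?_
      rw [Nat.ordProj_mul_ordCompl_eq_self]
      exact orderOf_dvd_natCard g
    exact fun n => this n.2
  obtain ⟨u, hu⟩ : ∃ u : ℕ, ∀ x : ℂˣ, x ^ p ^ a = 1 → (x ^ (d * c)) ^ u = x := by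
    have hco : Nat.Coprime (d * c) (p ^ a) :=
      Nat.Coprime.pow_right a ((hp.coprime_iff_not_dvd.2 fun h => (hp.dvd_mul.1 h).elim hd hc).symm)
    rcases Nat.eq_zero_or_pos a with ha | ha
    · exact ⟨1, fun x hx => by
        rw [ha, pow_zero, pow_one] at hx
        simp [hx]⟩
    · obtain ⟨u, -, hu⟩ := Nat.exists_mul_mod_eq_one_of_coprime hco (Nat.one_lt_pow ha.ne' hp.one_lt)
      refine ⟨u, fun x hx => ?_⟩
      rw [← pow_mul, ← Nat.mod_add_div (d * c * u) (p ^ a), hu, pow_add, pow_one, pow_mul x (p ^ a), hx,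
        one_pow, mul_one]
  let ν : G →* ℂˣ := (powMonoidHom u).comp ((powMonoidHom c).comp D)
  have hνN : ∀ n : N, ν n = 1 := fun n => by
    show ((D (n : G)) ^ c) ^ u = 1
    rw [hDN, one_pow]
  have hαν : ∀ g, α g = ν g ^ p := by
    intro g
    have h1 : ((powMonoidHom c).comp D) (g ^ k) = (((powMonoidHom c).comp D) g) ^ (1 + p) :=
      map_pow_exponent hk₁ hk₂ _ hres (fun n => hDN n) g
    simp only [MonoidHom.comp_apply, powMonoidHom_apply] at h1
    rw [hdet, mul_pow, ← pow_mul, pow_add, pow_one, mul_comm (D g ^ c)] at h1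
    have h2 : α g ^ (d * c) = (D g ^ c) ^ p := mul_right_cancel h1
    show α g = ((D g ^ c) ^ u) ^ p
    rw [← pow_mul _ u p, mul_comm u p, pow_mul _ p u, ← h2]
    refine (hu _ ?_).symm
    have hind : N.index ∣ p ^ a := by
      obtain ⟨e, he⟩ := CfsgLib.Transfer.pResidual_index_eq_pow (G := G) (p := p)
      rw [← hres] at he
      rw [he]
      exact pow_dvd_pow p ((hp.pow_dvd_iff_le_factorization Nat.card_pos.ne').1 (he ▸ Subgroup.index_dvd_card N))
    obtain ⟨z, hz⟩ := hind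
    rw [hz, pow_mul, ← map_pow, hα1 ⟨_, Subgroup.pow_index_mem N g⟩, one_pow]
  refine ⟨⟨_, CfsgLib.LinearTwist.isIrr_mul_hom χ.2 ν⁻¹⟩, fun n => ?_, fun g => ?_⟩
  · show (χ : G → ℂ) n * ((ν n)⁻¹ : ℂˣ) = _
    rw [hνN, inv_one, Units.val_one, mul_one, h]
  · show (χ : G → ℂ) (g ^ k) * ((ν (g ^ k))⁻¹ : ℂˣ) = (χ : G → ℂ) g * ((ν g)⁻¹ : ℂˣ)
    rw [map_pow_exponent hk₁ hk₂ ν hres hνN g, show (χ : G → ℂ) (g ^ k) = (χ : G → ℂ) g * (α g : ℂ) from hα g,
      hαν, mul_assoc, ← Units.val_mul, pow_add, pow_one, mul_inv, mul_comm (ν g)⁻¹, mul_inv_cancel_left]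

/-- The fixed extensions of a character form a torsor of the linear characters of exponent `p`. -/
theorem card_fixed_extensions (hres : N = pResidual p G) (hcyc : IsCyclic (G ⧸ N)) (hnt : N ≠ ⊤)
    (χ₀ : IrrCharacter G) (θ : IrrCharacter N) (h : ∀ n : N, (χ₀ : G → ℂ) n = (θ : N → ℂ) n)
    (hfix : ∀ g : G, (χ₀ : G → ℂ) (g ^ k) = (χ₀ : G → ℂ) g) :
    Nat.card {χ : IrrCharacter G // (∀ n : N, (χ : G → ℂ) n = (θ : N → ℂ) n) ∧
      ∀ g : G, (χ : G → ℂ) (g ^ k) = (χ : G → ℂ) g} = p := by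
  classical
  have hp : p.Prime := Fact.out
  haveI := hcyc
  obtain ⟨q, hq⟩ := IsCyclic.exists_generator (α := G ⧸ N)
  obtain ⟨t, rfl⟩ := QuotientGroup.mk_surjective q
  have hgen : ∀ x : G, ∃ (i : ℤ) (n : N), x = t ^ i * n := by
    intro x
    obtain ⟨i, hi⟩ := Subgroup.mem_zpowers_iff.1 (hq (QuotientGroup.mk x))
    rw [← QuotientGroup.mk_zpow, QuotientGroup.eq] at hi
    exact ⟨i, ⟨_, hi⟩, (mul_inv_cancel_left _ _).symm⟩
  have hirr : IsIrrCharacter N (fun n : N => (χ₀ : G → ℂ) n) := by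
    rw [show (fun n : N => (χ₀ : G → ℂ) n) = (θ : N → ℂ) from funext h]
    exact θ.2
  let L := {f : G →* ℂˣ // (∀ n : N, f n = 1) ∧ ∀ g, f g ^ p = 1}
  let Φ : L → {χ : IrrCharacter G // (∀ n : N, (χ : G → ℂ) n = (θ : N → ℂ) n) ∧
      ∀ g : G, (χ : G → ℂ) (g ^ k) = (χ : G → ℂ) g} := fun f =>
    ⟨⟨_, CfsgLib.LinearTwist.isIrr_mul_hom χ₀.2 f.1⟩, fun n => by
      show (χ₀ : G → ℂ) n * (f.1 n : ℂ) = _
      rw [f.2.1, Units.val_one, mul_one, h], fun g => by
      show (χ₀ : G → ℂ) (g ^ k) * (f.1 (g ^ k) : ℂ) = (χ₀ : G → ℂ) g * (f.1 g : ℂ)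
      rw [hfix, map_pow_exponent hk₁ hk₂ f.1 hres f.2.1 g, pow_add, pow_one, f.2.2, mul_one]⟩
  have hΦ : Function.Bijective Φ := by
    refine ⟨fun f f' he => Subtype.ext (CfsgLib.LinearTwist.hom_eq_of_mul_eq N (irr_isCharacter χ₀) hirr f.1 f'.1
      (fun n => by rw [f.2.1, f'.2.1]) fun g => congrFun (congrArg (fun z => (z.1 : G → ℂ)) he) g), ?_⟩
    rintro ⟨χ, hχ, hχk⟩
    obtain ⟨α, hα1, hα⟩ := exists_linear_twist θ.2 (irr_isCharacter χ₀) (irr_isCharacter χ) h hχ
    refine ⟨⟨α, hα1, ?_⟩, Subtype.ext (Subtype.ext (funext fun g => (hα g).symm))⟩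
    have key : (powMonoidHom (1 + p)).comp α = α := by
      refine CfsgLib.LinearTwist.hom_eq_of_mul_eq N (irr_isCharacter χ₀) hirr _ _
        (fun n => by rw [MonoidHom.comp_apply, hα1, map_one]) fun g => ?_
      have h1 := hχk g
      rw [hα, hα, hfix, map_pow_exponent hk₁ hk₂ α hres hα1 g] at h1
      exact h1
    intro g
    have h2 := DFunLike.congr_fun key g
    rw [MonoidHom.comp_apply, powMonoidHom_apply, pow_add, pow_one] at h2
    exact mul_left_cancel (a := α g) (by rw [mul_one]; exact h2)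
  rw [← Nat.card_congr (Equiv.ofBijective Φ hΦ)]
  have hdvd : p ∣ orderOf (QuotientGroup.mk' N t) := by
    have ho : orderOf (QuotientGroup.mk' N t) = N.index := by
      rw [Subgroup.index_eq_card]; exact orderOf_eq_card_of_forall_mem_zpowers hq
    rw [ho]
    obtain ⟨e, he⟩ := CfsgLib.Transfer.pResidual_index_eq_pow (G := G) (p := p)
    rw [← hres] at he
    rw [he]
    exact dvd_pow_self p (by rintro rfl; exact hnt (Subgroup.index_eq_one.1 (he.trans (pow_zero p))))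
  refine (Nat.card_eq_of_bijective (fun f : L => (⟨f.1 t, (mem_rootsOfUnity p _).2 (f.2.2 t)⟩ : rootsOfUnity p ℂ))
    ⟨fun f f' he => ?_, fun z => ?_⟩).trans ?_
  · refine Subtype.ext (MonoidHom.ext fun x => ?_)
    obtain ⟨i, n, rfl⟩ := hgen x
    rw [map_mul, map_mul, map_zpow, map_zpow, f.2.1, f'.2.1, show f.1 t = f'.1 t from congrArg Subtype.val he]
  · have hz : (z : ℂˣ) ^ p = 1 := (mem_rootsOfUnity p _).1 z.2
    have hdz : orderOf (z : ℂˣ) ∣ orderOf (QuotientGroup.mk t : G ⧸ N) :=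
      (orderOf_dvd_of_pow_eq_one hz).trans hdvd
    let ψ : G ⧸ N →* ℂˣ := monoidHomOfForallMemZpowers hq hdz
    refine ⟨⟨ψ.comp (QuotientGroup.mk' N), fun n => ?_, fun g => ?_⟩, Subtype.ext
      (monoidHomOfForallMemZpowers_apply_gen hq hdz)⟩
    · rw [MonoidHom.comp_apply, QuotientGroup.mk'_apply, (QuotientGroup.eq_one_iff _).2 n.2, map_one]
    · obtain ⟨i, hi⟩ := Subgroup.mem_zpowers_iff.1 (hq (QuotientGroup.mk g))
      rw [MonoidHom.comp_apply, QuotientGroup.mk'_apply, ← hi, map_zpow,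
        monoidHomOfForallMemZpowers_apply_gen hq hdz, ← zpow_natCast, ← zpow_mul, mul_comm, zpow_mul, zpow_natCast,
        hz, one_zpow]
  · exact Complex.card_rootsOfUnity p

end CfsgLib.Blk4.ResidualExt
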