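import Cfsg.Agent.Lib.SemisimpleClass.Classes
import Cfsg.Agent.Lib.BlockCover.DefectRank
import Cfsg.Agent.Lib.Blk4.ChevalleyCount

/-!
# At most one block of defect zero of `SL(n, F)` in the defining characteristic
-/

set_option autoImplicit false
set_option linter.unusedSectionVars false
set_option linter.style.haveILetI false

namespace CfsgLib.Blk4.SLBlocks

section Generic

variable {G : Type*} [Group G] [Fintype G] {p : ℕ} [Fact p.Prime]

theorem natCard_sylow_mem_zmod {u : G} (hu : ∃ k, orderOf u = p ^ k) :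
    (Nat.card {T : Sylow p G // u ∈ (T : Subgroup G)} : ZMod p) = 1 := by
  classical
  obtain ⟨k, hk⟩ := hu
  have hz : IsPGroup p (Subgroup.zpowers u) := IsPGroup.of_card (n := k) (by rw [Nat.card_zpowers, hk])
  have h := (hz.card_modEq_card_fixedPoints (Sylow p G))
  have e : Nat.card (MulAction.fixedPoints (Subgroup.zpowers u) (Sylow p G)) =
      Nat.card {T : Sylow p G // u ∈ (T : Subgroup G)} :=
    Nat.card_congr (Equiv.subtypeEquivRight fun T => by
      rw [hz.sylow_mem_fixedPoints_iff, Subgroup.zpowers_le])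
  rw [e] at h
  rw [← (ZMod.natCast_eq_natCast_iff _ _ _).2 h,
    (ZMod.natCast_eq_natCast_iff _ _ _).2 (card_sylow_modEq_one p G), Nat.cast_one]

/-- The pair count at a class with centraliser of order prime to `p`, modulo `p`. -/
theorem pairCount_zmod (S : Sylow p G) {g h : G}
    (hg : ¬ p ∣ Nat.card (Subgroup.centralizer ({g} : Set G))) :
    ((CfsgLib.BlockCover.pairCount (S : Subgroup G) g h / p ^ (Nat.card G).factorization p : ℕ) : ZMod p) =
      (((Subgroup.centralizer ({g} : Set G)).index / p ^ (Nat.card G).factorization p : ℕ) : ZMod p) *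
        (Nat.card {u : G // (∃ k, orderOf u = p ^ k) ∧ IsConj h (u * g)} : ZMod p) := by
  classical
  have hp : p.Prime := Fact.out
  set a := (Nat.card G).factorization p
  set P : Sylow p G → ℕ := fun T => CfsgLib.BlockCover.pairCount (T : Subgroup G) g h with hP
  let Φ : G → ℕ := fun y => Nat.card (Σ u : {u : G // IsConj h (u * y)}, {T : Sylow p G // u.1 ∈ (T : Subgroup G)})
  have hmem : ∀ (c v : G) (T : Sylow p G), c * v * c⁻¹ ∈ ((c • T : Sylow p G) : Subgroup G) ↔ v ∈ (T : Subgroup G) :=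
    fun c v T => by
      rw [Sylow.coe_subgroup_smul, ← MulAut.conj_apply]
      exact Subgroup.smul_mem_pointwise_smul_iff
  have hconj : ∀ (x y c : G), IsConj x y → IsConj x (c * y * c⁻¹) := fun x y c hxy =>
    hxy.trans (isConj_iff.2 ⟨c, rfl⟩)
  -- the count does not depend on the Sylow subgroup
  have hPS : ∀ T, P T = P S := by
    intro T
    obtain ⟨c, rfl⟩ := MulAction.exists_smul_eq G S T
    refine (Nat.card_congr (Equiv.subtypeEquiv ((MulAut.conj c).toEquiv.prodCongr (MulAut.conj c).toEquiv) ?_)).symm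
    rintro ⟨y, z⟩
    simp only [Equiv.prodCongr_apply, MulEquiv.toEquiv_eq_coe, MulEquiv.coe_toEquiv, Prod.map_apply]
    have e : (MulAut.conj c) z * ((MulAut.conj c) y)⁻¹ = c * (z * y⁻¹) * c⁻¹ := by
      simp only [MulAut.conj_apply]; group
    rw [e, hmem]
    have back : ∀ x w : G, IsConj x ((MulAut.conj c) w) → IsConj x w := fun x w hw => by
      have := hconj x _ c⁻¹ hw
      simpa [mul_assoc] using this
    exact ⟨fun ⟨h1, h2, h3⟩ => ⟨hconj _ _ c h1, hconj _ _ c h2, h3⟩,
      fun ⟨h1, h2, h3⟩ => ⟨back _ _ h1, back _ _ h2, h3⟩⟩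
  -- the sum over the Sylow subgroups
  have hΦ : ∀ y, IsConj g y → Φ y = Φ g := by
    intro y hy
    obtain ⟨c, rfl⟩ := isConj_iff.1 hy
    refine (Nat.card_congr (Equiv.sigmaCongr
      (Equiv.subtypeEquiv (MulAut.conj c).toEquiv fun u => ?_)
      (fun u => Equiv.subtypeEquiv (MulAction.toPerm c) fun T => ?_))).symm
    · simp only [MulEquiv.toEquiv_eq_coe, MulEquiv.coe_toEquiv, MulAut.conj_apply]
      rw [show c * u * c⁻¹ * (c * g * c⁻¹) = c * (u * g) * c⁻¹ by group]
      exact ⟨hconj _ _ c, fun h' => by simpa [mul_assoc] using hconj _ _ c⁻¹ h'⟩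
    · exact (hmem c u.1 T).symm
  have hsum : ∑ T : Sylow p G, P T = (Subgroup.centralizer ({g} : Set G)).index * Φ g := by
    have e : (Σ T : Sylow p G, {yz : G × G // IsConj g yz.1 ∧ IsConj h yz.2 ∧ yz.2 * yz.1⁻¹ ∈ (T : Subgroup G)}) ≃
        Σ y : {y : G // IsConj g y}, Σ u : {u : G // IsConj h (u * y.1)}, {T : Sylow p G // u.1 ∈ (T : Subgroup G)} :=
      { toFun := fun s => ⟨⟨s.2.1.1, s.2.2.1⟩, ⟨s.2.1.2 * s.2.1.1⁻¹, by simpa using s.2.2.2.1⟩, ⟨s.1, s.2.2.2.2⟩⟩
        invFun := fun s => ⟨s.2.2.1, ⟨(s.1.1, s.2.1.1 * s.1.1), s.1.2, s.2.1.2, by simpa using s.2.2.2⟩⟩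
        left_inv := fun ⟨T, ⟨⟨y, z⟩, h1, h2, h3⟩⟩ => by simp
        right_inv := fun ⟨⟨y, hy⟩, ⟨u, hu⟩, ⟨T, hT⟩⟩ => by
          refine Sigma.ext rfl (heq_of_eq (Sigma.ext (Subtype.ext (mul_inv_cancel_right u y)) ?_))
          rw [Subtype.heq_iff_coe_eq (fun T' => by simp)] }
    simp only [hP, CfsgLib.BlockCover.pairCount]
    rw [← Nat.card_sigma, Nat.card_congr e, Nat.card_sigma]
    show (∑ y : {y : G // IsConj g y}, Φ y.1) = _
    rw [Finset.sum_congr rfl (fun y _ => hΦ y.1 y.2), Finset.sum_const, Finset.card_univ, smul_eq_mul]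
    congr 1
    rw [Fintype.card_subtype, ← CfsgLib.ClassCount.card_cls g]
    exact congrArg Finset.card (Finset.ext fun _ => by simp [CfsgLib.ClassCount.mem_cls])
  rw [Finset.sum_congr rfl (fun T _ => hPS T), Finset.sum_const, Finset.card_univ, smul_eq_mul] at hsum
  set N := Fintype.card (Sylow p G)
  have hN : (N : ZMod p) = 1 := by
    rw [← Nat.cast_one (R := ZMod p), ZMod.natCast_eq_natCast_iff, show N = Nat.card (Sylow p G) from
      (Nat.card_eq_fintype_card).symm]
    exact card_sylow_modEq_one p G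
  have hidx : p ^ a ∣ (Subgroup.centralizer ({g} : Set G)).index := by
    have h1 : p ^ a ∣ Nat.card (Subgroup.centralizer ({g} : Set G)) * (Subgroup.centralizer ({g} : Set G)).index := by
      rw [Subgroup.card_mul_index]
      exact Nat.ordProj_dvd _ p
    exact (Nat.Coprime.pow_left a (hp.coprime_iff_not_dvd.2 hg)).dvd_of_dvd_mul_left h1
  have hdvd : p ^ a ∣ P S := by
    have hcop : Nat.Coprime (p ^ a) N := Nat.Coprime.pow_left a (hp.coprime_iff_not_dvd.2 fun h0 => by
      rw [← ZMod.natCast_eq_zero_iff] at h0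
      rw [h0] at hN
      exact zero_ne_one hN)
    exact hcop.dvd_of_dvd_mul_left (hsum ▸ Dvd.dvd.mul_right hidx _)
  obtain ⟨r, hr⟩ := hdvd
  obtain ⟨c, hc⟩ := hidx
  have hr' : N * r = c * Φ g := by
    rw [hr, hc] at hsum
    apply Nat.eq_of_mul_eq_mul_left (pow_pos hp.pos a)
    linarith
  change ((P S / p ^ a : ℕ) : ZMod p) = _
  rw [hr, hc, Nat.mul_div_cancel_left _ (pow_pos hp.pos a), Nat.mul_div_cancel_left _ (pow_pos hp.pos a)]
  have h2 := congrArg (fun m : ℕ => (m : ZMod p)) hr'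
  simp only [Nat.cast_mul, hN, one_mul] at h2
  rw [h2]
  congr 1
  simp only [Φ]
  rw [Nat.card_sigma, Nat.cast_sum, ← Finset.sum_filter_add_sum_filter_not Finset.univ
    (fun u : {u : G // IsConj h (u * g)} => ∃ k, orderOf u.1 = p ^ k)]
  rw [Finset.sum_eq_zero (s := Finset.univ.filter fun u : {u : G // IsConj h (u * g)} =>
    ¬ ∃ k, orderOf u.1 = p ^ k) fun u hu => ?_, add_zero]
  · rw [Finset.sum_congr rfl (g := fun _ => (1 : ZMod p)) fun u hu =>
      natCard_sylow_mem_zmod (Finset.mem_filter.1 hu).2]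
    rw [Finset.sum_const, nsmul_eq_mul, mul_one]
    congr 1
    rw [Nat.card_eq_fintype_card, Fintype.card_subtype]
    refine Finset.card_bij (fun u _ => u.1) (fun u hu => ?_) (fun _ _ _ _ => Subtype.ext) fun u hu => ?_
    · exact Finset.mem_filter.2 ⟨Finset.mem_univ _, (Finset.mem_filter.1 hu).2, u.2⟩
    · obtain ⟨-, h1, h2⟩ := Finset.mem_filter.1 hu
      exact ⟨⟨u, h2⟩, Finset.mem_filter.2 ⟨Finset.mem_univ _, h1⟩, rfl⟩
  · haveI : IsEmpty {T : Sylow p G // u.1 ∈ (T : Subgroup G)} := ⟨fun T => (Finset.mem_filter.1 hu).2 (by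
      obtain ⟨k, hk⟩ := IsPGroup.iff_orderOf.1 T.1.2 ⟨u.1, T.2⟩
      exact ⟨k, by rwa [Subgroup.orderOf_mk] at hk⟩)⟩
    rw [Nat.card_of_isEmpty, Nat.cast_zero]

end Generic

section SL

open Matrix Polynomial

variable {F : Type*} [Field F] [Fintype F] {n : ℕ} (p : ℕ) [Fact p.Prime] [CharP F p]

theorem charpoly_eq_of_coeff {A B : Matrix (Fin n) (Fin n) F}
    (h : ∀ i < n, A.charpoly.coeff i = B.charpoly.coeff i) : A.charpoly = B.charpoly := by
  have hA : A.charpoly.natDegree = n := by rw [A.charpoly_natDegree_eq_dim, Fintype.card_fin]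
  have hB : B.charpoly.natDegree = n := by rw [B.charpoly_natDegree_eq_dim, Fintype.card_fin]
  refine Polynomial.ext fun i => ?_
  rcases lt_trichotomy i n with hi | rfl | hi
  · exact h i hi
  · have h1 := A.charpoly_monic.coeff_natDegree
    have h2 := B.charpoly_monic.coeff_natDegree
    rw [hA] at h1
    rw [hB] at h2
    rw [h1, h2]
  · rw [coeff_eq_zero_of_natDegree_lt (by omega), coeff_eq_zero_of_natDegree_lt (by omega)]

theorem coeff_zero_eq_of_det {A B : Matrix (Fin n) (Fin n) F} (h : A.det = B.det) :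
    A.charpoly.coeff 0 = B.charpoly.coeff 0 := by
  rw [A.det_eq_sign_charpoly_coeff, B.det_eq_sign_charpoly_coeff] at h
  exact mul_left_cancel₀ (pow_ne_zero _ (neg_ne_zero.2 one_ne_zero)) h

/-- The elements of `p`-power order are those with unipotent characteristic polynomial. -/
theorem orderOf_pow_iff (u : Matrix.SpecialLinearGroup (Fin n) F) :
    (∃ k, orderOf u = p ^ k) ↔
      (u : Matrix (Fin n) (Fin n) F).charpoly = (1 : Matrix (Fin n) (Fin n) F).charpoly := by
  rcases isEmpty_or_nonempty (Fin n) with hn | hn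
  · refine iff_of_true ⟨0, ?_⟩ (congrArg _ (Subsingleton.elim _ _))
    rw [Subsingleton.elim u 1, orderOf_one, pow_zero]
  constructor
  · rintro ⟨k, hk⟩
    obtain ⟨f, -, hf⟩ := FiniteField.card F p
    rw [← CfsgLib.SemisimpleClass.charpoly_pow_card_pow (u : Matrix (Fin n) (Fin n) F) k,
      ← Matrix.SpecialLinearGroup.coe_pow, hf, orderOf_dvd_iff_pow_eq_one.1 (?_ : orderOf u ∣ (p ^ (f : ℕ)) ^ k),
      Matrix.SpecialLinearGroup.coe_one]
    rw [hk, ← pow_mul]
    exact pow_dvd_pow p (Nat.le_mul_of_pos_left k f.pos)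
  · intro h
    haveI : CharP (Matrix (Fin n) (Fin n) F) p := inferInstance
    have h0 := Matrix.aeval_self_charpoly (u : Matrix (Fin n) (Fin n) F)
    rw [h, Matrix.charpoly_one, map_pow, map_sub, aeval_X, map_one, Fintype.card_fin] at h0
    have hu : u ^ p ^ n = 1 := by
      refine Subtype.ext ((Matrix.SpecialLinearGroup.coe_pow u (p ^ n)).trans ?_)
      rw [show (u : Matrix (Fin n) (Fin n) F) = ((u : Matrix (Fin n) (Fin n) F) - 1) + 1 from
          (sub_add_cancel _ _).symm,
        add_pow_char_pow_of_commute _ _ (Commute.one_right _), one_pow,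
        pow_eq_zero_of_le (Nat.lt_pow_self (Fact.out : p.Prime).one_lt).le h0, zero_add]
      rfl
    obtain ⟨m, -, hm⟩ := (Nat.dvd_prime_pow (Fact.out : p.Prime)).1 (orderOf_dvd_iff_pow_eq_one.2 hu)
    exact ⟨m, hm⟩

theorem charpoly_eq_of_isConj {x y : Matrix.SpecialLinearGroup (Fin n) F} (h : IsConj x y) :
    (x : Matrix (Fin n) (Fin n) F).charpoly = (y : Matrix (Fin n) (Fin n) F).charpoly := by
  obtain ⟨c, rfl⟩ := isConj_iff.mp h
  let cu : (Matrix (Fin n) (Fin n) F)ˣ := Matrix.SpecialLinearGroup.toGL c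
  show _ = Matrix.charpoly ((cu : Matrix (Fin n) (Fin n) F) * (x : Matrix (Fin n) (Fin n) F) *
    ((cu⁻¹ : (Matrix (Fin n) (Fin n) F)ˣ) : Matrix (Fin n) (Fin n) F))
  rw [Matrix.coe_units_inv, Matrix.charpoly_units_conj]

/-- A class whose centraliser has order prime to the characteristic is all of its fibre. -/
theorem isConj_iff_charpoly {y z : Matrix.SpecialLinearGroup (Fin n) F}
    (hy : ¬ p ∣ Nat.card (Subgroup.centralizer ({y} : Set (Matrix.SpecialLinearGroup (Fin n) F)))) :
    IsConj y z ↔ (y : Matrix (Fin n) (Fin n) F).charpoly = (z : Matrix (Fin n) (Fin n) F).charpoly := by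
  classical
  refine ⟨charpoly_eq_of_isConj, fun h => ?_⟩
  have hp : p.Prime := Fact.out
  have hreg : ∀ w, w ∈ Subgroup.centralizer ({y} : Set (Matrix.SpecialLinearGroup (Fin n) F)) →
      (orderOf w).Coprime p := fun w hw =>
    (hp.coprime_iff_not_dvd.2 fun hd => hy (hd.trans ((Subgroup.orderOf_mk w hw).symm ▸ orderOf_dvd_natCard
      (⟨w, hw⟩ : Subgroup.centralizer ({y} : Set (Matrix.SpecialLinearGroup (Fin n) F)))))).symm
  have hy0 : (orderOf y).Coprime p := hreg y (Subgroup.mem_centralizer_singleton_iff.2 rfl)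
  obtain ⟨f, -, hf⟩ := FiniteField.card F p
  obtain ⟨a, m, hm, he⟩ := Nat.exists_eq_pow_mul_and_not_dvd (orderOf_pos z).ne' p hp.ne_one
  set s := z ^ Fintype.card F ^ a with hs
  have hs0 : (orderOf s).Coprime p := by
    refine Nat.Coprime.coprime_dvd_left (orderOf_dvd_of_pow_eq_one ?_) ((hp.coprime_iff_not_dvd.2 hm).symm)
    rw [hs, ← pow_mul]
    refine orderOf_dvd_iff_pow_eq_one.mp ?_
    rw [he]
    refine Nat.mul_dvd_mul_right ?_ m
    rw [hf, ← pow_mul]
    exact pow_dvd_pow p (Nat.le_mul_of_pos_left a f.pos)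
  have hsc : (s : Matrix (Fin n) (Fin n) F).charpoly = (z : Matrix (Fin n) (Fin n) F).charpoly := by
    rw [hs, Matrix.SpecialLinearGroup.coe_pow, CfsgLib.SemisimpleClass.charpoly_pow_card_pow]
  have hys := CfsgLib.SemisimpleClass.SL_isConj_of_charpoly_eq p n y s hy0 hs0 (h.trans hsc.symm)
  obtain ⟨c, hc⟩ := isConj_iff.1 hys
  have hz : c⁻¹ * z * c ∈ Subgroup.centralizer ({y} : Set (Matrix.SpecialLinearGroup (Fin n) F)) := by
    rw [Subgroup.mem_centralizer_singleton_iff]
    have hcomm : s * z = z * s := ((Commute.refl z).pow_left _).eq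
    rw [show y = c⁻¹ * s * c by rw [← hc]; group]
    calc c⁻¹ * z * c * (c⁻¹ * s * c) = c⁻¹ * (z * s) * c := by group
      _ = c⁻¹ * (s * z) * c := by rw [hcomm]
      _ = c⁻¹ * s * c * (c⁻¹ * z * c) := by group
  have hz0 : (orderOf z).Coprime p := by
    have := hreg _ hz
    rwa [show c⁻¹ * z * c = MulAut.conj c⁻¹ z by simp, MulEquiv.orderOf_eq] at this
  exact CfsgLib.SemisimpleClass.SL_isConj_of_charpoly_eq p n y z hy0 hz0 h

/-- The number, modulo `p`, of unipotent `u` moving `x` into a given regular semisimple class does not depend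
on the class. -/
theorem natCard_unipotent_translate (x : Matrix.SpecialLinearGroup (Fin n) F)
    {y : Matrix.SpecialLinearGroup (Fin n) F}
    (hy : ¬ p ∣ Nat.card (Subgroup.centralizer ({y} : Set (Matrix.SpecialLinearGroup (Fin n) F)))) :
    (Nat.card {u : Matrix.SpecialLinearGroup (Fin n) F // (∃ k, orderOf u = p ^ k) ∧ IsConj y (u * x)} : ZMod p) =
      (Nat.card {u : Matrix (Fin n) (Fin n) F //
        (∀ i < n, u.charpoly.coeff i = (1 : Matrix (Fin n) (Fin n) F).charpoly.coeff i) ∧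
        ∀ i, 1 ≤ i → i < n → (u * (x : Matrix (Fin n) (Fin n) F)).charpoly.coeff i = 0} : ZMod p) := by
  rw [ZMod.natCast_eq_natCast_iff, ← CharP.natCast_eq_natCast F p,
    Chevalley.natCard_charpoly_pair_eq (x : Matrix (Fin n) (Fin n) F) _
      (fun i => (1 : Matrix (Fin n) (Fin n) F).charpoly.coeff i) (fun _ => (0 : F))
      (fun i => (y : Matrix (Fin n) (Fin n) F).charpoly.coeff i)]
  congr 1
  have hdet : ∀ u : Matrix (Fin n) (Fin n) F,
      (∀ i < n, u.charpoly.coeff i = (1 : Matrix (Fin n) (Fin n) F).charpoly.coeff i) → u.det = 1 := by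
    intro u hu
    rw [u.det_eq_sign_charpoly_coeff, charpoly_eq_of_coeff hu, ← Matrix.det_eq_sign_charpoly_coeff, Matrix.det_one]
  refine Nat.card_congr
    { toFun := fun u => ⟨(u.1 : Matrix (Fin n) (Fin n) F), fun i _ => by rw [(orderOf_pow_iff p u.1).1 u.2.1],
        fun i _ _ => by rw [← Matrix.SpecialLinearGroup.coe_mul, ← (isConj_iff_charpoly p hy).1 u.2.2]⟩
      invFun := fun u => ⟨⟨u.1, hdet u.1 u.2.1⟩, (orderOf_pow_iff p _).2 (charpoly_eq_of_coeff u.2.1),
        (isConj_iff_charpoly p hy).2 (charpoly_eq_of_coeff fun i hi => ?_).symm⟩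
      left_inv := fun u => by rfl
      right_inv := fun u => by rfl }
  change (u.1 * (x : Matrix (Fin n) (Fin n) F)).charpoly.coeff i =
    (y : Matrix (Fin n) (Fin n) F).charpoly.coeff i
  rcases Nat.eq_zero_or_pos i with rfl | h1
  · refine coeff_zero_eq_of_det ?_
    rw [Matrix.det_mul]
    simp [hdet u.1 u.2.1]
  · exact u.2.2 i h1 hi

/-- There is at most one block of defect group `⊥`. -/
theorem natCard_trivial_defect_le_one {M : Ideal Cfsg.AlgInt} (hM : Cfsg.IsPModular p M) :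
    Nat.card {B : Set (Cfsg.IrrCharacter (Matrix.SpecialLinearGroup (Fin n) F)) //
      Cfsg.IsPBlock M B ∧ Cfsg.IsDefectGroup p M B ⊥} ≤ 1 := by
  classical
  have hp : p.Prime := Fact.out
  let G := Matrix.SpecialLinearGroup (Fin n) F
  letI : Fintype G := Fintype.ofFinite G
  obtain ⟨S⟩ : Nonempty (Sylow p G) := inferInstance
  let good : G → Prop := fun g => ¬ p ∣ Nat.card (Subgroup.centralizer ({g} : Set G))
  let ι := {C : ConjClasses G // ∃ g, ConjClasses.mk g = C ∧ good g}
  letI : Fintype ι := Fintype.ofFinite _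
  choose x hx hxg using fun i : ι => i.2
  have hQ : ∀ g : G, good g ↔ ∃ Q : Sylow p (Subgroup.centralizer ({g} : Set G)),
      (Q : Subgroup _).map (Subgroup.centralizer ({g} : Set G)).subtype = (⊥ : Subgroup G) := by
    intro g
    refine ⟨fun hg => ?_, ?_⟩
    · obtain ⟨Q⟩ : Nonempty (Sylow p (Subgroup.centralizer ({g} : Set G))) := inferInstance
      refine ⟨Q, Subgroup.card_eq_one.1 ?_⟩
      rw [CfsgLib.BlockCover.natCard_sylow_centralizer, Nat.factorization_eq_zero_of_not_dvd hg, pow_zero]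
    · rintro ⟨Q, hQ⟩ hd
      have h1 := CfsgLib.BlockCover.natCard_sylow_centralizer Q
      rw [hQ, Subgroup.card_bot] at h1
      exact (hp.factorization_pos_of_dvd Nat.card_pos.ne' hd).ne'
        ((Nat.pow_eq_one.1 h1.symm).resolve_left hp.ne_one)
  rw [CfsgLib.BlockCover.rank_pairCount hM ⊥ S x (fun i j h => Subtype.ext (by
      rw [← hx i, ← hx j]; exact ConjClasses.mk_eq_mk_iff_isConj.2 h))
    (fun i hd => hxg i (hd.trans (by
      rw [← Subgroup.orderOf_mk (x i) (Subgroup.mem_centralizer_singleton_iff.2 rfl :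
        x i ∈ Subgroup.centralizer ({x i} : Set G))]
      exact orderOf_dvd_natCard _)))
    (fun i => (hQ _).1 (hxg i)) (fun g _ hg => ⟨⟨_, g, rfl, (hQ g).2 hg⟩, ConjClasses.mk_eq_mk_iff_isConj.1 (hx _)⟩)]
  let row : ι → ZMod p := fun i =>
    (((Subgroup.centralizer ({x i} : Set G)).index / p ^ (Nat.card G).factorization p : ℕ) : ZMod p) *
      (Nat.card {u : Matrix (Fin n) (Fin n) F //
        (∀ k < n, u.charpoly.coeff k = (1 : Matrix (Fin n) (Fin n) F).charpoly.coeff k) ∧
        ∀ k, 1 ≤ k → k < n → (u * ((x i : G) : Matrix (Fin n) (Fin n) F)).charpoly.coeff k = 0} : ZMod p)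
  refine le_of_eq_of_le ?_ (Matrix.rank_vecMulVec_le row (fun _ : ι => (1 : ZMod p)))
  congr 1
  ext i j
  rw [Matrix.vecMulVec_apply, mul_one, Matrix.of_apply, Subgroup.card_bot, Nat.factorization_one,
    Finsupp.coe_zero, Pi.zero_apply, Nat.sub_zero, pairCount_zmod S (hxg i),
    natCard_unipotent_translate p (x i) (hxg j)]

end SL

end CfsgLib.Blk4.SLBlocks
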