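import Cfsg.Agent.Lib.Unipotent.BorelTits
import Cfsg.Agent.Lib.PCore.Basic
import Cfsg.Agent.Lib.BlockCover.DefectGroup
import Cfsg.Agent.S0955

/-!
# Blocks of the special linear group in the defining characteristic: defect zero or full
-/

set_option autoImplicit false
set_option linter.unusedSectionVars false
set_option linter.style.haveILetI false

namespace CfsgLib.Blk4.SLBlocks

open Matrix

variable {F : Type*} [Field F] [Fintype F] {n : ℕ}

variable (p : ℕ) [Fact p.Prime] [CharP F p]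

/-- The elements acting trivially on the factors of a flag. -/
noncomputable def flagUnip {k : ℕ} (V : Fin (k + 2) → Submodule F (Fin n → F)) (hV : Monotone V) :
    Subgroup (SpecialLinearGroup (Fin n) F) where
  carrier := {g | ∀ i : Fin (k + 1), ∀ v ∈ V i.succ,
    (g : Matrix (Fin n) (Fin n) F) *ᵥ v - v ∈ V (Fin.castSucc i)}
  one_mem' := fun i v _ => by simp
  mul_mem' := by
    intro a b ha hb i v hv
    have h1 := hb i v hv
    have h2 : (b : Matrix (Fin n) (Fin n) F) *ᵥ v ∈ V i.succ := by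
      have := Submodule.add_mem _ (hV (Fin.castSucc_lt_succ (i := i)).le h1) hv
      rwa [sub_add_cancel] at this
    have := Submodule.add_mem _ (ha i _ h2) h1
    rw [sub_add_sub_cancel, mulVec_mulVec] at this
    simpa using this
  inv_mem' := by
    intro a ha i v hv
    have hpow : ∀ m : ℕ, ∀ i : Fin (k + 1), ∀ w ∈ V i.succ,
        ((a ^ m : SpecialLinearGroup (Fin n) F) : Matrix (Fin n) (Fin n) F) *ᵥ w - w ∈ V (Fin.castSucc i) := by
      intro m
      induction m with
      | zero => intro i w _; simp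
      | succ m ih =>
        intro i w hw
        have h1 := ha i w hw
        have h2 : (a : Matrix (Fin n) (Fin n) F) *ᵥ w ∈ V i.succ := by
          have := Submodule.add_mem _ (hV (Fin.castSucc_lt_succ (i := i)).le h1) hw
          rwa [sub_add_cancel] at this
        have := Submodule.add_mem _ (ih i _ h2) h1
        rw [sub_add_sub_cancel, mulVec_mulVec] at this
        rw [pow_succ]
        simpa using this
    have e : a⁻¹ = a ^ (orderOf a - 1) := by
      rw [eq_comm, ← mul_eq_one_iff_eq_inv, ← pow_succ, Nat.sub_add_cancel (orderOf_pos a),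
        pow_orderOf_eq_one]
    rw [e]
    exact hpow _ i v hv

theorem isPGroup_flagUnip {k : ℕ} (V : Fin (k + 2) → Submodule F (Fin n → F)) (hV : Monotone V)
    (h0 : V 0 = ⊥) (h1 : V (Fin.last (k + 1)) = ⊤) : IsPGroup p (flagUnip V hV) := by
  rintro ⟨g, hg⟩
  obtain ⟨m, hm⟩ : ∃ m, k + 1 ≤ p ^ m := ⟨k + 1, (Nat.lt_pow_self (Fact.out : p.Prime).one_lt).le⟩
  refine ⟨m, Subtype.ext (Subtype.ext ?_)⟩
  rcases isEmpty_or_nonempty (Fin n) with hn | hn
  · exact Subsingleton.elim _ _
  haveI : CharP (Matrix (Fin n) (Fin n) F) p := inferInstance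
  set N := (g : Matrix (Fin n) (Fin n) F) - 1 with hN
  have hkill : ∀ j : ℕ, ∀ i : Fin (k + 2), i.val ≤ j → ∀ v ∈ V i, (N ^ j) *ᵥ v = 0 := by
    intro j
    induction j with
    | zero =>
      intro i hi v hv
      rw [show i = 0 from Fin.ext (by simpa using hi), h0, Submodule.mem_bot] at hv
      simp [hv]
    | succ j ih =>
      intro i hi v hv
      rcases Fin.eq_zero_or_eq_succ i with rfl | ⟨i, rfl⟩
      · rw [h0, Submodule.mem_bot] at hv
        simp [hv]
      · rw [pow_succ, ← mulVec_mulVec]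
        refine ih (Fin.castSucc i) (by simp at hi ⊢; omega) _ ?_
        rw [hN, sub_mulVec, one_mulVec]
        exact hg i v hv
  have hnil : N ^ (k + 1) = 0 := by
    refine Matrix.ext_of_mulVec_single fun j => ?_
    rw [zero_mulVec]
    exact hkill _ (Fin.last (k + 1)) (by simp) _ (by rw [h1]; exact Submodule.mem_top)
  refine Eq.trans (Matrix.SpecialLinearGroup.coe_pow g (p ^ m)) ?_
  rw [show (g : Matrix (Fin n) (Fin n) F) = N + 1 by rw [hN, sub_add_cancel],
    add_pow_char_pow_of_commute _ _ (Commute.one_right N), one_pow, pow_eq_zero_of_le hm hnil, zero_add]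
  rfl

theorem flagUnip_conj {k : ℕ} (V : Fin (k + 2) → Submodule F (Fin n → F)) (hV : Monotone V)
    {h : SpecialLinearGroup (Fin n) F}
    (hh : ∀ i, (V i).map (mulVecLin (h : Matrix (Fin n) (Fin n) F)) = V i) {g : SpecialLinearGroup (Fin n) F}
    (hg : g ∈ flagUnip V hV) : h * g * h⁻¹ ∈ flagUnip V hV := by
  intro i v hv
  rw [← hh i.succ] at hv
  obtain ⟨w, hw, rfl⟩ := hv
  have e : ((h * g * h⁻¹ : SpecialLinearGroup (Fin n) F) : Matrix (Fin n) (Fin n) F) *ᵥ
      (mulVecLin (h : Matrix (Fin n) (Fin n) F) w) - mulVecLin (h : Matrix (Fin n) (Fin n) F) w =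
        mulVecLin (h : Matrix (Fin n) (Fin n) F) ((g : Matrix (Fin n) (Fin n) F) *ᵥ w - w) := by
    rw [map_sub, mulVecLin_apply, mulVecLin_apply, mulVec_mulVec, mulVec_mulVec]
    congr 2
    refine (Matrix.SpecialLinearGroup.coe_mul (h * g * h⁻¹) h).symm.trans
      (Eq.trans ?_ (Matrix.SpecialLinearGroup.coe_mul h g))
    rw [inv_mul_cancel_right]
  rw [e, ← hh (Fin.castSucc i)]
  exact ⟨_, hg i w hw, rfl⟩

/-- A defect group equal to the largest normal subgroup of `p`-power order of its normaliser is the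
whole unipotent radical of the flag it stabilises. -/
theorem eq_flagUnip {D : Subgroup (SpecialLinearGroup (Fin n) F)}
    (hD : (Cfsg.pCore p (Subgroup.normalizer (D : Set (SpecialLinearGroup (Fin n) F)))).map
      (Subgroup.normalizer (D : Set (SpecialLinearGroup (Fin n) F))).subtype = D)
    {k : ℕ} (V : Fin (k + 2) → Submodule F (Fin n → F)) (hV : Monotone V)
    (h0 : V 0 = ⊥) (h1 : V (Fin.last (k + 1)) = ⊤)
    (hN : ∀ g ∈ Subgroup.normalizer (D : Set (SpecialLinearGroup (Fin n) F)),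
      ∀ i, (V i).map (mulVecLin (g : Matrix (Fin n) (Fin n) F)) = V i)
    (hDV : D ≤ flagUnip V hV) : D = flagUnip V hV := by
  set U := flagUnip V hV
  set N := Subgroup.normalizer (D : Set (SpecialLinearGroup (Fin n) F)) with hNdef
  have hUp : IsPGroup p U := isPGroup_flagUnip p V hV h0 h1
  by_contra hne
  have hlt : D.subgroupOf U < ⊤ := lt_top_iff_ne_top.2 fun h =>
    hne (le_antisymm hDV (Subgroup.subgroupOf_eq_top.1 h))
  haveI := hUp.isNilpotent
  have hnc := Group.normalizerCondition_of_isNilpotent (G := U) _ hlt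
  obtain ⟨y, hy, hy'⟩ := SetLike.exists_of_lt hnc
  apply hy'
  have hyN : (y : SpecialLinearGroup (Fin n) F) ∈ N := by
    rw [hNdef, Subgroup.mem_normalizer_iff]
    intro z
    rw [Subgroup.mem_normalizer_iff] at hy
    constructor
    · intro hz
      have := (hy ⟨z, hDV hz⟩).1 hz
      exact this
    · intro hz
      have hzU : z ∈ U := by
        have := U.mul_mem (U.mul_mem (U.inv_mem y.2) (hDV hz)) y.2
        simpa [mul_assoc] using this
      exact (hy ⟨z, hzU⟩).2 hz
  rw [Subgroup.mem_subgroupOf, ← hD]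
  refine ⟨⟨(y : SpecialLinearGroup (Fin n) F), hyN⟩, ?_, rfl⟩
  refine CfsgLib.PCore.le_pCore (N := U.subgroupOf N) ⟨fun u hu h => ?_⟩ ?_ (Subgroup.mem_subgroupOf.2 y.2)
  · rw [Subgroup.mem_subgroupOf] at hu ⊢
    exact flagUnip_conj V hV (hN _ h.2) hu
  · exact (hUp.comap_of_injective N.subtype N.subtype_injective)

theorem det_one_add_vecMulVec {u v : Fin n → F} (h : v ⬝ᵥ u = 0) : (1 + vecMulVec u v).det = 1 := by
  rw [Matrix.vecMulVec_eq Unit, det_one_add_replicateCol_mul_replicateRow, h, add_zero]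

/-- A `p`-regular element centralising the unipotent radical of a proper flag is central. -/
theorem mem_center_of_centralizes {k : ℕ} (hk : 1 ≤ k) (V : Fin (k + 2) → Submodule F (Fin n → F))
    (hV : StrictMono V) (h0 : V 0 = ⊥) {x : SpecialLinearGroup (Fin n) F}
    (hx : ¬ p ∣ orderOf x) (hc : ∀ g ∈ flagUnip V hV.monotone, x * g = g * x) :
    x ∈ Subgroup.center (SpecialLinearGroup (Fin n) F) := by
  classical
  set X : Matrix (Fin n) (Fin n) F := (x : Matrix (Fin n) (Fin n) F)
  set W := V ⟨1, by omega⟩ with hW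
  obtain ⟨v₀, hv₀⟩ : ∃ v, v ∉ W := by
    have : W < ⊤ := lt_of_lt_of_le (hV (b := ⟨2, by omega⟩) (Fin.lt_def.2 (by simp))) le_top
    obtain ⟨v, -, hv⟩ := SetLike.exists_of_lt this
    exact ⟨v, hv⟩
  obtain ⟨w₀, hw₀, hw₀'⟩ : ∃ w, w ∈ W ∧ w ≠ 0 := by
    have h := hV (a := 0) (b := ⟨1, by omega⟩) (Fin.lt_def.2 (by simp))
    rw [h0, ← hW] at h
    exact Submodule.exists_mem_ne_zero_of_ne_bot h.ne'
  have hsep : ∀ v ∉ W, ∃ φ : Fin n → F, (∀ u ∈ W, φ ⬝ᵥ u = 0) ∧ φ ⬝ᵥ v = 1 := by
    intro v hv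
    obtain ⟨f, hf, hfW⟩ := Submodule.exists_dual_map_eq_bot_of_notMem hv inferInstance
    refine ⟨(f v)⁻¹ • (dotProductEquiv F (Fin n)).symm f, fun u hu => ?_, ?_⟩
    · have h2 : f u = 0 := by
        have : f u ∈ W.map f := ⟨u, hu, rfl⟩
        rwa [hfW, Submodule.mem_bot] at this
      rw [smul_dotProduct, ← dotProductEquiv_apply_apply, LinearEquiv.apply_symm_apply, h2, smul_zero]
    · rw [smul_dotProduct, ← dotProductEquiv_apply_apply, LinearEquiv.apply_symm_apply, smul_eq_mul,
        inv_mul_cancel₀ hf]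
  -- the commutation with the transvection groups
  have hcomm : ∀ w ∈ W, ∀ φ : Fin n → F, (∀ u ∈ W, φ ⬝ᵥ u = 0) → ∀ v,
      (φ ⬝ᵥ v) • (X *ᵥ w) = (φ ⬝ᵥ (X *ᵥ v)) • w := by
    intro w hw φ hφ v
    let g : SpecialLinearGroup (Fin n) F := ⟨1 + vecMulVec w φ, det_one_add_vecMulVec (hφ w hw)⟩
    have hg : g ∈ flagUnip V hV.monotone := by
      intro i u hu
      show (1 + vecMulVec w φ) *ᵥ u - u ∈ _
      rw [add_mulVec, one_mulVec, add_sub_cancel_left, vecMulVec_mulVec, op_smul_eq_smul]
      rcases Nat.eq_zero_or_pos i.val with hi | hi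
      · have hi' : i.succ = ⟨1, by omega⟩ := Fin.ext (by simp [hi])
        rw [hi', ← hW] at hu
        rw [hφ u hu, zero_smul]
        exact Submodule.zero_mem _
      · exact Submodule.smul_mem _ _ (hV.monotone (a := ⟨1, by omega⟩) (Fin.le_def.2 (by simp only [Fin.val_castSucc]; omega)) hw)
    have h := congrArg (fun z : SpecialLinearGroup (Fin n) F => (z : Matrix (Fin n) (Fin n) F) *ᵥ v) (hc g hg)
    replace h : (X * (1 + vecMulVec w φ)) *ᵥ v = ((1 + vecMulVec w φ) * X) *ᵥ v := h
    simp only [← mulVec_mulVec, add_mulVec, one_mulVec, vecMulVec_mulVec,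
      op_smul_eq_smul, mulVec_add, mulVec_smul] at h
    exact add_left_cancel h
  obtain ⟨φ₀, hφ₀, hφ₀'⟩ := hsep v₀ hv₀
  set c := φ₀ ⬝ᵥ (X *ᵥ v₀) with hcdef
  have hXW : ∀ w ∈ W, X *ᵥ w = c • w := fun w hw => by
    have := hcomm w hw φ₀ hφ₀ v₀
    rwa [hφ₀', one_smul] at this
  have hXtop : ∀ v, X *ᵥ v - c • v ∈ W := by
    intro v
    by_contra hv
    obtain ⟨φ, hφ, hφ'⟩ := hsep _ hv
    have := hcomm w₀ hw₀ φ hφ v
    rw [hXW w₀ hw₀, smul_smul] at this
    have h2 := smul_left_injective F hw₀' this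
    rw [dotProduct_sub, dotProduct_smul, smul_eq_mul, ← h2, mul_comm c, sub_self] at hφ'
    exact zero_ne_one hφ'
  set A := X - c • (1 : Matrix (Fin n) (Fin n) F) with hA
  have hA2 : A ^ 2 = 0 := by
    refine Matrix.ext_of_mulVec_single fun j => ?_
    rw [pow_two, ← mulVec_mulVec, zero_mulVec]
    have e : ∀ v, A *ᵥ v = X *ᵥ v - c • v := fun v => by rw [hA, sub_mulVec, smul_mulVec, one_mulVec]
    rw [e (Pi.single j 1), e, hXW _ (hXtop _), sub_self]
  haveI : Nonempty (Fin n) := by
    by_contra hne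
    rw [not_nonempty_iff] at hne
    exact hw₀' (Subsingleton.elim _ _)
  haveI : CharP (Matrix (Fin n) (Fin n) F) p := inferInstance
  have hXp : X ^ p = c ^ p • (1 : Matrix (Fin n) (Fin n) F) := by
    have hp2 : 2 ≤ p := (Fact.out : p.Prime).two_le
    rw [show X = c • (1 : Matrix (Fin n) (Fin n) F) + A by rw [hA, add_sub_cancel],
      add_pow_char_of_commute _ ((Commute.one_left A).smul_left c), _root_.smul_pow, one_pow,
      pow_eq_zero_of_le hp2 hA2, add_zero]
  obtain ⟨m, hm⟩ := exists_pow_eq_self_of_coprime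
    ((Fact.out : p.Prime).coprime_iff_not_dvd.2 hx : Nat.Coprime p (orderOf x))
  have hX : X = (c ^ p) ^ m • (1 : Matrix (Fin n) (Fin n) F) := by
    conv_lhs => rw [show X = ((x ^ p) ^ m : SpecialLinearGroup (Fin n) F) by rw [hm]]
    rw [Matrix.SpecialLinearGroup.coe_pow, Matrix.SpecialLinearGroup.coe_pow, show (x : Matrix (Fin n) (Fin n) F) = X from rfl,
      hXp, _root_.smul_pow, one_pow]
  rw [Subgroup.mem_center_iff]
  intro g
  refine Subtype.ext ?_
  simp only [Matrix.SpecialLinearGroup.coe_mul]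
  rw [show (x : Matrix (Fin n) (Fin n) F) = X from rfl, hX, smul_mul_assoc, mul_smul_comm, one_mul, mul_one]

/-- In the defining characteristic every block of `SL(n, F)` has defect zero or full defect. -/
theorem defect_zero_or_full {M : Ideal Cfsg.AlgInt} (hM : Cfsg.IsPModular p M)
    {B : Set (Cfsg.IrrCharacter (SpecialLinearGroup (Fin n) F))} (hB : Cfsg.IsPBlock M B) :
    Cfsg.blockDefect p B = 0 ∨
      Cfsg.blockDefect p B = (Nat.card (SpecialLinearGroup (Fin n) F)).factorization p := by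
  classical
  letI := Fintype.ofFinite (SpecialLinearGroup (Fin n) F)
  haveI := hM.2.1
  obtain ⟨D, hD⟩ := CfsgLib.BrauerPairs.exists_defectGroup hM hB
  have hcard := CfsgLib.BlockCover.natCard_defect hM hB hD
  have hp : p.Prime := Fact.out
  rcases eq_or_ne D ⊥ with rfl | hne
  · left
    rw [Subgroup.card_bot] at hcard
    exact (Nat.pow_eq_one.1 hcard.symm).resolve_left hp.ne_one
  right
  have hcore := Cfsg.Agent.S0955.result p M hM B hB D hD
  obtain ⟨x, hxreg, -, S, hS⟩ := CfsgLib.BlockCover.exists_regular_sylow hM hB hD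
  have hDp : IsPGroup p D := hS ▸ S.2.map _
  obtain ⟨k, V, hk, hV, h0, h1, hN, hDV⟩ := CfsgLib.Unipotent.borel_tits p D hDp hne
  have hDU : D = flagUnip V hV.monotone := eq_flagUnip p hcore V hV.monotone h0 h1 hN hDV
  have hxZ : x ∈ Subgroup.center (SpecialLinearGroup (Fin n) F) := by
    refine mem_center_of_centralizes p hk V hV h0 hxreg fun g hg => ?_
    rw [← hDU, ← hS] at hg
    obtain ⟨g, -, rfl⟩ := hg
    exact (Subgroup.mem_centralizer_singleton_iff.1 g.2).symm
  have htop : Subgroup.centralizer ({x} : Set (SpecialLinearGroup (Fin n) F)) = ⊤ := by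
    rw [eq_top_iff]
    intro g _
    rw [Subgroup.mem_centralizer_singleton_iff]
    exact Subgroup.mem_center_iff.1 hxZ g
  have h := CfsgLib.BlockCover.natCard_sylow_centralizer S
  rw [hS, hcard, htop, Subgroup.card_top] at h
  exact Nat.pow_right_injective hp.two_le h

end CfsgLib.Blk4.SLBlocks
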