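import Cfsg.Agent.Lib.GLFlags.Ortho
import Cfsg.Agent.Lib.Characters.Ramified
import Cfsg.Agent.Lib.BlockCover.Basic
import Cfsg.Agent.Lib.ClassicalGroups.SLTwoSylow
import Cfsg.Agent.Lib.Characters.Values
import Cfsg.Agent.S0914

/-!
# A block of defect zero of `SL(n, F)` in the defining characteristic
-/

set_option autoImplicit false
set_option linter.unusedSectionVars false
set_option linter.style.haveILetI false

namespace CfsgLib.Blk4.SLBlocks

open Finset CfsgLib.GLFlags

theorem qFact_mul_prod_diff (q : ℕ) : ∀ n : ℕ,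
    qFact q n * ∏ j ∈ range n, ∏ i ∈ range j, q ^ (i + 1) * qInt q (j - i) =
      q ^ (∑ j ∈ range n, ∑ i ∈ range j, (i + 1)) * ∏ i ∈ range n, qFact q (i + 1) := by
  intro n
  induction n with
  | zero => simp [qFact]
  | succ n ih =>
    have e : ∏ i ∈ range n, qInt q (n - i) = qFact q n := by
      rw [qFact, ← prod_range_reflect (fun j => qInt q (j + 1)) n]
      refine prod_congr rfl fun i hi => ?_
      rw [mem_range] at hi
      congr 1
      omega
    rw [prod_range_succ, sum_range_succ, prod_range_succ _ n, pow_add, prod_mul_distrib, prod_pow_eq_pow_sum, e]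
    calc qFact q (n + 1) * ((∏ j ∈ range n, ∏ i ∈ range j, q ^ (i + 1) * qInt q (j - i)) *
          (q ^ (∑ i ∈ range n, (i + 1)) * qFact q n))
        = q ^ (∑ i ∈ range n, (i + 1)) * qFact q (n + 1) *
          (qFact q n * ∏ j ∈ range n, ∏ i ∈ range j, q ^ (i + 1) * qInt q (j - i)) := by ring
      _ = _ := by rw [ih]; ring

variable {F : Type*} [Field F] [Fintype F] {n : ℕ}

/-- The Steinberg degree. -/
theorem steinberg_degree :
    Cfsg.unipotentCharacterGL n F (fun _ => 1) 1 = ((Fintype.card F ^ (n * (n - 1) / 2) : ℕ) : ℂ) := by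
  classical
  set q := Fintype.card F with hq
  have h := unipotentCharacterGL_one_mul (F := F) (n := n) (ν := fun _ => 1) (by simp)
  rw [← hq] at h
  have hR : ∏ i : Fin n, ∏ j ∈ Ioi i, ((qInt q (1 + j.val) : ℂ) - (qInt q (1 + i.val) : ℂ)) =
      ((∏ j ∈ range n, ∏ i ∈ range j, q ^ (i + 1) * qInt q (j - i) : ℕ) : ℂ) := by
    rw [prod_comm' (t' := univ) (s' := fun j : Fin n => Iio j) (fun i j => by simp),
      ← Fin.prod_univ_eq_prod_range (fun j => ∏ i ∈ range j, q ^ (i + 1) * qInt q (j - i)) n, Nat.cast_prod]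
    refine prod_congr rfl fun j _ => ?_
    rw [← Nat.Iio_eq_range, ← Fin.map_valEmbedding_Iio j, prod_map, Nat.cast_prod]
    refine prod_congr rfl fun i hi => ?_
    rw [mem_Iio, Fin.lt_def] at hi
    have e := qInt_add q (i.val + 1) (j.val - i.val)
    rw [show i.val + 1 + (j.val - i.val) = 1 + j.val by omega] at e
    simp only [Fin.valEmbedding_apply]
    rw [e, add_comm 1 i.val]
    push_cast
    ring
  simp only [hR] at h
  rw [← Nat.cast_mul (qFact q n), qFact_mul_prod_diff q n,
    show ∏ i : Fin n, (qFact q (1 + i.val) : ℂ) = ((∏ i ∈ range n, qFact q (i + 1) : ℕ) : ℂ) by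
      rw [← Fin.prod_univ_eq_prod_range (fun i => qFact q (i + 1)) n, Nat.cast_prod]
      exact prod_congr rfl fun i _ => by rw [add_comm],
    show ∑ j ∈ range n, ∑ i ∈ range j, (i + 1) = n * (n - 1) / 2 + n * (n - 1) * (n - 2) / 6 by
      simp only [sum_add_distrib, sum_const, card_range, smul_eq_mul, mul_one]
      rw [sum_sum_range_eq, sum_range_id, add_comm]] at h
  have hA : ((q : ℂ) ^ (n * (n - 1) * (n - 2) / 6)) * ((∏ i ∈ range n, qFact q (i + 1) : ℕ) : ℂ) ≠ 0 :=
    mul_ne_zero (pow_ne_zero _ (Nat.cast_ne_zero.2 Fintype.card_ne_zero))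
      (Nat.cast_ne_zero.2 (prod_pos fun i _ => qFact_pos q _).ne')
  apply mul_right_cancel₀ hA
  rw [← mul_assoc, h]
  push_cast
  ring

variable (p : ℕ) [Fact p.Prime] [CharP F p]

/-- Some irreducible character of `SL(n, F)` has degree divisible by the full power of the characteristic. -/
theorem exists_full_degree :
    ∃ ψ : Cfsg.IrrCharacter (Matrix.SpecialLinearGroup (Fin n) F),
      (Cfsg.charDegree (ψ : Matrix.SpecialLinearGroup (Fin n) F → ℂ)).factorization p =
        (Nat.card (Matrix.SpecialLinearGroup (Fin n) F)).factorization p := by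
  classical
  have hp : p.Prime := Fact.out
  let G := GL (Fin n) F
  letI : Fintype G := Fintype.ofFinite G
  let χ : Cfsg.IrrCharacter G := ⟨_, isIrrCharacter_unipotent (F := F) (n := n) (ν := fun _ => 1)
    monotone_const (by simp)⟩
  have hχ1 : (χ : G → ℂ) 1 = ((Fintype.card F ^ (n * (n - 1) / 2) : ℕ) : ℂ) := steinberg_degree
  let f : Matrix.SpecialLinearGroup (Fin n) F →* G := Matrix.SpecialLinearGroup.toGL
  have hrange : f.range = (Matrix.GeneralLinearGroup.det (n := Fin n) (R := F)).ker := by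
    ext g
    rw [MonoidHom.mem_ker]
    constructor
    · rintro ⟨s, rfl⟩
      exact Units.ext s.2
    · intro hg
      exact ⟨⟨(g : Matrix (Fin n) (Fin n) F), congrArg Units.val hg⟩, Units.ext rfl⟩
  haveI : f.range.Normal := hrange ▸ MonoidHom.normal_ker _
  letI : Fintype f.range := Fintype.ofFinite _
  obtain ⟨θ, hθ⟩ := CfsgLib.BlockCover.exists_constituent f.range χ
  obtain ⟨k, hk, hkdvd⟩ := CfsgLib.Ramified.degree_ratio_dvd_index f.range χ.2 θ.2 hθ
  obtain ⟨d, hd0, hd⟩ := CfsgLib.Characters.irr_exists_degree θ.2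
  let ψ : Cfsg.IrrCharacter (Matrix.SpecialLinearGroup (Fin n) F) :=
    ⟨_, CfsgLib.Clifford.isIrrCharacter_pullback θ.2 f.rangeRestrict f.rangeRestrict_surjective⟩
  refine ⟨ψ, ?_⟩
  have hψ : Cfsg.charDegree (ψ : Matrix.SpecialLinearGroup (Fin n) F → ℂ) = d := by
    show ⌊((θ : f.range → ℂ) (f.rangeRestrict 1)).re⌋₊ = d
    rw [map_one, hd, Complex.natCast_re, Nat.floor_natCast]
  have hidx : ¬ p ∣ f.range.index := by
    rw [hrange, Subgroup.index_ker]
    intro h
    have h2 : p ∣ Fintype.card F - 1 := by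
      refine h.trans ((Subgroup.card_subgroup_dvd_card _).trans ?_)
      rw [Nat.card_units, Nat.card_eq_fintype_card]
    obtain ⟨e, -, he⟩ := FiniteField.card F p
    have h3 : p ∣ Fintype.card F := he ▸ dvd_pow_self p e.ne_zero
    have := Nat.dvd_sub h3 h2
    rw [Nat.sub_sub_self Fintype.card_pos] at this
    exact hp.not_dvd_one this
  have hk0 : ¬ p ∣ k := fun h => hidx (h.trans hkdvd)
  have hkd : Fintype.card F ^ (n * (n - 1) / 2) = k * d := by
    rw [hχ1, hd] at hk
    exact_mod_cast hk
  have hcard : (Nat.card G).factorization p =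
      (Nat.card (Matrix.SpecialLinearGroup (Fin n) F)).factorization p := by
    rw [← Subgroup.card_mul_index f.range, Nat.factorization_mul Nat.card_pos.ne' Subgroup.index_ne_zero_of_finite,
      Finsupp.add_apply, Nat.factorization_eq_zero_of_not_dvd hidx, add_zero,
      Nat.card_congr (MonoidHom.ofInjective (f := f) Matrix.SpecialLinearGroup.toGL_injective).toEquiv.symm]
  have hq := CfsgLib.ClassicalGroups.factorization_card_gl (F := F) p n
  rw [hψ, ← hcard]
  have := congrArg (fun m => m.factorization p) hkd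
  rw [← hq] at this
  rw [hp.factorization_pow, Finsupp.single_eq_same,
    Nat.factorization_mul (fun h0 : k = 0 => hk0 (h0.symm ▸ dvd_zero p)) hd0.ne', Finsupp.add_apply,
    Nat.factorization_eq_zero_of_not_dvd hk0, zero_add] at this
  exact this.symm

end CfsgLib.Blk4.SLBlocks
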