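import Cfsg.Agent.Lib.Blocks12.Bounds
import Cfsg.Agent.Lib.Blocks.BlockParts
import Cfsg.Agent.Lib.Blocks.SectionNorm
import Cfsg.Agent.Lib.Blocks.PrincipalSq
import Cfsg.Agent.Lib.Characters.Induction
import Cfsg.Agent.Lib.Characters.Scalar
import Cfsg.Agent.Lib.Blk7.RankTrace

/-!
# Contributions of a major subsection
-/

set_option autoImplicit false
set_option linter.unusedSectionVars false
set_option linter.style.haveILetI false

noncomputable section

namespace CfsgLib.Blk4.Major

open Cfsg CfsgLib.Characters CfsgLib.Blocks CfsgLib.Contribution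
open scoped ComplexConjugate

universe u

variable {G : Type u} [Group G] [Fintype G] {p : ℕ} {M : Ideal AlgInt}

/-- Congruence modulo the local ideal, of products. -/
theorem congr_mul (hM : IsPModular p M) {a a' b b' : ℂ} (ha' : MemLocalRing M a')
    (hb : MemLocalRing M b) (h1 : MemLocalIdeal M (a - a')) (h2 : MemLocalIdeal M (b - b')) :
    MemLocalIdeal M (a * b - a' * b') := by
  rw [show a * b - a' * b' = (a - a') * b + a' * (b - b') by ring]
  exact MemLocalIdeal.add hM (MemLocalIdeal.mul_right hM h1 hb) (MemLocalIdeal.mul_left hM ha' h2)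

/-- Roots of unity of `p`-power order are congruent to one. -/
theorem root_congr (hM : IsPModular p M) {ω : ℂ} {n : ℕ} (h : ω ^ p ^ n = 1) :
    MemLocalIdeal M (ω - 1) := by
  have hint : IsIntegral ℤ ω := IsIntegral.of_pow (pow_pos hM.1.pos n) (h ▸ isIntegral_one)
  haveI := IsPModular.isMaximal hM
  letI := Ideal.Quotient.field M
  haveI := charP_residue hM
  haveI : Fact p.Prime := ⟨hM.1⟩
  set a : AlgInt := ⟨ω, hint⟩
  have ha : a ^ p ^ n = 1 := Subtype.ext (by push_cast; exact h)
  have h1 : Ideal.Quotient.mk M a = 1 := by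
    apply iterateFrobenius_inj (AlgInt ⧸ M) p n
    simp only [iterateFrobenius_def, ← map_pow, ha, map_one, one_pow]
  have h2 : a - 1 ∈ M := by rw [← Ideal.Quotient.eq, h1, map_one]
  simpa [a] using memLocalIdeal_coe hM h2

open scoped Classical in
/-- The regular restriction, expanded for any member. -/
theorem expand' [Fintype (ConjClasses G)] (hM : IsPModular p M) {B : Set (IrrCharacter G)}
    (hB : IsPBlock M B) {χ : IrrCharacter G} (hχ : χ ∈ B) {g : G} (hg : ¬ p ∣ orderOf g) :
    (p : ℂ) ^ blockDefect p B * (χ : G → ℂ) g =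
      ∑ φ ∈ Finset.univ.filter (· ∈ B), contrib p (blockDefect p B) χ φ * (φ : G → ℂ) g := by
  rw [← expand hM hB hχ g, if_pos hg]

section Section

variable (z : G)


/-- The element itself. -/
def zel : (Subgroup.centralizer ({z} : Set G)) := ⟨z, Subgroup.mem_centralizer_iff.2 fun y hy => by rw [Set.mem_singleton_iff.1 hy]⟩

/-- The central value. -/
def lam (ξ : IrrCharacter (Subgroup.centralizer ({z} : Set G))) : ℂ := (ξ : (Subgroup.centralizer ({z} : Set G)) → ℂ) (zel z) / (ξ : (Subgroup.centralizer ({z} : Set G)) → ℂ) 1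

theorem zel_mem_center : zel z ∈ Subgroup.center (Subgroup.centralizer ({z} : Set G)) := by
  rw [Subgroup.mem_center_iff]
  intro c
  exact Subtype.ext (commute_centralizer c).eq.symm

theorem lam_spec (ξ : IrrCharacter (Subgroup.centralizer ({z} : Set G))) (y : (Subgroup.centralizer ({z} : Set G))) (k : ℕ) :
    (ξ : (Subgroup.centralizer ({z} : Set G)) → ℂ) (zel z ^ k * y) = lam z ξ ^ k * (ξ : (Subgroup.centralizer ({z} : Set G)) → ℂ) y := by
  obtain ⟨χ, n, ρ, hρ, rfl⟩ := ξ
  haveI := hρ
  obtain ⟨c, hc⟩ := CfsgLib.CharScalar.center_scalar ρ (zel_mem_center z)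
  have hpow : ∀ (j : ℕ) (g : (Subgroup.centralizer ({z} : Set G))), ρ.character (zel z ^ j * g) = c ^ j * ρ.character g := by
    intro j g
    simp [Representation.character, map_mul, map_pow, hc, smul_pow]
  have h0 : ρ.character 1 ≠ 0 := irr_one_ne_zero ⟨_, n, ρ, hρ, rfl⟩
  have h1 := hpow 1 1
  simp only [pow_one, mul_one] at h1
  show ρ.character (zel z ^ k * y) = (ρ.character (zel z) / ρ.character 1) ^ k * ρ.character y
  rw [hpow, h1, mul_div_cancel_right₀ _ h0]

theorem lam_pow {N : ℕ} (hz : z ^ N = 1) (ξ : IrrCharacter (Subgroup.centralizer ({z} : Set G))) : lam z ξ ^ N = 1 := by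
  have h1 : zel z ^ N = 1 := Subtype.ext (by simpa [zel] using hz)
  have h := lam_spec z ξ 1 N
  rw [h1, one_mul] at h
  exact (mul_eq_right₀ (irr_one_ne_zero ξ)).1 h.symm

theorem lam_congr (hM : IsPModular p M) {n : ℕ} (hz : orderOf z = p ^ n) (ξ : IrrCharacter (Subgroup.centralizer ({z} : Set G))) :
    MemLocalIdeal M (lam z ξ - 1) :=
  root_congr hM (lam_pow z (hz ▸ pow_orderOf_eq_one z) ξ)

variable [Fintype (Subgroup.centralizer ({z} : Set G))]

/-- The multiplicity in the restriction. -/
def nm (χ : IrrCharacter G) (ξ : IrrCharacter (Subgroup.centralizer ({z} : Set G))) : ℕ :=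
  (classInner_char_nat (CfsgLib.Clifford.isCharacter_subtype (irr_isCharacter χ) (Subgroup.centralizer ({z} : Set G)))
    (irr_isCharacter ξ)).choose

theorem nm_spec (χ : IrrCharacter G) (ξ : IrrCharacter (Subgroup.centralizer ({z} : Set G))) :
    classInner (fun c : (Subgroup.centralizer ({z} : Set G)) => (χ : G → ℂ) c) (ξ : (Subgroup.centralizer ({z} : Set G)) → ℂ) = (nm z χ ξ : ℂ) :=
  (classInner_char_nat (CfsgLib.Clifford.isCharacter_subtype (irr_isCharacter χ) (Subgroup.centralizer ({z} : Set G)))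
    (irr_isCharacter ξ)).choose_spec

/-- The coefficient of the section. -/
def w (χ : IrrCharacter G) (ξ : IrrCharacter (Subgroup.centralizer ({z} : Set G))) : ℂ := (nm z χ ξ : ℂ) * lam z ξ

theorem sectionFun_eq (χ : IrrCharacter G) (y : (Subgroup.centralizer ({z} : Set G))) :
    sectionFun z (χ : G → ℂ) y = ∑ ξ : IrrCharacter (Subgroup.centralizer ({z} : Set G)), w z χ ξ * (ξ : (Subgroup.centralizer ({z} : Set G)) → ℂ) y := by
  have h := congrFun (classFunction_eq_sum (φ := fun c : (Subgroup.centralizer ({z} : Set G)) => (χ : G → ℂ) c)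
    (isClassFunction_of_isCharacter
      (CfsgLib.Clifford.isCharacter_subtype (irr_isCharacter χ) (Subgroup.centralizer ({z} : Set G))))) (zel z * y)
  simp only [Finset.sum_apply, Pi.smul_apply, smul_eq_mul, nm_spec] at h
  show (χ : G → ℂ) (z * (y : G)) = _
  rw [show z * (y : G) = ((zel z * y : (Subgroup.centralizer ({z} : Set G))) : G) from rfl, h]
  refine Finset.sum_congr rfl fun ξ _ => ?_
  have := lam_spec z ξ y 1
  rw [pow_one, pow_one] at this
  rw [this, w, mul_assoc]

variable (b : Set (IrrCharacter (Subgroup.centralizer ({z} : Set G))))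

open scoped Classical in
/-- The part in `b` of the section. -/
def xb (χ : IrrCharacter G) (y : (Subgroup.centralizer ({z} : Set G))) : ℂ :=
  ∑ ξ ∈ Finset.univ.filter (· ∈ b), w z χ ξ * (ξ : (Subgroup.centralizer ({z} : Set G)) → ℂ) y

theorem blockPart_sectionFun (χ : IrrCharacter G) (y : (Subgroup.centralizer ({z} : Set G))) :
    blockPart b (sectionFun z (χ : G → ℂ)) y = xb z b χ y := by
  classical
  rw [show sectionFun z (χ : G → ℂ) = fun c => ∑ ξ : IrrCharacter (Subgroup.centralizer ({z} : Set G)), w z χ ξ * (ξ : (Subgroup.centralizer ({z} : Set G)) → ℂ) c from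
    funext (sectionFun_eq z χ), blockPart_linear, xb, Finset.sum_filter]
  exact Finset.sum_congr rfl fun ξ _ => by rw [blockPart_irr]; split_ifs <;> simp

open scoped Classical in
/-- The contributions of the subsection. -/
def cz (p d : ℕ) (χ ψ : IrrCharacter G) : ℂ :=
  (p : ℂ) ^ d * (Nat.card (Subgroup.centralizer ({z} : Set G)) : ℂ)⁻¹ *
    ∑ y ∈ Finset.univ.filter (fun y : (Subgroup.centralizer ({z} : Set G)) => ¬ p ∣ orderOf y), xb z b χ y * conj (xb z b ψ y)

open scoped Classical in
theorem cz_expand (d : ℕ) (χ ψ : IrrCharacter G) :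
    cz z b p d χ ψ = ∑ ξ ∈ Finset.univ.filter (· ∈ b), ∑ η ∈ Finset.univ.filter (· ∈ b),
      w z χ ξ * conj (w z ψ η) * contrib p d ξ η := by
  simp only [cz, xb, contrib, Contribution.regSum, map_sum, map_mul, Finset.mul_sum, Finset.sum_mul]
  conv_rhs => rw [Finset.sum_comm]
  rw [Finset.sum_comm]
  refine Finset.sum_congr rfl fun ξ _ => ?_
  rw [Finset.sum_comm]
  refine Finset.sum_congr rfl fun η _ => ?_
  refine Finset.sum_congr rfl fun y _ => ?_
  ring

theorem cz_conj (d : ℕ) (χ ψ : IrrCharacter G) : conj (cz z b p d χ ψ) = cz z b p d ψ χ := by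
  classical
  simp only [cz, map_mul, map_pow, map_inv₀, Complex.conj_natCast, map_sum, Complex.conj_conj]
  congr 1
  exact Finset.sum_congr rfl fun x _ => mul_comm _ _

/-- The section against the regular elements. -/
theorem column_section (hp : p.Prime) {n : ℕ} (hz : orderOf z = p ^ n) {y c : (Subgroup.centralizer ({z} : Set G))}
    (hy : ¬ p ∣ orderOf y) (hc : ¬ p ∣ orderOf c) :
    ∑ ζ : IrrCharacter G, conj ((ζ : G → ℂ) (z * (y : G))) * sectionFun z (ζ : G → ℂ) c =
      ∑ χ : IrrCharacter (Subgroup.centralizer ({z} : Set G)), conj ((χ : (Subgroup.centralizer ({z} : Set G)) → ℂ) y) * (χ : (Subgroup.centralizer ({z} : Set G)) → ℂ) c := by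
  classical
  haveI : Fact p.Prime := ⟨hp⟩
  have hzy : ∀ d : (Subgroup.centralizer ({z} : Set G)), ¬ p ∣ orderOf d → IsPPart p (z * (d : G)) z := fun d hd =>
    isPPart_mul (commute_centralizer d) ⟨n, hz⟩ (by rwa [Subgroup.orderOf_coe])
  have h1 := column_orth (z * (c : G)) (z * (y : G))
  have h2 := column_orth c y
  have hiff : IsConj (z * (c : G)) (z * (y : G)) ↔ IsConj c y := by
    constructor
    · intro h
      obtain ⟨d, hd⟩ := isConj_iff.1 h
      have h3 := IsPPart.conj (hzy c hc) d
      rw [hd] at h3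
      have h4 := IsPPart.unique hp h3 (hzy y hy)
      have hdC : d ∈ (Subgroup.centralizer ({z} : Set G)) := Subgroup.mem_centralizer_singleton_iff.2 (mul_inv_eq_iff_eq_mul.1 h4)
      refine isConj_iff.2 ⟨⟨d, hdC⟩, Subtype.ext ?_⟩
      refine mul_left_cancel (a := z) ?_
      rw [← hd]
      show z * (d * (c : G) * d⁻¹) = d * (z * (c : G)) * d⁻¹
      rw [← mul_assoc d z, mul_inv_eq_iff_eq_mul.1 h4]
      group
    · intro h
      obtain ⟨d, hd⟩ := isConj_iff.1 h
      refine isConj_iff.2 ⟨(d : G), ?_⟩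
      rw [← hd]
      simp only [Subgroup.coe_mul, Subgroup.coe_inv]
      rw [← mul_assoc (d : G) z, ← (commute_centralizer d).eq]
      group
  have hcard : IsConj c y → Nat.card (Subgroup.centralizer ({z * (c : G)} : Set G)) =
      Nat.card (Subgroup.centralizer ({c} : Set (Subgroup.centralizer ({z} : Set G)))) := by
    intro _
    have hmem : ∀ d ∈ Subgroup.centralizer ({z * (c : G)} : Set G), d ∈ (Subgroup.centralizer ({z} : Set G)) ∧ d * c = c * d := by
      intro d hd
      have hd' := Subgroup.mem_centralizer_singleton_iff.1 hd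
      have h3 := IsPPart.conj (hzy c hc) d
      rw [mul_inv_eq_iff_eq_mul.2 hd'] at h3
      have h4 := mul_inv_eq_iff_eq_mul.1 (IsPPart.unique hp h3 (hzy c hc))
      refine ⟨Subgroup.mem_centralizer_singleton_iff.2 h4, mul_left_cancel (a := z) ?_⟩
      rw [← mul_assoc, ← h4, mul_assoc, hd', mul_assoc]
    refine Nat.card_congr
      { toFun := fun d => ⟨⟨d, (hmem d d.2).1⟩,
          Subgroup.mem_centralizer_singleton_iff.2 (Subtype.ext (hmem d d.2).2)⟩
        invFun := fun d => ⟨((d : (Subgroup.centralizer ({z} : Set G))) : G), Subgroup.mem_centralizer_singleton_iff.2 ?_⟩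
        left_inv := fun d => rfl
        right_inv := fun d => rfl }
    have hd := congrArg Subtype.val (Subgroup.mem_centralizer_singleton_iff.1 d.2)
    simp only [Subgroup.coe_mul] at hd
    rw [← mul_assoc, ← (commute_centralizer (d : (Subgroup.centralizer ({z} : Set G)))).eq, mul_assoc, hd, mul_assoc]
  calc ∑ ζ : IrrCharacter G, conj ((ζ : G → ℂ) (z * (y : G))) * sectionFun z (ζ : G → ℂ) c
      = ∑ ζ : IrrCharacter G, (ζ : G → ℂ) (z * (c : G)) * conj ((ζ : G → ℂ) (z * (y : G))) :=
        Finset.sum_congr rfl fun ζ _ => mul_comm _ _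
    _ = ∑ χ : IrrCharacter (Subgroup.centralizer ({z} : Set G)), (χ : (Subgroup.centralizer ({z} : Set G)) → ℂ) c * conj ((χ : (Subgroup.centralizer ({z} : Set G)) → ℂ) y) := by
        rw [h1, h2]
        by_cases hcy : IsConj c y
        · rw [if_pos (hiff.2 hcy), if_pos hcy, hcard hcy]
        · rw [if_neg (fun h => hcy (hiff.1 h)), if_neg hcy]
    _ = _ := Finset.sum_congr rfl fun χ _ => mul_comm _ _

variable {B : Set (IrrCharacter G)}

theorem xb_eq_zero (hM : IsPModular p M) {n : ℕ} (hz : orderOf z = p ^ n)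
    (hind : IsInducedBlock M (Subgroup.centralizer ({z} : Set G)) b B) {χ : IrrCharacter G} (hχ : χ ∉ B) {y : (Subgroup.centralizer ({z} : Set G))}
    (hy : ¬ p ∣ orderOf y) : xb z b χ y = 0 := by
  haveI : Fact p.Prime := ⟨hM.1⟩
  rw [← blockPart_sectionFun]
  refine blockPart_sectionFun_eq_zero hM ⟨n, hz⟩ hind.1 (fun h => hχ ?_) hy
  rw [IsInducedBlock.unique hM hind h]
  exact mem_blockOf_self hM χ

open scoped Classical in
/-- Orthogonality of the columns of the subsection. -/
theorem kernel_eq (hM : IsPModular p M) {n : ℕ} (hz : orderOf z = p ^ n)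
    (hind : IsInducedBlock M (Subgroup.centralizer ({z} : Set G)) b B) {y y' : (Subgroup.centralizer ({z} : Set G))} (hy : ¬ p ∣ orderOf y) (hy' : ¬ p ∣ orderOf y') :
    ∑ φ ∈ Finset.univ.filter (· ∈ B), conj (xb z b φ y) * xb z b φ y' =
      ∑ ξ ∈ Finset.univ.filter (· ∈ b), conj ((ξ : (Subgroup.centralizer ({z} : Set G)) → ℂ) y) * (ξ : (Subgroup.centralizer ({z} : Set G)) → ℂ) y' := by
  -- one projection
  have h1 : ∀ y : (Subgroup.centralizer ({z} : Set G)), ¬ p ∣ orderOf y → ∀ y' : (Subgroup.centralizer ({z} : Set G)), ¬ p ∣ orderOf y' →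
      ∑ φ ∈ Finset.univ.filter (· ∈ B), conj ((φ : G → ℂ) (z * (y : G))) * xb z b φ y' =
        ∑ ξ ∈ Finset.univ.filter (· ∈ b), conj ((ξ : (Subgroup.centralizer ({z} : Set G)) → ℂ) y) * (ξ : (Subgroup.centralizer ({z} : Set G)) → ℂ) y' := by
    intro y hy y' hy'
    have key := blockPart_congr_regular hM (B := b) hind.1
      (fun c hc => column_section z hM.1 hz hy hc) hy'
    rw [blockPart_linear, blockPart_linear] at key
    simp only [blockPart_sectionFun, blockPart_irr] at key
    rw [Finset.sum_filter, Finset.sum_filter]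
    refine Eq.trans ?_ (key.trans (Finset.sum_congr rfl fun ξ _ => by rw [mul_ite, mul_zero]))
    refine Finset.sum_congr rfl fun φ _ => ?_
    split_ifs with hφ
    · rfl
    · rw [xb_eq_zero z b hM hz hind hφ hy', mul_zero]
  -- the other one
  have key := blockPart_congr_regular hM (B := b) hind.1
    (f := fun c => ∑ φ : IrrCharacter G, (if φ ∈ B then conj (xb z b φ y') else 0) *
      sectionFun z (φ : G → ℂ) c)
    (g := fun c => ∑ ξ : IrrCharacter (Subgroup.centralizer ({z} : Set G)), (if ξ ∈ b then conj ((ξ : (Subgroup.centralizer ({z} : Set G)) → ℂ) y') else 0) *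
      (ξ : (Subgroup.centralizer ({z} : Set G)) → ℂ) c)
    (fun c hc => by
      have h := congrArg conj (h1 c hc y' hy')
      simp only [map_sum, map_mul, Complex.conj_conj] at h
      simp only [ite_mul, zero_mul, ← Finset.sum_filter]
      refine Eq.trans (Finset.sum_congr rfl fun φ _ => ?_) (h.trans (Finset.sum_congr rfl fun ξ _ => ?_))
      · rw [sectionFun, mul_comm]
      · rw [mul_comm]) hy
  rw [blockPart_linear, blockPart_linear] at key
  simp only [blockPart_sectionFun, blockPart_irr, mul_ite, mul_zero, ite_mul, zero_mul] at key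
  simp only [← ite_and, and_self, ← Finset.sum_filter] at key
  have h := congrArg conj key
  simp only [map_sum, map_mul, Complex.conj_conj] at h
  refine Eq.trans (Finset.sum_congr rfl fun φ _ => mul_comm _ _) (h.trans
    (Finset.sum_congr rfl fun ξ _ => mul_comm _ _))

variable [Fintype (ConjClasses (Subgroup.centralizer ({z} : Set G)))]

open scoped Classical in
/-- The reproducing property. -/
theorem reproduce (hM : IsPModular p M) (hb : IsPBlock M b) (χ : IrrCharacter G) {y' : (Subgroup.centralizer ({z} : Set G))}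
    (hy' : ¬ p ∣ orderOf y') :
    (p : ℂ) ^ blockDefect p b * (Nat.card (Subgroup.centralizer ({z} : Set G)) : ℂ)⁻¹ *
      ∑ y ∈ Finset.univ.filter (fun y : (Subgroup.centralizer ({z} : Set G)) => ¬ p ∣ orderOf y), xb z b χ y *
        ∑ ξ ∈ Finset.univ.filter (· ∈ b), conj ((ξ : (Subgroup.centralizer ({z} : Set G)) → ℂ) y) * (ξ : (Subgroup.centralizer ({z} : Set G)) → ℂ) y' =
      (p : ℂ) ^ blockDefect p b * xb z b χ y' := by
  have h : ∀ η ∈ Finset.univ.filter (· ∈ b), (p : ℂ) ^ blockDefect p b * (η : (Subgroup.centralizer ({z} : Set G)) → ℂ) y' =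
      ∑ ξ ∈ Finset.univ.filter (· ∈ b), contrib p (blockDefect p b) η ξ * (ξ : (Subgroup.centralizer ({z} : Set G)) → ℂ) y' :=
    fun η hη => expand' hM hb (Finset.mem_filter.1 hη).2 hy'
  have hR : (p : ℂ) ^ blockDefect p b * xb z b χ y' =
      ∑ η ∈ Finset.univ.filter (· ∈ b), w z χ η *
        ∑ ξ ∈ Finset.univ.filter (· ∈ b), contrib p (blockDefect p b) η ξ * (ξ : (Subgroup.centralizer ({z} : Set G)) → ℂ) y' := by
    rw [xb, Finset.mul_sum]
    exact Finset.sum_congr rfl fun η hη => by rw [← h η hη]; ring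
  rw [hR]
  simp only [xb, contrib, Contribution.regSum, Finset.mul_sum, Finset.sum_mul]
  rw [Finset.sum_comm]
  refine (Finset.sum_congr rfl fun ξ _ => Finset.sum_comm).trans ?_
  rw [Finset.sum_comm]
  refine Finset.sum_congr rfl fun η _ => ?_
  refine Finset.sum_congr rfl fun ξ _ => ?_
  refine Finset.sum_congr rfl fun y _ => ?_
  ring

open scoped Classical in
/-- The contributions are `p` to the defect of `b` times a projection. -/
theorem cz_mul' (hM : IsPModular p M) {n : ℕ} (hz : orderOf z = p ^ n)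
    (hind : IsInducedBlock M (Subgroup.centralizer ({z} : Set G)) b B)
    (χ ψ : IrrCharacter G) :
    ∑ φ ∈ Finset.univ.filter (· ∈ B),
        cz z b p (blockDefect p b) χ φ * cz z b p (blockDefect p b) φ ψ =
      (p : ℂ) ^ blockDefect p b * cz z b p (blockDefect p b) χ ψ := by
  set q : ℂ := (p : ℂ) ^ blockDefect p b * (Nat.card (Subgroup.centralizer ({z} : Set G)) : ℂ)⁻¹ with hq
  set S := Finset.univ.filter (fun y : (Subgroup.centralizer ({z} : Set G)) => ¬ p ∣ orderOf y) with hS
  have e1 : ∑ φ ∈ Finset.univ.filter (· ∈ B),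
        cz z b p (blockDefect p b) χ φ * cz z b p (blockDefect p b) φ ψ =
      q * ∑ y' ∈ S, (q * ∑ y ∈ S, xb z b χ y *
        (∑ φ ∈ Finset.univ.filter (· ∈ B), conj (xb z b φ y) * xb z b φ y')) * conj (xb z b ψ y') := by
    simp only [cz, ← hq, ← hS, Finset.mul_sum, Finset.sum_mul]
    rw [Finset.sum_comm]
    refine Finset.sum_congr rfl fun y' _ => ?_
    rw [Finset.sum_comm]
    refine Finset.sum_congr rfl fun y _ => ?_
    exact Finset.sum_congr rfl fun φ _ => by ring
  have e2 : ∀ y' ∈ S, q * ∑ y ∈ S, xb z b χ y *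
      (∑ φ ∈ Finset.univ.filter (· ∈ B), conj (xb z b φ y) * xb z b φ y') =
        (p : ℂ) ^ blockDefect p b * xb z b χ y' := by
    intro y' hy'
    rw [← reproduce z b hM hind.1 χ (Finset.mem_filter.1 hy').2, ← hq, ← hS]
    congr 1
    refine Finset.sum_congr rfl fun y hy => ?_
    rw [kernel_eq z b hM hz hind (Finset.mem_filter.1 hy).2 (Finset.mem_filter.1 hy').2]
  rw [e1, Finset.sum_congr rfl fun y' hy' => by rw [e2 y' hy']]
  simp only [cz, ← hq, ← hS, Finset.mul_sum]
  exact Finset.sum_congr rfl fun y _ => by ring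

open scoped Classical in
/-- The contributions are `p ^ d` times a projection. -/
theorem cz_mul (hM : IsPModular p M) {n : ℕ} (hz : orderOf z = p ^ n)
    (hind : IsInducedBlock M (Subgroup.centralizer ({z} : Set G)) b B) (hd : blockDefect p b = blockDefect p B)
    (χ ψ : IrrCharacter G) :
    ∑ φ ∈ Finset.univ.filter (· ∈ B),
        cz z b p (blockDefect p B) χ φ * cz z b p (blockDefect p B) φ ψ =
      (p : ℂ) ^ blockDefect p B * cz z b p (blockDefect p B) χ ψ := by
  rw [← hd]
  exact cz_mul' z b hM hz hind χ ψ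

open scoped Classical in
/-- The trace. -/
theorem cz_trace [Fact p.Prime] (hM : IsPModular p M) {n : ℕ} (hz : orderOf z = p ^ n)
    (hind : IsInducedBlock M (Subgroup.centralizer ({z} : Set G)) b B) (d : ℕ) :
    ∑ φ ∈ Finset.univ.filter (· ∈ B), cz z b p d φ φ = (p : ℂ) ^ d * blockRank p b := by
  have h := CfsgLib.Blk7.card_mul_blockRank hM hind.1
  have hC : (Nat.card (Subgroup.centralizer ({z} : Set G)) : ℂ) ≠ 0 := Nat.cast_ne_zero.2 Nat.card_pos.ne'
  have hpR : ∀ (f : (Subgroup.centralizer ({z} : Set G)) → ℂ) (g : (Subgroup.centralizer ({z} : Set G))), pRegularPart p f g = if p ∣ orderOf g then 0 else f g := by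
    intro f g
    by_cases h : p ∣ orderOf g <;> simp [pRegularPart, IsPRegular, h]
  simp only [cz]
  rw [← Finset.mul_sum, Finset.sum_comm, mul_assoc]
  congr 1
  rw [Finset.sum_congr rfl fun y hy => show
      ∑ φ ∈ Finset.univ.filter (· ∈ B), xb z b φ y * conj (xb z b φ y) =
        ∑ ξ ∈ Finset.univ.filter (· ∈ b), conj ((ξ : (Subgroup.centralizer ({z} : Set G)) → ℂ) y) * (ξ : (Subgroup.centralizer ({z} : Set G)) → ℂ) y by
    rw [← kernel_eq z b hM hz hind (Finset.mem_filter.1 hy).2 (Finset.mem_filter.1 hy).2]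
    exact Finset.sum_congr rfl fun φ _ => mul_comm _ _]
  rw [inv_mul_eq_iff_eq_mul₀ hC, h, Finset.sum_filter]
  refine Finset.sum_congr rfl fun y _ => ?_
  simp only [hpR]
  split_ifs with hy
  · simp
  · exact Finset.sum_congr rfl fun ξ _ => mul_comm _ _

/-- Reduced centraliser formula. -/
theorem centralizer_section (hp : p.Prime) {n : ℕ} (hz : orderOf z = p ^ n) {y : (Subgroup.centralizer ({z} : Set G))}
    (hy : ¬ p ∣ orderOf y) :
    Nat.card (Subgroup.centralizer ({z * (y : G)} : Set G)) =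
      Nat.card (Subgroup.centralizer ({y} : Set (Subgroup.centralizer ({z} : Set G)))) := by
  haveI : Fact p.Prime := ⟨hp⟩
  have hzy : IsPPart p (z * (y : G)) z :=
    isPPart_mul (commute_centralizer y) ⟨n, hz⟩ (by rwa [Subgroup.orderOf_coe])
  have hmem : ∀ d ∈ Subgroup.centralizer ({z * (y : G)} : Set G), d ∈ (Subgroup.centralizer ({z} : Set G)) ∧ d * y = y * d := by
    intro d hd
    have hd' := Subgroup.mem_centralizer_singleton_iff.1 hd
    have h3 := IsPPart.conj hzy d
    rw [mul_inv_eq_iff_eq_mul.2 hd'] at h3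
    have h4 := mul_inv_eq_iff_eq_mul.1 (IsPPart.unique hp h3 hzy)
    refine ⟨Subgroup.mem_centralizer_singleton_iff.2 h4, mul_left_cancel (a := z) ?_⟩
    rw [← mul_assoc, ← h4, mul_assoc, hd', mul_assoc]
  refine Nat.card_congr
    { toFun := fun d => ⟨⟨d, (hmem d d.2).1⟩,
        Subgroup.mem_centralizer_singleton_iff.2 (Subtype.ext (hmem d d.2).2)⟩
      invFun := fun d => ⟨((d : (Subgroup.centralizer ({z} : Set G))) : G), Subgroup.mem_centralizer_singleton_iff.2 ?_⟩
      left_inv := fun d => rfl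
      right_inv := fun d => rfl }
  have hd := congrArg Subtype.val (Subgroup.mem_centralizer_singleton_iff.1 d.2)
  simp only [Subgroup.coe_mul] at hd
  rw [← mul_assoc, ← (commute_centralizer (d : (Subgroup.centralizer ({z} : Set G)))).eq, mul_assoc, hd, mul_assoc]

open scoped Classical in
/-- The local factor. -/
def tz (p : ℕ) (χ ψ : IrrCharacter G) : ℂ :=
  ((Nat.card G / p ^ (Nat.card G).factorization p : ℕ) : ℂ)⁻¹ *
    ∑ c : ConjClasses (Subgroup.centralizer ({z} : Set G)), if ¬ p ∣ orderOf c.out then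
      xb z b χ c.out * conj (centralChar (ψ : G → ℂ) (z * (c.out : G))) else 0

omit [Fintype (ConjClasses (Subgroup.centralizer ({z} : Set G)))] in
theorem xb_integral (χ : IrrCharacter G) {N : ℕ} (hN : 0 < N) (hz : z ^ N = 1) (y : (Subgroup.centralizer ({z} : Set G))) :
    IsIntegral ℤ (xb z b χ y) := by
  classical
  refine IsIntegral.sum _ fun ξ _ => (IsIntegral.mul ?_ ?_).mul (CfsgLib.ClassCount.irr_isIntegral ξ y)
  · simpa using isIntegral_algebraMap (R := ℤ) (A := ℂ) (x := (nm z χ ξ : ℤ))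
  · exact IsIntegral.of_pow hN (lam_pow z hz ξ ▸ isIntegral_one)

theorem tz_mem (hM : IsPModular p M) {n : ℕ} (hz : orderOf z = p ^ n) (χ ψ : IrrCharacter G) :
    MemLocalRing M (tz z b p χ ψ) := by
  classical
  refine (lRing hM).mul_mem (inv_natCast_mem_lRing hM (cofactor_not_dvd hM.1))
    ((lRing hM).sum_mem fun c _ => ?_)
  by_cases hc : ¬ p ∣ orderOf c.out
  · rw [if_pos hc]
    refine (lRing hM).mul_mem (memLocalRing_of_isIntegral hM
      (xb_integral z b χ (pow_pos hM.1.pos n) (hz ▸ pow_orderOf_eq_one z) _)) ?_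
    rw [← centralChar_inv]
    exact centralChar_mem_lRing hM ψ _
  · rw [if_neg hc]; exact (lRing hM).zero_mem

theorem tz_congr (hM : IsPModular p M) {n : ℕ} (hz : orderOf z = p ^ n) (χ : IrrCharacter G)
    {ψ ψ' : IrrCharacter G} (h : SameBlock M (ψ : G → ℂ) (ψ' : G → ℂ)) :
    MemLocalIdeal M (tz z b p χ ψ - tz z b p χ ψ') := by
  classical
  rw [tz, tz, ← mul_sub, ← Finset.sum_sub_distrib]
  refine MemLocalIdeal.mul_left hM (inv_natCast_mem_lRing hM (cofactor_not_dvd hM.1))
    (MemLocalIdeal.sum hM _ fun c _ => ?_)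
  by_cases hc : ¬ p ∣ orderOf c.out
  · rw [if_pos hc, if_pos hc, ← mul_sub]
    refine MemLocalIdeal.mul_left hM (memLocalRing_of_isIntegral hM
      (xb_integral z b χ (pow_pos hM.1.pos n) (hz ▸ pow_orderOf_eq_one z) _)) ?_
    rw [← centralChar_inv, ← centralChar_inv]
    exact h _
  · rw [if_neg hc, if_neg hc, sub_zero]; exact memLocalIdeal_zero hM

open scoped Classical in
/-- The contribution is the reduced degree times the local factor. -/
theorem cz_eq (hM : IsPModular p M) {n : ℕ} (hz : orderOf z = p ^ n) (hb : IsPBlock M b)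
    (hB : IsPBlock M B) (χ : IrrCharacter G) {ψ : IrrCharacter G} (hψ : ψ ∈ B) :
    cz z b p (blockDefect p B) χ ψ = (red p B ψ : ℂ) * tz z b p χ ψ := by
  set S := Finset.univ.filter (fun y : (Subgroup.centralizer ({z} : Set G)) => ¬ p ∣ orderOf y) with hS
  -- only the part in `b` matters
  have horth : ∑ y ∈ S, xb z b χ y * conj (xb z b ψ y) =
      ∑ y ∈ S, xb z b χ y * conj ((ψ : G → ℂ) (z * (y : G))) := by
    have hR : ∑ y ∈ S, xb z b χ y * conj ((ψ : G → ℂ) (z * (y : G))) =
        ∑ y ∈ S, xb z b χ y * conj (∑ η : IrrCharacter (Subgroup.centralizer ({z} : Set G)), w z ψ η * (η : (Subgroup.centralizer ({z} : Set G)) → ℂ) y) :=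
      Finset.sum_congr rfl fun y _ => by rw [← sectionFun_eq]; rfl
    rw [hR]
    simp only [map_sum, map_mul, xb, Finset.mul_sum, Finset.sum_mul]
    rw [Finset.sum_comm, Finset.sum_comm (s := S) (t := Finset.univ)]
    refine Finset.sum_subset (Finset.filter_subset _ _) fun η _ hη => ?_
    rw [Finset.sum_comm]
    refine Finset.sum_eq_zero fun ξ hξ => ?_
    have h0 := sum_regular_eq_zero_of_not_sameBlock hM (χ := ξ) (ψ := η) fun hs =>
      hη (Finset.mem_filter.2 ⟨Finset.mem_univ _,
        (IsPBlock.mem_iff hM hb (Finset.mem_filter.1 hξ).2 η).2 hs⟩)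
    rw [← hS] at h0
    calc ∑ y ∈ S, w z χ ξ * (ξ : (Subgroup.centralizer ({z} : Set G)) → ℂ) y * (conj (w z ψ η) * conj ((η : (Subgroup.centralizer ({z} : Set G)) → ℂ) y))
        = w z χ ξ * conj (w z ψ η) * ∑ y ∈ S, (ξ : (Subgroup.centralizer ({z} : Set G)) → ℂ) y * conj ((η : (Subgroup.centralizer ({z} : Set G)) → ℂ) y) := by
          rw [Finset.mul_sum]; exact Finset.sum_congr rfl fun y _ => by ring
      _ = 0 := by rw [h0, mul_zero]
  let F : (Subgroup.centralizer ({z} : Set G)) → ℂ := fun y => if ¬ p ∣ orderOf y then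
    xb z b χ y * conj (centralChar (ψ : G → ℂ) (z * (y : G))) else 0
  have hF : ∀ g h : (Subgroup.centralizer ({z} : Set G)), F (h * g * h⁻¹) = F g := by
    intro g h
    simp only [F]
    have e1 : xb z b χ (h * g * h⁻¹) = xb z b χ g := by
      unfold xb
      exact Finset.sum_congr rfl fun ξ _ => by rw [irr_isClassFunction ξ g h]
    rw [show orderOf (h * g * h⁻¹) = orderOf g from (MulAut.conj h).orderOf_eq g, e1,
      centralChar_of_isConj ψ (show IsConj (z * ((h * g * h⁻¹ : (Subgroup.centralizer ({z} : Set G))) : G)) (z * (g : G)) from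
        (isConj_iff.mpr ⟨(h : G), by
          simp only [Subgroup.coe_mul, Subgroup.coe_inv]
          rw [← mul_assoc (h : G) z, ← (commute_centralizer h).eq]
          group⟩ : IsConj (z * (g : G)) (z * ((h * g * h⁻¹ : (Subgroup.centralizer ({z} : Set G))) : G))).symm)]
  have h1 : ∑ y ∈ S, xb z b χ y * conj ((ψ : G → ℂ) (z * (y : G))) =
      (ψ : G → ℂ) 1 * ((Nat.card (Subgroup.centralizer ({z} : Set G)) : ℂ) / Nat.card G) * ∑ c : ConjClasses (Subgroup.centralizer ({z} : Set G)), F c.out := by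
    rw [← sum_div_index F hF, hS, Finset.sum_filter, Finset.mul_sum]
    refine Finset.sum_congr rfl fun y _ => ?_
    simp only [F]
    by_cases hy : ¬ p ∣ orderOf y
    · simp only [if_pos hy]
      have hcd := centralizer_section z hM.1 hz hy
      have e1 := (Subgroup.centralizer ({z * (y : G)} : Set G)).card_mul_index
      have e2 := (Subgroup.centralizer ({y} : Set (Subgroup.centralizer ({z} : Set G)))).card_mul_index
      rw [hcd] at e1
      have e3 : ((Subgroup.centralizer ({z * (y : G)} : Set G)).index : ℂ) * (Nat.card (Subgroup.centralizer ({z} : Set G)) : ℂ) =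
          ((Subgroup.centralizer ({y} : Set (Subgroup.centralizer ({z} : Set G)))).index : ℂ) * (Nat.card G : ℂ) := by
        rw [← e1, ← e2]; push_cast; ring
      rw [centralChar, map_div₀, map_mul, Complex.conj_natCast,
        (CfsgLib.ClassCount.degree_eq ψ).1, Complex.conj_natCast]
      have : (charDegree (ψ : G → ℂ) : ℂ) ≠ 0 :=
        Nat.cast_ne_zero.mpr (CfsgLib.ClassCount.degree_eq ψ).2.2.ne'
      have : ((Subgroup.centralizer ({y} : Set (Subgroup.centralizer ({z} : Set G)))).index : ℂ) ≠ 0 :=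
        Nat.cast_ne_zero.mpr Subgroup.index_ne_zero_of_finite
      have : (Nat.card G : ℂ) ≠ 0 := Nat.cast_ne_zero.mpr Nat.card_pos.ne'
      field_simp
      linear_combination (-(xb z b χ y * conj ((ψ : G → ℂ) (z * (y : G))))) * e3
    · simp [if_neg hy]
  rw [cz, ← hS, horth, h1, tz, apply_one_red (p := p) hψ]
  have hC : (Nat.card (Subgroup.centralizer ({z} : Set G)) : ℂ) ≠ 0 := Nat.cast_ne_zero.mpr Nat.card_pos.ne'
  have hcard := cast_card_eq (G := G) (p := p)
  rw [← minExp_add_defect hM hB, pow_add] at hcard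
  rw [hcard]
  have : (p : ℂ) ≠ 0 := Nat.cast_ne_zero.mpr hM.1.ne_zero
  simp only [F]
  field_simp
  rw [minExp_add_defect hM hB]

/-- The reduced degree of the restriction. -/
def Rv (p : ℕ) (χ : IrrCharacter G) : ℤ := by
  classical
  exact ∑ ξ ∈ Finset.univ.filter (· ∈ b), (nm z χ ξ : ℤ) * red p b ξ

end Section

end CfsgLib.Blk4.Major
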