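import Cfsg.Agent.Lib.Blk4.SmallCentralizerPGroup
import Cfsg.Agent.Lib.Structure.MinimalNormal
import Cfsg.Agent.Lib.Transfer.Tate
import Cfsg.Agent.Lib.PCore.Basic
import Cfsg.Agent.Lib.PGroup.Frattini
import Cfsg.Agent.Lib.Fusion.GroupHyperfocal

/-!
Groups whose Sylow subgroup has derived subgroup of index the square of the prime have an element with a
small centraliser, unless they are almost simple.
-/

set_option autoImplicit false
set_option linter.unusedSectionVars false
set_option linter.style.haveILetI false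

namespace CfsgLib.Blk4.SmallCentralizer

open Subgroup
open scoped commutatorElement
open CfsgLib.Structure (IsMinNormal)

variable {P : Type*} [Group P] [Finite P] {p : ℕ} [Fact p.Prime]

/-- A factor moved by an outer element has prime order. -/
theorem card_eq_prime_of_moved (hP : IsPGroup p P) (h : (commutator P).index = p ^ 2) (A : Subgroup P)
    [hA : A.Normal] (hidx : A.index = p) {y : P} (hy : y ∉ A) (R U : Subgroup A) [U.Normal]
    (hR : R ≠ ⊥) (hdisj : Disjoint R U) (hsup : R ⊔ U = ⊤)
    (hmove : ∀ i, 1 ≤ i → i < p → ∀ r ∈ R, MulAut.conjNormal (y ^ i) r ∈ U) : Nat.card R = p := by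
  classical
  have hp : p.Prime := Fact.out
  have hker : Nat.card (PGroup.conjDiff A y).ker = p := by
    have h1 := PGroup.index_commutator_eq A y (PGroup.top_of_index_prime_lt A p hidx hy)
    rw [h, hidx, pow_two] at h1
    exact (Nat.eq_of_mul_eq_mul_left hp.pos h1).symm
  let term : ℕ → R →* Abelianization A := fun i =>
    Abelianization.of.comp ((MulAut.conjNormal (y ^ i) : MulAut A).toMonoidHom.comp R.subtype)
  let ν : R →* Abelianization A := ∏ i ∈ Finset.range p, term i
  have hterm : ∀ i r, term i r = Abelianization.of (MulAut.conjNormal (y ^ i) (r : A)) := fun i r => rfl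
  have hyp : y ^ p ∈ A := hidx ▸ Subgroup.pow_index_mem A y
  have hp0 : ∀ r, term p r = term 0 r := by
    intro r
    rw [hterm, hterm, pow_zero, map_one, MulAut.one_apply]
    have e : MulAut.conjNormal (y ^ p) (r : A) = ⟨y ^ p, hyp⟩ * (r : A) * (⟨y ^ p, hyp⟩ : A)⁻¹ :=
      Subtype.ext (by rw [MulAut.conjNormal_apply]; rfl)
    rw [e, map_mul, map_mul, map_inv, mul_comm (Abelianization.of _) (Abelianization.of (r : A)),
      mul_inv_cancel_right]
  have hfix : ∀ r, PGroup.conjDiff A y (ν r) = 1 := by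
    intro r
    have e1 : ∀ i, Abelianization.map (MulAut.conjNormal y : MulAut A).toMonoidHom (term i r) = term (i + 1) r := by
      intro i
      rw [hterm, hterm, Abelianization.map_of, pow_succ', map_mul]
      rfl
    simp only [PGroup.conjDiff, MonoidHom.mul_apply, MonoidHom.inv_apply, MonoidHom.id_apply, ν,
      MonoidHom.finsetProd_apply, map_prod, e1, Finset.prod_mul_distrib, Finset.prod_inv_distrib]
    rw [mul_inv_eq_one]
    have h1 := Finset.prod_range_succ (fun i => term i r) p
    have h2 := Finset.prod_range_succ' (fun i => term i r) p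
    rw [h1, hp0] at h2
    exact mul_right_cancel h2.symm
  let ψ : Abelianization A →* Abelianization (A ⧸ U) := Abelianization.map (QuotientGroup.mk' U)
  have hψ : ∀ r : R, ψ (ν r) = Abelianization.of (QuotientGroup.mk' U (r : A)) := by
    intro r
    simp only [ν, ψ, MonoidHom.finsetProd_apply, map_prod, hterm, Abelianization.map_of]
    rw [Finset.prod_eq_single 0]
    · rw [pow_zero, map_one, MulAut.one_apply]
    · intro i hi hi0
      rw [(QuotientGroup.eq_one_iff _).2 (hmove i (Nat.one_le_iff_ne_zero.2 hi0) (Finset.mem_range.1 hi) _ r.2)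
        |> fun e : QuotientGroup.mk' U (MulAut.conjNormal (y ^ i) (r : A)) = 1 => e, map_one]
    · intro h0
      exact absurd (Finset.mem_range.2 hp.pos) h0
  have hle : Nat.card (Abelianization (A ⧸ U)) ≤ p := by
    rw [← hker]
    refine Nat.card_le_card_of_surjective (fun z : (PGroup.conjDiff A y).ker => ψ z) fun z => ?_
    obtain ⟨a, rfl⟩ := (PGroup.of_surjective _).comp (QuotientGroup.mk'_surjective U) z
    obtain ⟨r, hr, u, hu, rfl⟩ := mem_sup_of_normal_right.1 (hsup ▸ mem_top a : a ∈ R ⊔ U)
    refine ⟨⟨ν ⟨r, hr⟩, hfix _⟩, ?_⟩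
    show ψ (ν ⟨r, hr⟩) = Abelianization.of (QuotientGroup.mk' U (r * u))
    rw [hψ, map_mul (QuotientGroup.mk' U) r u,
      show QuotientGroup.mk' U u = 1 from (QuotientGroup.eq_one_iff u).2 hu, mul_one]
  have hcardR : Nat.card R = Nat.card (A ⧸ U) := by
    refine Nat.card_eq_of_bijective (fun r : R => QuotientGroup.mk' U (r : A)) ⟨fun a b hab => ?_, fun z => ?_⟩
    · have h1 : (a : A)⁻¹ * b ∈ R ⊓ U := mem_inf.2 ⟨mul_mem (inv_mem a.2) b.2, QuotientGroup.eq.1 hab⟩
      rw [hdisj.eq_bot, mem_bot, inv_mul_eq_one] at h1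
      exact Subtype.ext h1
    · obtain ⟨a, rfl⟩ := QuotientGroup.mk'_surjective U z
      obtain ⟨r, hr, u, hu, rfl⟩ := mem_sup_of_normal_right.1 (hsup ▸ mem_top a : a ∈ R ⊔ U)
      exact ⟨⟨r, hr⟩, (by rw [map_mul,
        show QuotientGroup.mk' U u = 1 from (QuotientGroup.eq_one_iff u).2 hu, mul_one])⟩
  rw [hcardR]
  have hQ : IsPGroup p (A ⧸ U) := (hP.to_subgroup A).to_quotient U
  haveI : Nontrivial (A ⧸ U) := Finite.one_lt_card_iff_nontrivial.1 (hcardR ▸ R.one_lt_card_iff_ne_bot.2 hR)
  haveI := hQ.isNilpotent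
  refine PGroup.card_eq_of_index_commutator_eq_prime hQ ?_
  obtain ⟨j, hj⟩ := hQ.index (commutator (A ⧸ U))
  have hj0 : j ≠ 0 := fun h0 => (Group.IsSolvable.commutator_lt_top_of_nontrivial (A ⧸ U)).ne
    (index_eq_one.1 (by rw [hj, h0, pow_zero]))
  exact le_antisymm hle (hj ▸ Nat.le_self_pow hj0 p)

section Ambient

variable {G : Type*} [Group G] [Finite G]

/-- An element outside an abelian maximal subgroup of a Sylow subgroup, off a normal subgroup. -/
theorem factorization_centralizer (S : Sylow p G) (N : Subgroup G) [N.Normal]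
    [IsMulCommutative (N.subgroupOf (S : Subgroup G))] (hidx : (N.subgroupOf (S : Subgroup G)).index = p)
    (h : (commutator (S : Subgroup G)).index = p ^ 2) :
    ∃ x : G, (∃ k : ℕ, orderOf x = p ^ k) ∧
      (Nat.card (centralizer ({x} : Set G))).factorization p = 2 := by
  have hp : p.Prime := Fact.out
  obtain ⟨x, hx⟩ : ∃ x : (S : Subgroup G), x ∉ N.subgroupOf (S : Subgroup G) := by
    by_contra hc
    push Not at hc
    have ht : N.subgroupOf (S : Subgroup G) = ⊤ := eq_top_iff.2 fun z _ => hc z
    rw [ht, index_top] at hidx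
    exact hp.one_lt.ne hidx
  have hcount : ∀ z : (S : Subgroup G), (z : G) ∉ N →
      Nat.card ((centralizer ({z} : Set (S : Subgroup G))).map (S : Subgroup G).subtype) = p ^ 2 := fun z hz => by
    rw [Subgroup.card_map_of_injective (S : Subgroup G).subtype_injective]
    exact PGroup.card_centralizer_eq_sq _ hidx h (fun hm => hz (mem_subgroupOf.1 hm))
  have hle : ∀ z : (S : Subgroup G), (centralizer ({z} : Set (S : Subgroup G))).map (S : Subgroup G).subtype =
      (S : Subgroup G) ⊓ centralizer ({(z : G)} : Set G) := by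
    intro z
    ext w
    simp only [Subgroup.mem_map, mem_inf, mem_centralizer_singleton_iff, coe_subtype]
    exact ⟨fun ⟨v, hv, e⟩ => e ▸ ⟨v.2, congrArg Subtype.val hv⟩, fun ⟨h1, h2⟩ => ⟨⟨w, h1⟩, Subtype.ext h2, rfl⟩⟩
  obtain ⟨k, hk⟩ := IsPGroup.iff_orderOf.1 S.2 x
  have hord : orderOf (x : G) = p ^ k := by rw [orderOf_coe, hk]
  refine ⟨x, ⟨k, hord⟩, le_antisymm ?_ ?_⟩
  · set C := centralizer ({(x : G)} : Set G)
    obtain ⟨R⟩ : Nonempty (Sylow p C) := inferInstance
    set R' := (R : Subgroup C).map C.subtype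
    have hxR : (x : G) ∈ R' := by
      have hxC : (x : G) ∈ C := mem_centralizer_singleton_iff.2 rfl
      haveI : (zpowers (⟨x, hxC⟩ : C)).Normal := ⟨fun u hu g => by
        obtain ⟨i, rfl⟩ := hu
        have hc : Commute g (⟨x, hxC⟩ : C) := Subtype.ext (mem_centralizer_singleton_iff.1 g.2)
        simp only [(hc.zpow_right i).eq, mul_inv_cancel_right]
        exact zpow_mem (mem_zpowers _) i⟩
      have hpg : IsPGroup p (zpowers (⟨x, hxC⟩ : C)) :=
        IsPGroup.of_card (n := k) (by rw [Nat.card_zpowers, Subgroup.orderOf_mk, hord])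
      exact ⟨⟨x, hxC⟩, hpg.le_sylow_of_normal R (mem_zpowers _), rfl⟩
    obtain ⟨Q, hQ⟩ := (R.2.map C.subtype : IsPGroup p R').exists_le_sylow
    obtain ⟨g, hg⟩ := MulAction.exists_smul_eq G Q S
    have hconj : R'.map (MulAut.conj g).toMonoidHom ≤ (S : Subgroup G) := by
      rw [← hg, Sylow.coe_subgroup_smul]
      rintro _ ⟨w, hw, rfl⟩
      exact ⟨w, hQ hw, rfl⟩
    have hz : g * x * g⁻¹ ∈ (S : Subgroup G) := hconj ⟨x, hxR, rfl⟩
    have hzN : g * x * g⁻¹ ∉ N := fun hm => hx (mem_subgroupOf.2 (by
      simpa [mul_assoc] using (inferInstance : N.Normal).conj_mem _ hm g⁻¹))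
    have h1 : R'.map (MulAut.conj g).toMonoidHom ≤
        (S : Subgroup G) ⊓ centralizer ({g * x * g⁻¹} : Set G) := by
      refine le_inf hconj ?_
      rintro _ ⟨w, hw, rfl⟩
      have h2 : w * x = x * w := mem_centralizer_singleton_iff.1 (map_subtype_le _ hw : w ∈ C)
      rw [mem_centralizer_singleton_iff]
      show g * w * g⁻¹ * (g * x * g⁻¹) = g * x * g⁻¹ * (g * w * g⁻¹)
      rw [show g * w * g⁻¹ * (g * x * g⁻¹) = g * (w * x) * g⁻¹ by group, h2]
      group
    have h3 := Subgroup.card_le_of_le h1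
    rw [← hle ⟨_, hz⟩, hcount ⟨_, hz⟩ hzN, Subgroup.card_map_of_injective (MulAut.conj g).injective,
      Subgroup.card_map_of_injective C.subtype_injective, R.card_eq_multiplicity] at h3
    exact (Nat.pow_le_pow_iff_right hp.one_lt).1 h3
  · rw [← hp.pow_dvd_iff_le_factorization Nat.card_pos.ne', ← hcount x (fun hm => hx (mem_subgroupOf.2 hm)), hle]
    exact card_dvd_of_le inf_le_right

/-- A minimal normal subgroup covers the Sylow subgroup or meets it in a maximal subgroup. -/
theorem subgroupOf_eq_top_or_index (S : Sylow p G) (hcore : Cfsg.pPrimeCore p G = ⊥)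
    (hcore' : (⁅(S : Subgroup G), (S : Subgroup G)⁆).normalCore = ⊥)
    (h : (commutator (S : Subgroup G)).index = p ^ 2) {N : Subgroup G} (hN : IsMinNormal N) :
    p ∣ Nat.card N ∧ (N.subgroupOf (S : Subgroup G) = ⊤ ∨ (N.subgroupOf (S : Subgroup G)).index = p) := by
  have hp : p.Prime := Fact.out
  haveI := hN.normal
  have hdvd : p ∣ Nat.card N := by
    by_contra hn
    exact hN.ne_bot (le_bot_iff.1 (hcore ▸ CfsgLib.PCore.le_pPrimeCore_of_not_dvd hN.normal hn))
  refine ⟨hdvd, ?_⟩
  set A := N.subgroupOf (S : Subgroup G)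
  have hS : IsPGroup p (S : Subgroup G) := S.2
  haveI := hS.isNilpotent
  have hnle : ¬ A ≤ commutator (S : Subgroup G) := by
    intro hA
    have hfr : N ⊓ (S : Subgroup G) ≤ (frattini (S : Subgroup G)).map (S : Subgroup G).subtype := fun z hz =>
      ⟨⟨z, hz.2⟩, CfsgLib.PGroup.commutator_le_frattini hS (hA (mem_subgroupOf.2 hz.1)), rfl⟩
    obtain ⟨T, K, hK, hKc⟩ := CfsgLib.Transfer.hasNormalPComplement_normal S N hfr
    haveI := hK
    obtain ⟨hKres, hndK⟩ := CfsgLib.Transfer.eq_pResidual_of_isComplement' T K hKc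
    have hKbot : K = ⊥ := by
      haveI : K.Characteristic := by
        rw [hKres]
        exact CfsgLib.Transfer.pResidual_characteristic
      have h1 : (K.map N.subtype).Normal := inferInstance
      have h2 := CfsgLib.PCore.le_pPrimeCore_of_not_dvd (p := p) h1
        (by rwa [Subgroup.card_map_of_injective N.subtype_injective])
      rw [hcore, le_bot_iff] at h2
      exact (map_eq_bot_iff_of_injective K N.subtype_injective).1 h2
    have hNp : IsPGroup p N := by
      have : (T : Subgroup N) = ⊤ := by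
        rw [hKbot] at hKc
        exact isComplement'_bot_left.1 hKc
      exact (this ▸ T.2).of_equiv Subgroup.topEquiv
    have hNS : N ≤ (S : Subgroup G) := hNp.le_sylow_of_normal S
    have hle : N ≤ ⁅(S : Subgroup G), (S : Subgroup G)⁆ := by
      rw [← map_subtype_commutator]
      exact fun z hz => ⟨⟨z, hNS hz⟩, hA (mem_subgroupOf.2 hz), rfl⟩
    exact hN.ne_bot (le_bot_iff.1 (hcore' ▸ normal_le_normalCore.2 hle))
  set W := commutator (S : Subgroup G) ⊔ A
  have hW : W.index ∣ p ^ 2 := h ▸ index_dvd_of_le le_sup_left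
  obtain ⟨j, hj2, hj⟩ := (Nat.dvd_prime_pow hp).1 hW
  have hne2 : j ≠ 2 := by
    rintro rfl
    have h1 := relIndex_mul_index (le_sup_left : commutator (S : Subgroup G) ≤ W)
    rw [h, hj] at h1
    have : (commutator (S : Subgroup G)).relIndex W = 1 :=
      Nat.eq_of_mul_eq_mul_right (pow_pos hp.pos 2) (h1.trans (one_mul _).symm)
    exact hnle (le_sup_right.trans (relIndex_eq_one.1 this))
  rcases Nat.eq_zero_or_pos j with rfl | hj0
  · refine Or.inl (frattini_nongenerating (top_le_iff.1 ?_))
    rw [← index_eq_one.1 (hj.trans (pow_zero p))]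
    exact sup_le ((CfsgLib.PGroup.commutator_le_frattini hS).trans le_sup_right) le_sup_left
  · refine Or.inr ?_
    have hj1 : W.index = p := by rw [hj, show j = 1 by omega, pow_one]
    have hq := PGroup.card_eq_of_index_commutator_eq_prime (hS.to_quotient A) (P := (S : Subgroup G) ⧸ A) (by
      have e : commutator ((S : Subgroup G) ⧸ A) = (commutator (S : Subgroup G)).map (QuotientGroup.mk' A) := by
        rw [_root_.commutator_def, _root_.commutator_def, map_commutator,
          map_top_of_surjective _ (QuotientGroup.mk'_surjective A)]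
      rw [e, index_map, QuotientGroup.ker_mk', MonoidHom.range_eq_top.2 (QuotientGroup.mk'_surjective A), index_top,
        mul_one]
      exact hj1)
    rw [index_eq_card]
    exact hq

end Ambient

end CfsgLib.Blk4.SmallCentralizer
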