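import Cfsg.Agent.Lib.Blk4.SmallCentralizer
import Cfsg.Agent.Lib.Recognition.PowerOfSimple

/-!
An element with small centraliser in a group that is not almost simple.
-/

set_option autoImplicit false
set_option linter.unusedSectionVars false
set_option linter.style.haveILetI false

namespace CfsgLib.Blk4.SmallCentralizer

open Subgroup
open scoped commutatorElement
open CfsgLib.Structure (IsMinNormal conjAut)

variable {G : Type*} [Group G] [Finite G] {p : ℕ} [Fact p.Prime]

/-- A Sylow subgroup of a product of two commuting factors is the product of its intersections. -/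
theorem sylow_inf_sup (T : Sylow p G) (S C : Subgroup G) [S.Normal] [C.Normal] (hdisj : Disjoint S C)
    (hsup : S ⊔ C = ⊤) : S.subgroupOf (T : Subgroup G) ⊔ C.subgroupOf (T : Subgroup G) = ⊤ := by
  have hp : p.Prime := Fact.out
  let f : ↥((T : Subgroup G) ⊓ S) × ↥((T : Subgroup G) ⊓ C) → (T : Subgroup G) :=
    fun ab => ⟨(ab.1 : G) * ab.2, mul_mem ab.1.2.1 ab.2.2.1⟩
  have hinj : Function.Injective f := by
    rintro ⟨a, b⟩ ⟨a', b'⟩ he
    have he' : (a : G) * b = (a' : G) * b' := congrArg Subtype.val he
    have h1 : (a' : G)⁻¹ * a = (b' : G) * (b : G)⁻¹ := by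
      calc (a' : G)⁻¹ * a = (a' : G)⁻¹ * ((a : G) * b) * (b : G)⁻¹ := by group
        _ = (a' : G)⁻¹ * ((a' : G) * b') * (b : G)⁻¹ := by rw [he']
        _ = (b' : G) * (b : G)⁻¹ := by group
    have h2 : (a' : G)⁻¹ * a ∈ S ⊓ C :=
      mem_inf.2 ⟨mul_mem (inv_mem a'.2.2) a.2.2, h1 ▸ mul_mem b'.2.2 (inv_mem b.2.2)⟩
    rw [hdisj.eq_bot, mem_bot, inv_mul_eq_one] at h2
    rw [h2] at he'
    exact Prod.ext (Subtype.ext h2.symm) (Subtype.ext (mul_left_cancel he'))
  have hcard : Nat.card G = Nat.card S * Nat.card C := by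
    refine (Subgroup.IsComplement'.card_mul_card (isComplement'_of_disjoint_and_mul_eq_univ hdisj ?_)).symm
    rw [← normal_mul, hsup, coe_top]
  have hc : Nat.card (↥((T : Subgroup G) ⊓ S) × ↥((T : Subgroup G) ⊓ C)) = Nat.card (T : Subgroup G) := by
    rw [Nat.card_prod, CfsgLib.Fusion.card_sylow_inf_normal, CfsgLib.Fusion.card_sylow_inf_normal,
      T.card_eq_multiplicity, ← pow_add, hcard, Nat.factorization_mul Nat.card_pos.ne' Nat.card_pos.ne',
      Finsupp.add_apply]
  have hbij : Function.Bijective f := ((Nat.bijective_iff_injective_and_card f).2 ⟨hinj, hc⟩)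
  rw [eq_top_iff]
  intro t _
  obtain ⟨⟨a, b⟩, rfl⟩ := hbij.2 t
  exact mul_mem (mem_sup_left (mem_subgroupOf.2 a.2.2) : (⟨(a : G), a.2.1⟩ : (T : Subgroup G)) ∈ _)
    (mem_sup_right (mem_subgroupOf.2 b.2.2) : (⟨(b : G), b.2.1⟩ : (T : Subgroup G)) ∈ _)

theorem exists_small_centralizer (P : Sylow p G) (hbig : p ^ 2 ∣ Nat.card G)
    (hcore : Cfsg.pPrimeCore p G = ⊥)
    (hcore' : (⁅(P : Subgroup G), (P : Subgroup G)⁆).normalCore = ⊥)
    (hnas : ¬ ∃ S : Subgroup G, S.Normal ∧ IsSimpleGroup S ∧ ¬ IsMulCommutative S ∧
      centralizer (S : Set G) = ⊥)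
    (h : (commutator (P : Subgroup G)).index = p ^ 2) :
    ∃ x : G, (∃ k : ℕ, orderOf x = p ^ k) ∧
      (Nat.card (centralizer ({x} : Set G))).factorization p = 2 := by
  classical
  have hp : p.Prime := Fact.out
  by_cases hab : IsMulCommutative (P : Subgroup G)
  · refine ⟨1, ⟨0, by simp⟩, ?_⟩
    have hc : commutator (P : Subgroup G) = ⊥ := by
      rw [eq_bot_iff, _root_.commutator_def, commutator_le]
      intro a _ b _
      rw [mem_bot, commutatorElement_eq_one_iff_mul_comm]
      exact mul_comm' a b
    rw [hc, index_bot, P.card_eq_multiplicity] at h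
    rw [show centralizer ({(1 : G)} : Set G) = ⊤ from eq_top_iff.2 fun z _ =>
      mem_centralizer_singleton_iff.2 (by rw [mul_one, one_mul]), card_top]
    exact Nat.pow_right_injective hp.two_le h
  haveI : Nontrivial G := Finite.one_lt_card_iff_nontrivial.1
    (lt_of_lt_of_le (Nat.one_lt_pow two_ne_zero hp.one_lt) (Nat.le_of_dvd Nat.card_pos hbig))
  obtain ⟨N, hN⟩ := CfsgLib.Structure.exists_isMinNormal (G := G)
  haveI := hN.normal
  obtain ⟨hdvd, hdich⟩ := subgroupOf_eq_top_or_index P hcore hcore' h hN
  have hPp : IsPGroup p (P : Subgroup G) := P.2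
  set A := N.subgroupOf (P : Subgroup G) with hA
  by_cases hNab : IsMulCommutative N
  · haveI : IsMulCommutative A := ⟨⟨fun a b => Subtype.ext (Subtype.ext
      (congrArg (fun z : N => (z : G)) (mul_comm' (⟨(a.1 : G), a.2⟩ : N) ⟨(b.1 : G), b.2⟩)))⟩⟩
    rcases hdich with ht | hi
    · exact absurd ⟨⟨fun a b => Subtype.ext (congrArg (fun z : N => (z : G))
        (mul_comm' (⟨(a : G), mem_subgroupOf.1 (ht ▸ mem_top a : a ∈ A)⟩ : N)
          ⟨(b : G), mem_subgroupOf.1 (ht ▸ mem_top b : b ∈ A)⟩))⟩⟩ hab
    · exact factorization_centralizer P N hi h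
  -- the centraliser of the non-abelian minimal normal subgroup is trivial
  have hZ := hN.center_eq_bot hNab
  have hcardA : Nat.card ↥((P : Subgroup G) ⊓ N) = p ^ (Nat.card N).factorization p :=
    CfsgLib.Fusion.card_sylow_inf_normal P N
  have hAne : ∀ M : Subgroup G, M.Normal → p ∣ Nat.card M → M.subgroupOf (P : Subgroup G) ≠ ⊥ := by
    intro M hM hd he
    haveI := hM
    have h1 := CfsgLib.Fusion.card_sylow_inf_normal P M
    have h2 : (P : Subgroup G) ⊓ M = ⊥ := by
      rw [inf_comm, ← disjoint_iff]
      exact subgroupOf_eq_bot.1 he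
    rw [h2, card_bot] at h1
    exact (hp.factorization_pos_of_dvd Nat.card_pos.ne' hd).ne'
      ((Nat.pow_eq_one.1 h1.symm).resolve_left hp.ne_one)
  have hCbot : centralizer (N : Set G) = ⊥ := by
    by_contra hne
    obtain ⟨M, hM, hMle⟩ := CfsgLib.Structure.exists_isMinNormal_le (H := centralizer (N : Set G))
      inferInstance hne
    haveI := hM.normal
    have hMN : M ⊓ N = ⊥ := by
      rw [eq_bot_iff]
      rintro z ⟨hz1, hz2⟩
      have hzc : (⟨z, hz2⟩ : N) ∈ center N := mem_center_iff.2 fun w =>
        Subtype.ext (mem_centralizer_iff.1 (hMle hz1) w w.2)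
      rw [hZ, mem_bot] at hzc
      exact mem_bot.2 (congrArg Subtype.val hzc)
    obtain ⟨hdM, hdichM⟩ := subgroupOf_eq_top_or_index P hcore hcore' h hM
    have hAB : A ⊓ M.subgroupOf (P : Subgroup G) = ⊥ := by
      rw [eq_bot_iff]
      rintro z ⟨hz1, hz2⟩
      exact mem_bot.2 (Subtype.ext (mem_bot.1 (hMN ▸ mem_inf.2 ⟨hz2, hz1⟩ : (z : G) ∈ (⊥ : Subgroup G))))
    have hAne' := hAne N hN.normal hdvd
    have hBne' := hAne M hM.normal hdM
    have hi : A.index = p := hdich.resolve_left fun e => hBne' (by
      rw [e, top_inf_eq] at hAB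
      exact hAB)
    have hiM : (M.subgroupOf (P : Subgroup G)).index = p := hdichM.resolve_left fun e => hAne' (by
      rw [e, inf_top_eq] at hAB
      exact hAB)
    have hle : Nat.card A ≤ p := by
      conv_rhs => rw [← hiM, index_eq_card]
      refine Nat.card_le_card_of_injective (fun a : A => ((a : (P : Subgroup G)) : (P : Subgroup G) ⧸ _)) ?_
      intro a b hab'
      have h1 : (a : (P : Subgroup G))⁻¹ * b ∈ A ⊓ M.subgroupOf (P : Subgroup G) :=
        mem_inf.2 ⟨mul_mem (inv_mem a.2) b.2, QuotientGroup.eq.1 hab'⟩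
      rw [hAB, mem_bot, inv_mul_eq_one] at h1
      exact Subtype.ext h1
    have h1 := card_mul_index A
    rw [hi] at h1
    obtain ⟨k, hk⟩ := IsPGroup.iff_card.1 hPp
    have hk2 : k ≤ 2 := by
      rw [← Nat.pow_le_pow_iff_right hp.one_lt, ← hk, ← h1, pow_two]
      exact Nat.mul_le_mul_right p hle
    have hk2' : k = 2 := by
      refine le_antisymm hk2 ?_
      rw [← Nat.pow_le_pow_iff_right hp.one_lt, ← hk]
      exact h ▸ Nat.le_of_dvd Nat.card_pos (index_dvd_card _)
    rw [hk2'] at hk
    letI := IsPGroup.commGroupOfCardEqPrimeSq hk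
    exact hab ⟨⟨fun a b => mul_comm a b⟩⟩
  -- a minimal normal subgroup is a proper direct factor
  haveI : Nontrivial N := (nontrivial_iff_ne_bot N).2 hN.ne_bot
  have hproper : ∀ {S : Subgroup N}, IsMinNormal S → S ≠ ⊤ := by
    intro S hS he
    refine hnas ⟨N, hN.normal, ?_, hNab, hCbot⟩
    haveI := hN.isSimpleGroup_minNormal hS
    subst he
    exact IsSimpleGroup.isSimpleGroup_of_surjective (Subgroup.topEquiv : (⊤ : Subgroup N) ≃* N).toMonoidHom
      (Subgroup.topEquiv : (⊤ : Subgroup N) ≃* N).surjective
  -- each factor and its centraliser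
  have hsplit : ∀ {S : Subgroup N}, IsMinNormal S → S.Normal ∧ (centralizer (S : Set N)).Normal ∧
      Disjoint S (centralizer (S : Set N)) ∧ S ⊔ centralizer (S : Set N) = ⊤ ∧
      p ∣ Nat.card S ∧ p ∣ Nat.card (centralizer (S : Set N)) := by
    intro S hS
    haveI := hS.normal
    have hcardconj : ∀ {A' : Subgroup N}, IsMinNormal A' → Nat.card A' = Nat.card S := by
      intro A' hA'
      obtain ⟨g, rfl⟩ := hN.exists_conj_eq hNab hS hA'
      exact Subgroup.card_map_of_injective (conjAut N g).injective
    have hdisj : Disjoint S (centralizer (S : Set N)) := by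
      rw [disjoint_iff, eq_bot_iff]
      rintro z ⟨hz1, hz2⟩
      have hzc : (⟨z, hz1⟩ : S) ∈ center S := mem_center_iff.2 fun w =>
        Subtype.ext (mem_centralizer_iff.1 hz2 w w.2)
      haveI := hN.isSimpleGroup_minNormal hS
      rw [CfsgLib.Recognition.PowerOfSimple.center_eq_bot_of_simple (hN.not_isMulCommutative_minNormal hNab hS),
        mem_bot] at hzc
      exact mem_bot.2 (congrArg Subtype.val hzc)
    have hsup : S ⊔ centralizer (S : Set N) = ⊤ := by
      rw [eq_top_iff, ← hN.socle_eq_top]
      refine sSup_le fun A' hA' => ?_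
      rcases eq_or_ne A' S with rfl | hne
      · exact le_sup_left
      · exact (hA'.le_centralizer hS hne).trans le_sup_right
    have hdS : p ∣ Nat.card S := by
      by_contra hn
      have hle : CfsgLib.Structure.socle N ≤ Cfsg.pPrimeCore p N := sSup_le fun A' hA' =>
        CfsgLib.PCore.le_pPrimeCore_of_not_dvd hA'.normal (by rwa [hcardconj hA'])
      rw [hN.socle_eq_top, top_le_iff] at hle
      have := CfsgLib.PCore.not_dvd_card_pPrimeCore (p := p) (G := N)
      rw [hle, card_top] at this
      exact this hdvd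
    refine ⟨inferInstance, inferInstance, hdisj, hsup, hdS, ?_⟩
    have hne : centralizer (S : Set N) ≠ ⊥ := fun e => hproper hS (by rwa [e, sup_bot_eq] at hsup)
    obtain ⟨A', hA', hle⟩ := CfsgLib.Structure.exists_isMinNormal_le (H := centralizer (S : Set N)) inferInstance hne
    exact (hcardconj hA' ▸ hdS).trans (card_dvd_of_le hle)
  -- the Sylow subgroup of `N`
  let T : Sylow p N := Sylow.ofCard ((P : Subgroup G).subgroupOf N) (by
    rw [← hcardA, ← Subgroup.card_map_of_injective N.subtype_injective, subgroupOf_map_subtype])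
  have hT : (T : Subgroup N) = (P : Subgroup G).subgroupOf N := rfl
  let φ : A →* N := (((P : Subgroup G).subtype.comp A.subtype).codRestrict N fun a => a.2)
  have hφ : ∀ a : A, ((φ a : N) : G) = ((a : (P : Subgroup G)) : G) := fun a => rfl
  let e : A ≃* (T : Subgroup N) :=
    { toFun := fun a => ⟨φ a, mem_subgroupOf.2 a.1.2⟩
      invFun := fun t => ⟨⟨((t : N) : G), mem_subgroupOf.1 (hT ▸ t.2)⟩, mem_subgroupOf.2 t.1.2⟩
      left_inv := fun a => rfl
      right_inv := fun t => rfl
      map_mul' := fun a b => rfl }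
  have hdec : ∀ {S : Subgroup N}, IsMinNormal S →
      Disjoint (S.comap φ) ((centralizer (S : Set N)).comap φ) ∧
      S.comap φ ⊔ (centralizer (S : Set N)).comap φ = ⊤ ∧
      S.comap φ ≠ ⊥ ∧ (centralizer (S : Set N)).comap φ ≠ ⊥ ∧
      Nat.card (S.comap φ) = p ^ (Nat.card S).factorization p := by
    intro S hS
    obtain ⟨hn1, hn2, hdisj, hsup, hd1, hd2⟩ := hsplit hS
    haveI := hn1
    haveI := hn2
    have hcomap : ∀ H : Subgroup N, H.comap φ = (H.subgroupOf (T : Subgroup N)).comap e.toMonoidHom := fun H => by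
      ext a; rfl
    have hcard : ∀ (H : Subgroup N) [H.Normal], Nat.card (H.comap φ) = p ^ (Nat.card H).factorization p := by
      intro H _
      rw [hcomap, ← Subgroup.card_map_of_injective (f := e.toMonoidHom) e.injective,
        map_comap_eq_self_of_surjective (f := e.toMonoidHom) e.surjective,
        ← Subgroup.card_map_of_injective (T : Subgroup N).subtype_injective, subgroupOf_map_subtype, inf_comm]
      exact CfsgLib.Fusion.card_sylow_inf_normal T H
    have hne : ∀ (H : Subgroup N) [H.Normal], p ∣ Nat.card H → H.comap φ ≠ ⊥ := by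
      intro H _ hd he
      have := hcard H
      rw [he, card_bot] at this
      exact (hp.factorization_pos_of_dvd Nat.card_pos.ne' hd).ne'
        ((Nat.pow_eq_one.1 this.symm).resolve_left hp.ne_one)
    refine ⟨?_, ?_, hne S hd1, hne _ hd2, hcard S⟩
    · rw [disjoint_iff, ← Subgroup.comap_inf, hdisj.eq_bot, MonoidHom.comap_bot, MonoidHom.ker_eq_bot_iff]
      intro a b hab'
      exact Subtype.ext (Subtype.ext (congrArg (fun z : N => (z : G)) hab'))
    · rw [hcomap, hcomap, Subgroup.comap_sup_eq (f := e.toMonoidHom) _ _ e.surjective, sylow_inf_sup T S _ hdisj hsup, comap_top]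
  -- images in the Sylow subgroup
  obtain ⟨S, hS⟩ := CfsgLib.Structure.exists_isMinNormal (G := N)
  rcases hdich with ht | hi
  · obtain ⟨hdisj, hsup, hne1, hne2, -⟩ := hdec hS
    haveI := (hsplit hS).1
    haveI := (hsplit hS).2.1
    set ι : (P : Subgroup G) →* A := (MonoidHom.id _).codRestrict A fun a => ht ▸ mem_top a
    have hι : Function.Bijective ι := ⟨fun a b hab' => congrArg Subtype.val hab', fun a => ⟨a.1, rfl⟩⟩
    refine absurd (PGroup.commutative_of_disjoint_sup hPp h ((S.comap φ).comap ι)
      (((centralizer (S : Set N)).comap φ).comap ι) ?_ ?_ ?_ ?_) hab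
    · exact fun e' => hne1 (by
        rw [← map_comap_eq_self_of_surjective hι.2 (S.comap φ), e', Subgroup.map_bot])
    · exact fun e' => hne2 (by
        rw [← map_comap_eq_self_of_surjective hι.2 ((centralizer (S : Set N)).comap φ), e', Subgroup.map_bot])
    · rw [disjoint_iff, ← Subgroup.comap_inf, hdisj.eq_bot, MonoidHom.comap_bot, MonoidHom.ker_eq_bot_iff]
      exact hι.1
    · rw [Subgroup.comap_sup_eq (f := ι) _ _ hι.2, hsup, comap_top]
  obtain ⟨y, hy⟩ : ∃ y : (P : Subgroup G), y ∉ A := by
    by_contra hc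
    push Not at hc
    have ht : A = ⊤ := eq_top_iff.2 fun z _ => hc z
    rw [ht, index_top] at hi
    exact hp.one_lt.ne hi
  have hφconj : ∀ (g : (P : Subgroup G)) (a : A), φ (MulAut.conjNormal g a) = conjAut N (g : G) (φ a) := by
    intro g a
    refine Subtype.ext ?_
    rw [hφ, MulAut.conjNormal_apply]
    simp only [conjAut, MulAut.conjNormal_apply, hφ, coe_mul, InvMemClass.coe_inv]
  -- every factor meets the Sylow subgroup in order `p`
  have hprime : ∀ {S : Subgroup N}, IsMinNormal S → Nat.card (S.comap φ) = p := by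
    intro S hS
    obtain ⟨hdisj, hsup, hne1, hne2, -⟩ := hdec hS
    haveI := (hsplit hS).1
    haveI := (hsplit hS).2.1
    by_cases hfix : S.map (conjAut N ((y : (P : Subgroup G)) : G)).toMonoidHom = S
    · exfalso
      have hfixC : (centralizer (S : Set N)).map (conjAut N ((y : (P : Subgroup G)) : G)).toMonoidHom =
          centralizer (S : Set N) := by
        refine eq_of_le_of_card_ge ?_ (Subgroup.card_map_of_injective (conjAut N _).injective).ge
        rintro _ ⟨z, hz, rfl⟩
        rw [mem_centralizer_iff]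
        intro w hw
        rw [← hfix] at hw
        obtain ⟨v, hv, rfl⟩ := hw
        rw [← map_mul, ← map_mul, mem_centralizer_iff.1 hz v hv]
      have hnorm : ∀ H : Subgroup N, H.Normal →
          H.map (conjAut N ((y : (P : Subgroup G)) : G)).toMonoidHom = H →
            ((H.comap φ).map A.subtype).Normal := by
        intro H hH hHy
        rw [← normalizer_eq_top_iff]
        refine PGroup.top_of_index_prime_lt A p hi hy _ ?_ ?_
        · rw [← normal_subgroupOf_iff_le_normalizer (map_subtype_le _)]
          rw [← comap_subtype, comap_map_eq_self_of_injective A.subtype_injective]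
          exact hH.comap φ
        · rw [mem_normalizer_iff]
          have hmem : ∀ a : A, a ∈ H.comap φ ↔ MulAut.conjNormal y a ∈ H.comap φ := fun a => by
            rw [mem_comap, mem_comap, hφconj]
            conv_rhs => rw [← hHy]
            exact (Subgroup.mem_map_iff_mem (conjAut N ((y : (P : Subgroup G)) : G)).injective).symm
          intro z
          constructor
          · rintro ⟨a, ha, rfl⟩
            exact ⟨_, (hmem a).1 ha, by simp⟩
          · rintro ⟨a, ha, hae⟩
            refine ⟨MulAut.conjNormal y⁻¹ a, ?_, ?_⟩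
            · rw [SetLike.mem_coe, hmem, ← MulAut.mul_apply, ← map_mul, mul_inv_cancel, map_one]
              exact ha
            · simp only [coe_subtype] at hae ⊢
              rw [MulAut.conjNormal_apply, hae]
              group
      haveI := hnorm S inferInstance hfix
      haveI := hnorm _ inferInstance hfixC
      have h3 := PGroup.cube_le_index_commutator hPp ((S.comap φ).map A.subtype)
        (((centralizer (S : Set N)).comap φ).map A.subtype) ?_ ?_ ?_ ?_
      · rw [h] at h3
        exact absurd ((Nat.pow_le_pow_iff_right hp.one_lt).1 h3) (by norm_num)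
      · rwa [Ne, map_eq_bot_iff_of_injective _ A.subtype_injective]
      · rwa [Ne, map_eq_bot_iff_of_injective _ A.subtype_injective]
      · rw [disjoint_iff, ← Subgroup.map_inf _ _ _ A.subtype_injective, hdisj.eq_bot, Subgroup.map_bot]
      · rw [← Subgroup.map_sup, hsup, ← MonoidHom.range_eq_map, range_subtype]
        exact hi
    refine card_eq_prime_of_moved hPp h A hi hy (S.comap φ) ((centralizer (S : Set N)).comap φ) hne1 hdisj hsup ?_
    intro i hi1 hip r hr
    rw [mem_comap, hφconj]
    have hmin := hS.map_equiv (conjAut N ((y ^ i : (P : Subgroup G)) : G))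
    have hne : S.map (conjAut N ((y ^ i : (P : Subgroup G)) : G)).toMonoidHom ≠ S := by
      intro he
      apply hfix
      -- the stabiliser contains a power generating `y` modulo `N`
      let K : Subgroup G :=
        { carrier := {g | S.map (conjAut N g).toMonoidHom = S}
          one_mem' := by
            show S.map (conjAut N 1).toMonoidHom = S
            convert Subgroup.map_id S
            ext z
            simp [conjAut]
          mul_mem' := fun {a b} ha hb => by
            show S.map (conjAut N (a * b)).toMonoidHom = S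
            have e1 : (conjAut N (a * b)).toMonoidHom = (conjAut N a).toMonoidHom.comp (conjAut N b).toMonoidHom := by
              ext z; simp [conjAut]
            rw [e1, ← Subgroup.map_map, hb, ha]
          inv_mem' := fun {a} ha => by
            show S.map (conjAut N a⁻¹).toMonoidHom = S
            conv_lhs => rw [← (show S.map (conjAut N a).toMonoidHom = S from ha), Subgroup.map_map]
            convert Subgroup.map_id S
            ext z
            simp [conjAut] }
      have hNK : N ≤ K := by
        intro g hg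
        show S.map (conjAut N g).toMonoidHom = S
        refine eq_of_le_of_card_ge ?_ (Subgroup.card_map_of_injective (conjAut N _).injective).ge
        rintro _ ⟨z, hz, rfl⟩
        have : (conjAut N g) z = ⟨g, hg⟩ * z * (⟨g, hg⟩ : N)⁻¹ := Subtype.ext (by
          simp [conjAut])
        show conjAut N g z ∈ S
        rw [this]
        exact (hsplit hS).1.conj_mem z hz _
      have h1 : (y : G) ^ i ∈ K := by
        show S.map (conjAut N ((y : G) ^ i)).toMonoidHom = S
        rwa [← SubmonoidClass.coe_pow]
      have h2 : (y : G) ^ p ∈ K := hNK (by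
        rw [← SubmonoidClass.coe_pow]
        have h4 := Subgroup.pow_index_mem A y
        rw [hi] at h4
        exact mem_subgroupOf.1 h4)
      have hcop : Nat.Coprime i p :=
        (hp.coprime_iff_not_dvd.2 fun hd => absurd (Nat.le_of_dvd hi1 hd) (not_le.2 hip)).symm
      have h3 : (y : G) ^ ((Nat.gcd i p : ℕ) : ℤ) ∈ K := by
        rw [Nat.gcd_eq_gcd_ab, zpow_add, zpow_mul, zpow_mul, zpow_natCast, zpow_natCast]
        exact mul_mem (zpow_mem h1 _) (zpow_mem h2 _)
      rw [hcop.gcd_eq_one, Nat.cast_one, zpow_one] at h3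
      exact h3
    exact hmin.le_centralizer hS hne ⟨φ r, hr, rfl⟩
  -- so the Sylow subgroup of `N` is abelian
  haveI : IsMulCommutative A := by
    refine ⟨⟨fun a b => ?_⟩⟩
    have hcen : φ ⁅a, b⁆ ∈ center N := by
      rw [mem_center_iff]
      intro w
      have hle : CfsgLib.Structure.socle N ≤ centralizer ({φ ⁅a, b⁆} : Set N) := by
        refine sSup_le fun S hS => ?_
        obtain ⟨hdisj, hsup, -, -, -⟩ := hdec hS
        haveI := (hsplit hS).2.1
        have hcomm : ⁅a, b⁆ ∈ (centralizer (S : Set N)).comap φ := by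
          rw [← QuotientGroup.eq_one_iff]
          haveI : IsCyclic (A ⧸ (centralizer (S : Set N)).comap φ) := by
            haveI := isCyclic_of_prime_card (hprime hS)
            refine isCyclic_of_surjective ((QuotientGroup.mk' _).comp (S.comap φ).subtype) fun z => ?_
            obtain ⟨z, rfl⟩ := QuotientGroup.mk'_surjective _ z
            obtain ⟨r, hr, u, hu, rfl⟩ := mem_sup_of_normal_right.1 (hsup ▸ mem_top z : z ∈ _ ⊔ _)
            refine ⟨⟨r, hr⟩, ?_⟩
            show QuotientGroup.mk' _ r = _
            rw [map_mul (QuotientGroup.mk' _) r u, show QuotientGroup.mk' ((centralizer (S : Set N)).comap φ) u = 1 from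
              (QuotientGroup.eq_one_iff u).2 hu, mul_one]
          haveI : IsMulCommutative (A ⧸ (centralizer (S : Set N)).comap φ) := IsCyclic.isMulCommutative
          rw [show ((⁅a, b⁆ : A) : A ⧸ (centralizer (S : Set N)).comap φ) =
            ⁅(a : A ⧸ (centralizer (S : Set N)).comap φ), (b : A ⧸ (centralizer (S : Set N)).comap φ)⁆ from
            map_commutatorElement (QuotientGroup.mk' _) a b, commutatorElement_eq_one_iff_mul_comm]
          exact mul_comm' _ _
        intro z hz
        rw [mem_centralizer_singleton_iff]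
        exact mem_centralizer_iff.1 hcomm z hz
      rw [hN.socle_eq_top] at hle
      exact mem_centralizer_singleton_iff.1 (hle (mem_top w))
    rw [hZ, mem_bot] at hcen
    rw [← commutatorElement_eq_one_iff_mul_comm]
    exact Subtype.ext (Subtype.ext (congrArg (fun z : N => (z : G)) hcen))
  exact factorization_centralizer P N hi h

end CfsgLib.Blk4.SmallCentralizer
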