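import Mathlib
import Cfsg.Agent.Lib.Blk4.PGroup

/-!
Groups of prime power order whose derived subgroup has index the square of the prime.
-/

set_option autoImplicit false
set_option linter.unusedSectionVars false
set_option linter.style.haveILetI false

namespace CfsgLib.Blk4.PGroup

open Subgroup
open scoped commutatorElement

variable {P : Type*} [Group P] [Finite P] {p : ℕ} [Fact p.Prime]

/-- The index of the derived subgroup is at least the square of the prime. -/
theorem sq_le_index_commutator (hP : IsPGroup p P) (hbig : p ^ 2 ∣ Nat.card P) :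
    p ^ 2 ≤ (commutator P).index := by
  have hp : p.Prime := Fact.out
  obtain ⟨k, hk⟩ := hP.index (commutator P)
  rw [hk]
  refine Nat.pow_le_pow_right hp.pos ?_
  by_contra hlt
  have h01 : k = 0 ∨ k = 1 := by omega
  have hne : Nontrivial P := Finite.one_lt_card_iff_nontrivial.1
    (lt_of_lt_of_le (Nat.one_lt_pow two_ne_zero hp.one_lt) (Nat.le_of_dvd Nat.card_pos hbig))
  rcases h01 with rfl | rfl
  · haveI := hP.isNilpotent
    exact (Group.IsSolvable.commutator_lt_top_of_nontrivial P).ne (index_eq_one.1 (by rw [hk, pow_zero]))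
  · rw [card_eq_of_index_commutator_eq_prime hP (by rw [hk, pow_one])] at hbig
    exact absurd (Nat.le_of_dvd hp.pos hbig) (not_le.2 (lt_self_pow₀ hp.one_lt one_lt_two))

/-- An element with centraliser of order the square of the prime forces that index. -/
theorem index_commutator_eq_sq (hP : IsPGroup p P) (hbig : p ^ 2 ∣ Nat.card P) (x : P)
    (hx : Nat.card (centralizer ({x} : Set P)) = p ^ 2) : (commutator P).index = p ^ 2 := by
  refine le_antisymm ?_ (sq_le_index_commutator hP hbig)
  have hinj : Function.Injective fun q : P ⧸ centralizer ({x} : Set P) =>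
      (⟨⁅q.out, x⁆, Subgroup.commutator_mem_commutator (mem_top _) (mem_top _)⟩ : commutator P) := by
    intro a b hab
    have h1 : a.out * x * a.out⁻¹ = b.out * x * b.out⁻¹ := by
      have := congrArg Subtype.val hab
      simp only [commutatorElement_def] at this
      exact mul_right_cancel this
    rw [← QuotientGroup.out_eq' a, ← QuotientGroup.out_eq' b, QuotientGroup.eq,
      mem_centralizer_singleton_iff]
    calc a.out⁻¹ * b.out * x = a.out⁻¹ * (b.out * x * b.out⁻¹) * b.out := by group
      _ = a.out⁻¹ * (a.out * x * a.out⁻¹) * b.out := by rw [h1]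
      _ = x * (a.out⁻¹ * b.out) := by group
  have hle := Nat.card_le_card_of_injective _ hinj
  rw [← index_eq_card] at hle
  have h1 := card_mul_index (commutator P)
  have h2 := card_mul_index (centralizer ({x} : Set P))
  rw [hx] at h2
  by_contra hlt
  push Not at hlt
  have h3 : (centralizer ({x} : Set P)).index * p ^ 2 < Nat.card (commutator P) * (commutator P).index :=
    Nat.mul_lt_mul_of_le_of_lt hle hlt Nat.card_pos
  rw [mul_comm] at h2
  omega

/-- Outside an abelian maximal subgroup the centralisers have order the square of the prime. -/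
theorem card_centralizer_eq_sq (A : Subgroup P) [A.Normal] [hA : IsMulCommutative A]
    (hidx : A.index = p) (h : (commutator P).index = p ^ 2) {x : P} (hx : x ∉ A) :
    Nat.card (centralizer ({x} : Set P)) = p ^ 2 := by
  have hp : p.Prime := Fact.out
  have hker : Nat.card (conjDiff A x).ker = p := by
    have h1 := index_commutator_eq A x (top_of_index_prime_lt A p hidx hx)
    rw [h, hidx, pow_two] at h1
    exact (Nat.eq_of_mul_eq_mul_left hp.pos h1).symm
  have hbot : commutator A = ⊥ := by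
    rw [eq_bot_iff, _root_.commutator_def, commutator_le]
    intro a _ b _
    rw [mem_bot, commutatorElement_eq_one_iff_mul_comm]
    exact mul_comm' a b
  have hcard := card_conjDiff_ker A x
  rw [hker, hbot, card_bot, mul_one] at hcard
  have e : Nat.card (A.subgroupOf (centralizer ({x} : Set P))) = p := by
    rw [← hcard]
    refine Nat.card_congr
      { toFun := fun z => ⟨⟨_, z.2⟩, ?_⟩
        invFun := fun n => ⟨⟨(n.1 : P), ?_⟩, n.1.2⟩
        left_inv := fun z => rfl
        right_inv := fun n => rfl }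
    · have hz : x * ((z.1 : P)) * x⁻¹ * ((z.1 : P))⁻¹ = 1 := by
        rw [← mem_centralizer_singleton_iff.1 z.1.2, mul_inv_cancel_right, mul_inv_cancel]
      simp only [Subgroup.map_bot, mem_bot]
      exact hz
    · have h2 : x * (n.1 : P) * x⁻¹ * (n.1 : P)⁻¹ = 1 := by
        simpa only [Subgroup.map_bot, mem_bot] using n.2
      rw [mul_inv_eq_one, mul_inv_eq_iff_eq_mul] at h2
      rw [mem_centralizer_singleton_iff]
      exact h2.symm
  have h2 := card_mul_index (A.subgroupOf (centralizer ({x} : Set P)))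
  rw [e, ← Subgroup.relIndex] at h2
  have h3 : A.relIndex (centralizer ({x} : Set P)) = p := by
    rcases (Nat.dvd_prime hp).1 (hidx ▸ relIndex_dvd_index_of_normal A _) with h4 | h4
    · exact absurd (relIndex_eq_one.1 h4 (mem_centralizer_singleton_iff.2 rfl)) hx
    · exact h4
  rw [h3] at h2
  rw [← h2, pow_two]

/-- A nontrivial normal subgroup is not its own commutator with the group. -/
theorem commutator_top_lt (hP : IsPGroup p P) (R : Subgroup P) [R.Normal] (hR : R ≠ ⊥) :
    ⁅R, (⊤ : Subgroup P)⁆ < R := by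
  refine lt_of_le_of_ne (commutator_le_left R ⊤) fun he => hR ?_
  haveI := hP.isNilpotent
  obtain ⟨m, hm⟩ := Subgroup.nilpotent_iff_lowerCentralSeries.1 (inferInstance : Group.IsNilpotent P)
  have h : ∀ j, R ≤ (⊤ : Subgroup P).lowerCentralSeries j := by
    intro j
    induction j with
    | zero => simp
    | succ j ih => exact he.ge.trans (commutator_mono ih le_rfl)
  exact le_bot_iff.1 ((h m).trans hm.le)

theorem relIndex_ge_of_lt (hP : IsPGroup p P) {H K : Subgroup P} (h : H < K) : p ≤ H.relIndex K := by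
  have hp : p.Prime := Fact.out
  obtain ⟨j, hj⟩ := (hP.to_subgroup K).index (H.subgroupOf K)
  rw [← Subgroup.relIndex] at hj
  rcases Nat.eq_zero_or_pos j with rfl | hj0
  · exact absurd (relIndex_eq_one.1 (by rw [hj, pow_zero])) h.not_ge
  · exact hj ▸ Nat.le_self_pow hj0.ne' p

/-- A subgroup of prime index is not the product of two nontrivial normal subgroups meeting trivially. -/
theorem cube_le_index_commutator (hP : IsPGroup p P) (R U : Subgroup P) [R.Normal] [U.Normal]
    (hR : R ≠ ⊥) (hU : U ≠ ⊥) (hRU : Disjoint R U) (hidx : (R ⊔ U).index = p) :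
    p ^ 3 ≤ (commutator P).index := by
  have hp : p.Prime := Fact.out
  set R₁ := ⁅R, (⊤ : Subgroup P)⁆ with hR₁
  set U₁ := ⁅U, (⊤ : Subgroup P)⁆ with hU₁
  set W := R₁ ⊔ U₁ with hW
  have hR1 : R₁ < R := commutator_top_lt hP R hR
  have hU1 : U₁ < U := commutator_top_lt hP U hU
  have hdec : ∀ r ∈ R, ∀ u ∈ U, ∀ r' ∈ R, ∀ u' ∈ U, r * u = r' * u' → r = r' := by
    intro r hr u hu r' hr' u' hu' he
    have h1 : r'⁻¹ * r = u' * u⁻¹ := by
      calc r'⁻¹ * r = r'⁻¹ * (r * u) * u⁻¹ := by group
        _ = r'⁻¹ * (r' * u') * u⁻¹ := by rw [he]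
        _ = u' * u⁻¹ := by group
    have h2 : r'⁻¹ * r ∈ R ⊓ U := mem_inf.2 ⟨mul_mem (inv_mem hr') hr, h1 ▸ mul_mem hu' (inv_mem hu)⟩
    rw [hRU.eq_bot, mem_bot, inv_mul_eq_one] at h2
    exact h2.symm
  -- three strict steps
  have s1 : W < R₁ ⊔ U := by
    refine lt_of_le_of_ne (sup_le_sup_left hU1.le _) fun he => ?_
    obtain ⟨u, hu, hu'⟩ := SetLike.exists_of_lt hU1
    have : u ∈ W := he ▸ mem_sup_right hu
    obtain ⟨r, hr, v, hv, rfl⟩ := mem_sup_of_normal_left.1 this
    have h1 : r = 1 := hdec r (hR1.le hr) v (hU1.le hv) 1 R.one_mem _ hu (one_mul _).symm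
    exact hu' (by rwa [h1, one_mul])
  have s2 : R₁ ⊔ U < R ⊔ U := by
    refine lt_of_le_of_ne (sup_le_sup_right hR1.le _) fun he => ?_
    obtain ⟨r, hr, hr'⟩ := SetLike.exists_of_lt hR1
    have : r ∈ R₁ ⊔ U := he ▸ mem_sup_left hr
    obtain ⟨s, hs, v, hv, hsv⟩ := mem_sup_of_normal_left.1 this
    exact hr' (hdec s (hR1.le hs) v hv r hr 1 U.one_mem (hsv.trans (mul_one r).symm) ▸ hs)
  -- the derived subgroup lies in `W`
  have hcomm : commutator P ≤ W := by
    have hQ : (R ⊔ U).map (QuotientGroup.mk' W) ≤ center (P ⧸ W) := by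
      rw [Subgroup.map_le_iff_le_comap]
      intro a ha
      rw [mem_comap, mem_center_iff]
      intro q
      induction q using QuotientGroup.induction_on with | _ z => ?_
      rw [QuotientGroup.mk'_apply, ← QuotientGroup.mk_mul, ← QuotientGroup.mk_mul, QuotientGroup.eq_iff_div_mem,
        div_eq_mul_inv]
      have h1 : ⁅a, z⁆ ∈ W := by
        obtain ⟨r, hr, u, hu, rfl⟩ := mem_sup_of_normal_left.1 ha
        rw [show ⁅r * u, z⁆ = r * ⁅u, z⁆ * r⁻¹ * ⁅r, z⁆ by simp [commutatorElement_def, mul_assoc]]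
        exact mul_mem (Subgroup.Normal.conj_mem inferInstance _
          (mem_sup_right (commutator_mem_commutator hu (mem_top z))) r)
          (mem_sup_left (commutator_mem_commutator hr (mem_top z)))
      have h2 := inv_mem h1
      rw [commutatorElement_inv, commutatorElement_def] at h2
      rw [mul_inv_rev]
      simpa [mul_assoc] using h2
    rw [← Subgroup.Normal.quotient_commutative_iff_commutator_le]
    obtain ⟨y, hy⟩ : ∃ y : P, y ∉ R ⊔ U := by
      by_contra hc
      push Not at hc
      have ht : R ⊔ U = ⊤ := eq_top_iff.2 fun z _ => hc z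
      rw [ht, index_top] at hidx
      exact hp.one_lt.ne hidx
    have hgen : (R ⊔ U) ⊔ zpowers y = ⊤ :=
      top_of_index_prime_lt (R ⊔ U) p hidx hy _ le_sup_left (mem_sup_right (mem_zpowers y))
    refine ⟨⟨fun a b => ?_⟩⟩
    obtain ⟨a, rfl⟩ := QuotientGroup.mk'_surjective W a
    obtain ⟨b, rfl⟩ := QuotientGroup.mk'_surjective W b
    obtain ⟨m, hm, _, ⟨i, rfl⟩, rfl⟩ := mem_sup_of_normal_left.1 (hgen ▸ mem_top a : a ∈ (R ⊔ U) ⊔ zpowers y)
    obtain ⟨m', hm', _, ⟨j, rfl⟩, rfl⟩ := mem_sup_of_normal_left.1 (hgen ▸ mem_top b : b ∈ (R ⊔ U) ⊔ zpowers y)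
    have c1 : ∀ q, Commute (QuotientGroup.mk' W m) q := fun q =>
      (mem_center_iff.1 (hQ (mem_map_of_mem _ hm)) q).symm
    have c2 : ∀ q, Commute (QuotientGroup.mk' W m') q := fun q =>
      (mem_center_iff.1 (hQ (mem_map_of_mem _ hm')) q).symm
    simp only [map_mul, map_zpow]
    exact ((c1 _).mul_left ((c2 _).symm.mul_right ((Commute.refl _).zpow_zpow i j))).eq
  have h1 := relIndex_mul_index (hcomm.trans (s1.le.trans s2.le))
  have h2 := relIndex_mul_relIndex _ _ _ (hcomm.trans s1.le) s2.le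
  have h3 := relIndex_mul_relIndex _ _ _ hcomm s1.le
  rw [hidx] at h1
  have a1 := relIndex_ge_of_lt hP s1
  have a2 := relIndex_ge_of_lt hP s2
  have a0 : 1 ≤ (commutator P).relIndex W := Nat.one_le_iff_ne_zero.2 index_ne_zero_of_finite
  calc p ^ 3 = 1 * p * p * p := by ring
    _ ≤ (commutator P).relIndex W * W.relIndex (R₁ ⊔ U) * (R₁ ⊔ U).relIndex (R ⊔ U) * p := by gcongr
    _ = (commutator P).index := by rw [h3, h2, h1]

/-- The product of two commuting nontrivial normal factors. -/
theorem commutative_of_disjoint_sup (hP : IsPGroup p P) (h : (commutator P).index = p ^ 2)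
    (R U : Subgroup P) [R.Normal] [U.Normal] (hR : R ≠ ⊥) (hU : U ≠ ⊥) (hRU : Disjoint R U)
    (htop : R ⊔ U = ⊤) : IsMulCommutative P := by
  have hp : p.Prime := Fact.out
  set f : P →* Abelianization (P ⧸ U) × Abelianization (P ⧸ R) :=
    (Abelianization.of.comp (QuotientGroup.mk' U)).prod (Abelianization.of.comp (QuotientGroup.mk' R)) with hf
  have hsurj : Function.Surjective f := by
    rintro ⟨a, b⟩
    obtain ⟨a, rfl⟩ := (of_surjective _).comp (QuotientGroup.mk'_surjective U) a
    obtain ⟨b, rfl⟩ := (of_surjective _).comp (QuotientGroup.mk'_surjective R) b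
    obtain ⟨r, hr, u, hu, rfl⟩ := mem_sup_of_normal_left.1 (htop ▸ mem_top a : a ∈ R ⊔ U)
    obtain ⟨r', hr', u', hu', rfl⟩ := mem_sup_of_normal_left.1 (htop ▸ mem_top b : b ∈ R ⊔ U)
    refine ⟨r * u', Prod.ext ?_ ?_⟩
    · have e1 : QuotientGroup.mk' U u = 1 := (QuotientGroup.eq_one_iff u).2 hu
      have e2 : QuotientGroup.mk' U u' = 1 := (QuotientGroup.eq_one_iff u').2 hu'
      simp only [f, MonoidHom.prod_apply, MonoidHom.comp_apply, Function.comp_apply, map_mul, Prod.fst_mul, e1, e2, mul_one, map_one]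
    · have e1 : QuotientGroup.mk' R r = 1 := (QuotientGroup.eq_one_iff r).2 hr
      have e2 : QuotientGroup.mk' R r' = 1 := (QuotientGroup.eq_one_iff r').2 hr'
      simp only [f, MonoidHom.prod_apply, MonoidHom.comp_apply, Function.comp_apply, map_mul, Prod.snd_mul, e1, e2, one_mul, map_one]
  have hle := Nat.card_le_card_of_surjective (Abelianization.lift f) fun z => by
    obtain ⟨w, rfl⟩ := hsurj z
    exact ⟨Abelianization.of w, by simp⟩
  rw [Nat.card_prod, show Nat.card (Abelianization P) = p ^ 2 from h] at hle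
  have hge : ∀ (A : Subgroup P) [A.Normal], A ≠ ⊤ → p ≤ Nat.card (Abelianization (P ⧸ A)) ∧
      (Nat.card (Abelianization (P ⧸ A)) = p → Nat.card (P ⧸ A) = p) := by
    intro A _ hA
    haveI : Nontrivial (P ⧸ A) := QuotientGroup.nontrivial_iff.2 hA
    haveI := (hP.to_quotient A).isNilpotent
    refine ⟨?_, fun he => card_eq_of_index_commutator_eq_prime (hP.to_quotient A) he⟩
    obtain ⟨j, hj⟩ := (hP.to_quotient A).index (commutator (P ⧸ A))
    rcases Nat.eq_zero_or_pos j with rfl | hj0
    · exact absurd (index_eq_one.1 (by rw [hj, pow_zero])) (Group.IsSolvable.commutator_lt_top_of_nontrivial _).ne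
    · exact (show Nat.card (Abelianization (P ⧸ A)) = p ^ j from hj) ▸ Nat.le_self_pow hj0.ne' p
  have hUt : U ≠ ⊤ := fun he => hR (by simpa [he] using hRU.eq_bot)
  have hRt : R ≠ ⊤ := fun he => hU (by simpa [he] using hRU.eq_bot)
  obtain ⟨a1, b1⟩ := hge U hUt
  obtain ⟨a2, b2⟩ := hge R hRt
  rw [pow_two] at hle
  have e1 := b1 (le_antisymm (Nat.le_of_mul_le_mul_right ((Nat.mul_le_mul_left _ a2).trans hle) hp.pos) a1)
  have e2 := b2 (le_antisymm (Nat.le_of_mul_le_mul_left ((Nat.mul_le_mul_right _ a1).trans hle) hp.pos) a2)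
  haveI := isCyclic_of_prime_card e1
  haveI := isCyclic_of_prime_card e2
  refine ⟨⟨fun a b => ?_⟩⟩
  have h1 : ∀ (A : Subgroup P) [A.Normal] [IsMulCommutative (P ⧸ A)], a * b * (b * a)⁻¹ ∈ A := by
    intro A _ _
    rw [← QuotientGroup.eq_one_iff, QuotientGroup.mk_mul, QuotientGroup.mk_inv, QuotientGroup.mk_mul,
      QuotientGroup.mk_mul, mul_comm' (↑a : P ⧸ A) (↑b : P ⧸ A), mul_inv_cancel]
  haveI : IsMulCommutative (P ⧸ U) := IsCyclic.isMulCommutative
  haveI : IsMulCommutative (P ⧸ R) := IsCyclic.isMulCommutative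
  have h2 : a * b * (b * a)⁻¹ ∈ R ⊓ U := ⟨h1 R, h1 U⟩
  rw [hRU.eq_bot, mem_bot, mul_inv_eq_one] at h2
  exact h2

end CfsgLib.Blk4.PGroup
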