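import Cfsg.Agent.Lib.Blk4.SmallFrame
import Cfsg.Agent.Lib.Blk4.CentralizedPQuot
import Cfsg.Agent.Lib.Characters.LinearTwist
import Mathlib.GroupTheory.Transfer
import Mathlib.GroupTheory.FiniteAbelian.Duality

/-!
# The principal block of a group with a central `p`-element and Sylow order at most `p ^ 2`

The transfer gives a linear character of `p`-power order extending any character of the central
element, so the `p`-regular restrictions come from the quotient by the central element.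
-/

set_option autoImplicit false
set_option linter.unusedSectionVars false
set_option linter.style.haveILetI false

noncomputable section

namespace CfsgLib.Blk4.SmallFrame

open Cfsg CfsgLib.Characters CfsgLib.Blocks
open scoped ComplexConjugate IsMulCommutative

universe u

variable {p : ℕ} [hp : Fact p.Prime] {M : Ideal AlgInt} {C : Type u} [Group C] [Fintype C]

/-- Linear characters of `p`-power order through a prescribed value at a central `p`-element. -/
theorem exists_hom {x : C} (hxc : x ∈ Subgroup.center C) {a : ℕ} (hx : orderOf x = p ^ a)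
    (h2 : (Nat.card C).factorization p ≤ 2) {ω : ℂ} (hω : ω ^ p ^ a = 1) :
    ∃ t : C →* ℂˣ, (t x : ℂ) = ω ∧ ∀ y : C, ¬ p ∣ orderOf y → t y = 1 := by
  classical
  obtain ⟨Q, hQ⟩ : ∃ Q : Sylow p C, Subgroup.zpowers x ≤ Q :=
    (IsPGroup.of_card (n := a) (by rw [Nat.card_zpowers, hx]) :
      IsPGroup p (Subgroup.zpowers x)).exists_le_sylow
  haveI hcomm : IsMulCommutative (Q : Subgroup C) := by
    set v := (Nat.card C).factorization p with hv
    have hcard : Nat.card (Q : Subgroup C) = p ^ v := Q.card_eq_multiplicity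
    rcases Nat.lt_or_ge v 2 with h | h
    · haveI : IsCyclic (Q : Subgroup C) := by
        interval_cases v
        · haveI : Subsingleton (Q : Subgroup C) :=
            (Nat.card_eq_one_iff_unique.1 (by simpa using hcard)).1
          infer_instance
        · exact isCyclic_of_prime_card (p := p) (by simpa using hcard)
      infer_instance
    · exact IsPGroup.isMulCommutative_of_card_eq_prime_sq (hcard.trans (by rw [le_antisymm h2 h]))
  set n := (Q : Subgroup C).index with hn
  have hcop : Nat.Coprime n (p ^ a) :=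
    (Nat.Coprime.pow_left a ((hp.out.coprime_iff_not_dvd).2 Q.not_dvd_index)).symm
  have hnm : ∃ m : ℕ, n * m ≡ 1 [MOD p ^ a] := by
    haveI : NeZero (p ^ a) := ⟨pow_ne_zero _ hp.out.ne_zero⟩
    refine ⟨((n : ZMod (p ^ a))⁻¹).val, (ZMod.natCast_eq_natCast_iff _ _ _).1 ?_⟩
    rw [Nat.cast_mul, ZMod.natCast_val, ZMod.cast_id, Nat.cast_one]
    exact ZMod.coe_mul_inv_eq_one n hcop
  obtain ⟨m, hm⟩ := hnm
  let xQ : (Q : Subgroup C) := ⟨x, hQ (Subgroup.mem_zpowers x)⟩
  have hxQ : orderOf xQ = p ^ a := by rw [← hx, ← Subgroup.orderOf_coe xQ]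
  have hωu : IsUnit ω := IsUnit.of_pow_eq_one hω (pow_ne_zero _ hp.out.ne_zero)
  have hωm : (hωu.unit ^ m) ^ p ^ a = 1 := by
    rw [← pow_mul, mul_comm, pow_mul]
    exact (congrArg (· ^ m) (Units.ext (by simpa using hω) : hωu.unit ^ p ^ a = 1)).trans (one_pow m)
  let ψ₀ : Subgroup.zpowers xQ →* ℂˣ :=
    monoidHomOfForallMemZpowers (g := (⟨xQ, Subgroup.mem_zpowers xQ⟩ : Subgroup.zpowers xQ))
      (fun z => by
        obtain ⟨j, hj⟩ := Subgroup.mem_zpowers_iff.1 z.2
        exact ⟨j, Subtype.ext (by simpa using hj)⟩)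
      (g' := hωu.unit ^ m)
      (by rw [Subgroup.orderOf_mk, hxQ]; exact orderOf_dvd_of_pow_eq_one hωm)
  obtain ⟨ψ, hψ⟩ := MonoidHom.domRestrict_surjective ℂ (Subgroup.zpowers xQ) ψ₀
  let T : C →* (Q : Subgroup C) := MonoidHom.transfer (MonoidHom.id (Q : Subgroup C))
  have hTx : T x = xQ ^ n := by
    refine (MonoidHom.transfer_eq_pow _ x fun k g _ => ?_).trans (Subtype.ext (by simp [xQ, hn]))
    rw [mul_assoc, ← Subgroup.mem_center_iff.1 (pow_mem hxc k) g, inv_mul_cancel_left]
  refine ⟨ψ.comp T, ?_, fun y hy => ?_⟩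
  · have h1 : ψ xQ = hωu.unit ^ m := by
      refine Eq.trans ?_ ((DFunLike.congr_fun hψ ⟨xQ, Subgroup.mem_zpowers xQ⟩).trans
        (monoidHomOfForallMemZpowers_apply_gen _ _))
      rfl
    rw [MonoidHom.comp_apply, hTx, map_pow, h1, ← pow_mul, mul_comm, Units.val_pow_eq_pow_val,
      IsUnit.unit_spec, pow_eq_pow_mod (n * m) hω, hm]
    rcases Nat.eq_zero_or_pos a with h | h
    · subst h
      simp only [pow_zero, pow_one] at hω
      simp [hω]
    · rw [Nat.one_mod_eq_one.2 (Nat.one_lt_pow h.ne' hp.out.one_lt).ne', pow_one]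
  · have h1 : T y = 1 := by
      have hd : orderOf (T y) ∣ orderOf y := orderOf_map_dvd T y
      obtain ⟨j, hj⟩ := IsPGroup.iff_orderOf.1 Q.isPGroup' (T y)
      refine eq_one_of_pow_order_dvd hp.out (k := j) hj.dvd fun h => hy (h.trans hd)
    rw [MonoidHom.comp_apply, h1, map_one]

open scoped Classical in
/-- Coordinates on the principal block, and the form of the regular norm. -/
theorem exists_coordinates (hM : IsPModular p M) {x : C} (hxc : x ∈ Subgroup.center C) {a : ℕ}
    (ha : 1 ≤ a) (hx : orderOf x = p ^ a) (h2 : (Nat.card C).factorization p ≤ 2) :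
    ∃ (ι : Type u) (_ : Fintype ι) (f : ι → C → ℂ) (A : IrrCharacter C → ι → ℤ) (α : ℕ) (k : ℤ),
      Fintype.card ι ≤ α ∧ 0 ≤ k ∧ k * (Fintype.card ι : ℤ) + 1 ≤ α ∧
      blockRank p (principalBlock M C) ≤ Fintype.card ι ∧
      (∀ θ ∈ principalBlock M C, ∀ y : C, ¬ p ∣ orderOf y →
        (θ : C → ℂ) y = ∑ i, (A θ i : ℂ) * f i y) ∧
      ∀ c : ι → ℂ, (p : ℂ) ^ 2 * (Nat.card C : ℂ)⁻¹ *
        ∑ y ∈ Finset.univ.filter (fun y : C => ¬ p ∣ orderOf y),
          (∑ i, c i * f i y) * conj (∑ i, c i * f i y) =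
        (α : ℂ) * ∑ i, c i * conj (c i) - (k : ℂ) * ((∑ i, c i) * conj (∑ i, c i)) := by
  set N : Subgroup C := Subgroup.zpowers x with hNdef
  have hNcard : Nat.card N = p ^ a := by rw [hNdef, Nat.card_zpowers, hx]
  have hNc : N ≤ Subgroup.center C := Subgroup.zpowers_le.2 hxc
  haveI : N.Normal := ⟨fun n hn g => by
    rwa [Subgroup.mem_center_iff.1 (hNc hn) g, mul_inv_cancel_right]⟩
  have hN : IsPGroup p N := IsPGroup.of_card hNcard
  have hsup : N ⊔ Subgroup.centralizer (N : Set C) = ⊤ := by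
    refine eq_top_iff.2 fun g _ => Subgroup.mem_sup_right ?_
    rw [Subgroup.mem_centralizer_iff]
    exact fun n hn => (Subgroup.mem_center_iff.1 (hNc hn) g).symm
  haveI := Fintype.ofFinite (C ⧸ N)
  have hcard : Nat.card C = Nat.card (C ⧸ N) * p ^ a := by
    rw [← hNcard]
    exact Subgroup.card_eq_card_quotient_mul_card_subgroup N
  have hfac : (Nat.card C).factorization p = (Nat.card (C ⧸ N)).factorization p + a := by
    rw [hcard, Nat.factorization_mul Nat.card_pos.ne' (pow_ne_zero _ hp.out.ne_zero)]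
    simp [hp.out.factorization_pow]
  have hF : Nonempty (Frame p M (C ⧸ N) (p ^ (2 - a))) := by
    rcases Nat.eq_zero_or_pos ((Nat.card (C ⧸ N)).factorization p) with h | h
    · refine exists_frame_of_not_dvd hM (fun hd => ?_) (Nat.one_le_pow _ _ hp.out.pos)
      have := (hp.out.factorization_pos_of_dvd Nat.card_pos.ne' hd)
      omega
    · have ha1 : a = 1 := by omega
      have h1 : (Nat.card (C ⧸ N)).factorization p = 1 := by omega
      rw [ha1, pow_one]
      exact exists_frame_of_prime hM h1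
  obtain ⟨F⟩ := hF
  -- the deflated twist
  have htw : ∀ θ : IrrCharacter C, θ ∈ principalBlock M C → ∃ π ∈ principalBlock M (C ⧸ N),
      ∀ y : C, ¬ p ∣ orderOf y → (θ : C → ℂ) y = (π : C ⧸ N → ℂ) (y : C ⧸ N) := by
    intro θ hθ
    obtain ⟨d, ρ, hρ, hθeq⟩ := θ.2
    haveI := hρ
    obtain ⟨c, hc⟩ := CfsgLib.CharScalar.center_scalar ρ hxc
    have hpow : ∀ j : ℕ, (θ : C → ℂ) (x ^ j) = c ^ j * (θ : C → ℂ) 1 := by
      intro j
      rw [← hθeq]
      simp [Representation.character, map_pow, hc, smul_pow]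
    have hc1 : c ^ p ^ a = 1 := by
      have h := hpow (p ^ a)
      rw [← hx, pow_orderOf_eq_one, hx] at h
      exact (mul_eq_right₀ (irr_one_ne_zero θ)).1 h.symm
    have hc0 : c ≠ 0 := fun h => by
      rw [h, zero_pow (pow_ne_zero _ hp.out.ne_zero)] at hc1
      exact zero_ne_one hc1
    obtain ⟨t, htx, htr⟩ := exists_hom hxc hx h2 hc1
    let tw : IrrCharacter C :=
      ⟨fun g => (θ : C → ℂ) g * ((t⁻¹ g : ℂˣ) : ℂ), LinearTwist.isIrr_mul_hom θ.2 t⁻¹⟩
    have htw1 : (tw : C → ℂ) 1 = (θ : C → ℂ) 1 := by simp [tw]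
    have htwy : ∀ y : C, ¬ p ∣ orderOf y → (tw : C → ℂ) y = (θ : C → ℂ) y := fun y hy => by
      simp [tw, htr y hy]
    have hker : N ≤ Chars17.irrKer tw := by
      rw [hNdef, Subgroup.zpowers_le, Chars17.mem_irrKer, htw1]
      show (θ : C → ℂ) x * ((t⁻¹ x : ℂˣ) : ℂ) = _
      have h := hpow 1
      simp only [pow_one] at h
      rw [MonoidHom.inv_apply, Units.val_inv_eq_inv_val, htx, h, mul_assoc, mul_comm _ c⁻¹,
        ← mul_assoc, mul_inv_cancel₀ hc0, one_mul]
    obtain ⟨π, hπ⟩ := Chars17.exists_infl_eq N hker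
    have hval : ∀ y : C, ¬ p ∣ orderOf y → (θ : C → ℂ) y = (π : C ⧸ N → ℂ) (y : C ⧸ N) :=
      fun y hy => by rw [← htwy y hy, ← hπ, Chars17.infl_apply]
    refine ⟨π, (CentralizedPQuot.infl_mem_iff N hN hsup hM π).1 ?_, hval⟩
    rw [hπ]
    refine CentralizedPQuot.mem_principal_of_regular hM tw fun g hg => ?_
    have h := hθ g
    simp only [centralChar] at h ⊢
    rwa [htwy g hg, htw1]
  choose π hπmem hπval using htw
  refine ⟨F.ι, F.fin, fun i y => F.f i (y : C ⧸ N),
    fun θ i => if h : θ ∈ principalBlock M C then F.a (π θ h) i else 0, p ^ (2 - a), F.k,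
    F.card_le, F.k_nonneg, F.k_le, ?_, fun θ hθ y hy => ?_, fun c => ?_⟩
  · rw [CentralizedPQuot.blockRank_eq N hN hsup hM]
    exact blockRank_le F
  · rw [hπval θ hθ y hy, F.expand _ (hπmem θ hθ) _ (CentralizedPQuot.regular_mk N hy)]
    simp only [dif_pos hθ]
  · refine Eq.trans ?_ (F.form c)
    have hsum : ∑ y ∈ Finset.univ.filter (fun y : C => ¬ p ∣ orderOf y),
          (∑ i, c i * F.f i (y : C ⧸ N)) * conj (∑ i, c i * F.f i (y : C ⧸ N)) =
        ∑ q ∈ Finset.univ.filter (fun q : C ⧸ N => ¬ p ∣ orderOf q),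
          (∑ i, c i * F.f i q) * conj (∑ i, c i * F.f i q) := by
      refine Finset.sum_bij (fun y _ => (y : C ⧸ N)) (fun y hy => ?_) (fun y hy y' hy' h => ?_)
        (fun q hq => ?_) (fun y _ => rfl)
      · exact Finset.mem_filter.2 ⟨Finset.mem_univ _,
          CentralizedPQuot.regular_mk N (Finset.mem_filter.1 hy).2⟩
      · exact CentralizedPQuot.regular_unique N hN hsup (Finset.mem_filter.1 hy).2
          (Finset.mem_filter.1 hy').2 h
      · obtain ⟨y, hy, rfl⟩ := CentralizedPQuot.exists_regular_lift N (Finset.mem_filter.1 hq).2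
        exact ⟨y, Finset.mem_filter.2 ⟨Finset.mem_univ _, hy⟩, rfl⟩
    rw [hsum, hcard]
    congr 1
    have hpa : (p : ℂ) ^ 2 = ((p ^ (2 - a) : ℕ) : ℂ) * (p : ℂ) ^ a := by
      push_cast
      rw [← pow_add, Nat.sub_add_cancel (by omega : a ≤ 2)]
    have : (p : ℂ) ^ a ≠ 0 := pow_ne_zero _ (Nat.cast_ne_zero.2 hp.out.ne_zero)
    rw [hpa]
    push_cast
    field_simp

end CfsgLib.Blk4.SmallFrame
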