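import Cfsg.Agent.Lib.Blk4.SectionContrib
import Cfsg.Agent.Lib.Blk4.RootAverage
import Cfsg.Agent.Lib.Blk4.SmallSection

/-!
# Characters of `p'`-degree in the principal block, for a small `p`-element centraliser
-/

set_option autoImplicit false
set_option linter.unusedSectionVars false
set_option linter.style.haveILetI false

noncomputable section

namespace CfsgLib.Blk4.SmallCount

open Cfsg CfsgLib.Characters CfsgLib.Blocks CfsgLib.Contribution CfsgLib.Blk4.Major
open scoped ComplexConjugate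

universe u

variable {G : Type u} [Group G] [Fintype G] {p : ℕ} [hp : Fact p.Prime] {M : Ideal AlgInt}

/-- A quadratic form of the shape `α |v| ^ 2 - k |Σ v| ^ 2` on a support of size `s`. -/
theorem support_bound {α k e s : ℕ} (hαe : e ≤ α) (hk : k * e + 1 ≤ α) (hs : 1 ≤ s) (hse : s ≤ e) :
    k * s ≤ α ∧ e ≤ (α - k * s) * s := by
  have hks : k * s ≤ k * e := Nat.mul_le_mul_left k hse
  refine ⟨by omega, ?_⟩
  obtain ⟨r, rfl⟩ := Nat.exists_eq_add_of_le hse
  have h1 : k * r + 1 ≤ α - k * s := by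
    rw [Nat.mul_add] at hk
    omega
  rcases Nat.eq_zero_or_pos k with h | h
  · subst h
    rw [zero_mul, Nat.sub_zero]
    nlinarith
  · refine le_trans ?_ (Nat.mul_le_mul_right s h1)
    have : r ≤ k * r * s := by
      calc r = 1 * r * 1 := by ring
        _ ≤ k * r * s := Nat.mul_le_mul (Nat.mul_le_mul h le_rfl) hs
    nlinarith

open scoped Classical in
/-- The bound, for a non-trivial `p`-element with small centraliser. -/
theorem card_le_sq (hM : IsPModular p M) {x : G} {a : ℕ} (ha : 1 ≤ a) (hx : orderOf x = p ^ a)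
    (h2 : (Nat.card (Subgroup.centralizer ({x} : Set G))).factorization p ≤ 2) :
    Nat.card {χ : IrrCharacter G // χ ∈ principalBlock M G ∧
      ¬ p ∣ charDegree (χ : G → ℂ)} ≤ p ^ 2 := by
  haveI := Fintype.ofFinite (Subgroup.centralizer ({x} : Set G))
  haveI := Fintype.ofFinite (ConjClasses (Subgroup.centralizer ({x} : Set G)))
  have hz : ∃ k : ℕ, orderOf x = p ^ k := ⟨a, hx⟩
  set b := principalBlock M (Subgroup.centralizer ({x} : Set G)) with hb
  set B := principalBlock M G with hB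
  have hind : IsInducedBlock M (Subgroup.centralizer ({x} : Set G)) b B :=
    (isInducedBlock_principal_iff hM _
      (inducedBlockDefined_centralizer hM hz (isPBlock_principalBlock M))).2 rfl
  have hxz : orderOf (zel x) = p ^ a := by rw [← hx, ← Subgroup.orderOf_coe (zel x)]; rfl
  obtain ⟨ι, hι, f, A, α, k, hια, hk0, hkle, hrank, hexp, hform⟩ :=
    SmallFrame.exists_coordinates hM (zel_mem_center x) ha hxz h2
  obtain ⟨k, rfl⟩ := Int.eq_ofNat_of_zero_le hk0
  have hkle' : k * Fintype.card ι + 1 ≤ α := by exact_mod_cast hkle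
  obtain ⟨e, rfl⟩ : ∃ e, a = e + 1 := ⟨a - 1, by omega⟩
  have hroot : ∀ θ : IrrCharacter (Subgroup.centralizer ({x} : Set G)),
      lam x θ ^ p ^ (e + 1) = 1 := lam_pow x (hx ▸ pow_orderOf_eq_one x)
  -- integral coordinates of the section
  set T : Finset (IrrCharacter (Subgroup.centralizer ({x} : Set G))) :=
    Finset.univ.filter (· ∈ b) with hT
  set W : IrrCharacter G → ι → IrrCharacter (Subgroup.centralizer ({x} : Set G)) → ℤ :=
    fun χ i θ => (nm x χ θ : ℤ) * A θ i with hW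
  set c : IrrCharacter G → ι → ℂ := fun χ i => ∑ θ ∈ T, (W χ i θ : ℂ) * lam x θ with hc
  set cj : IrrCharacter G → ι → ℕ → ℂ :=
    fun χ i j => ∑ θ ∈ T, (W χ i θ : ℂ) * lam x θ ^ j with hcj
  have hxb : ∀ χ : IrrCharacter G, ∀ y : Subgroup.centralizer ({x} : Set G), ¬ p ∣ orderOf y →
      xb x b χ y = ∑ i, c χ i * f i y := by
    intro χ y hy
    simp only [xb, hc, hW, Finset.sum_mul]
    rw [Finset.sum_comm]
    refine Finset.sum_congr rfl fun θ hθ => ?_
    rw [hexp θ (Finset.mem_filter.1 hθ).2 y hy, Finset.mul_sum]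
    refine Finset.sum_congr rfl fun i _ => ?_
    rw [w]
    push_cast
    ring
  set q : IrrCharacter G → ℂ := fun χ => (α : ℂ) * ∑ i, c χ i * conj (c χ i) -
    ((k : ℤ) : ℂ) * ((∑ i, c χ i) * conj (∑ i, c χ i)) with hq
  have hcz : ∀ χ : IrrCharacter G, cz x b p 2 χ χ = q χ := by
    intro χ
    rw [cz, hq]
    refine Eq.trans ?_ (hform (c χ))
    congr 1
    exact Finset.sum_congr rfl fun y hy => by rw [hxb χ y (Finset.mem_filter.1 hy).2]
  have htr : ∑ χ ∈ Finset.univ.filter (· ∈ B), q χ = ((p ^ 2 * blockRank p b : ℕ) : ℂ) := by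
    rw [← Finset.sum_congr rfl fun χ _ => hcz χ, cz_trace x b hM hx hind 2]
    push_cast
    rfl
  -- averaging over the conjugates
  set J := RootAvg.J p e with hJ
  have hTc : ∀ χ : IrrCharacter G, ∀ i, (RootAvg.tau p e (c χ i * conj (c χ i))).re =
      ∑ j ∈ J, ‖cj χ i j‖ ^ 2 := by
    intro χ i
    rw [hc, RootAvg.tau_norm hp.out e T (W χ i) (lam x) fun θ _ => hroot θ, Complex.re_sum]
    exact Finset.sum_congr rfl fun j _ => by rw [Complex.mul_conj', ← Complex.ofReal_pow,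
      Complex.ofReal_re]
  have hTs : ∀ χ : IrrCharacter G,
      (RootAvg.tau p e ((∑ i, c χ i) * conj (∑ i, c χ i))).re =
        ∑ j ∈ J, ‖∑ i, cj χ i j‖ ^ 2 := by
    intro χ
    have h1 : ∑ i, c χ i = ∑ θ ∈ T, ((∑ i, W χ i θ : ℤ) : ℂ) * lam x θ := by
      simp only [hc]
      rw [Finset.sum_comm]
      exact Finset.sum_congr rfl fun θ _ => by push_cast; rw [Finset.sum_mul]
    rw [h1, RootAvg.tau_norm hp.out e T _ (lam x) fun θ _ => hroot θ, Complex.re_sum]
    refine Finset.sum_congr rfl fun j _ => ?_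
    rw [Complex.mul_conj', ← Complex.ofReal_pow, Complex.ofReal_re]
    congr 2
    simp only [hcj]
    rw [Finset.sum_comm]
    exact Finset.sum_congr rfl fun θ _ => by push_cast; rw [Finset.sum_mul]
  have hTq : ∀ χ : IrrCharacter G, (RootAvg.tau p e (q χ)).re =
      ∑ j ∈ J, ((α : ℝ) * ∑ i, ‖cj χ i j‖ ^ 2 - (k : ℝ) * ‖∑ i, cj χ i j‖ ^ 2) := by
    intro χ
    have e1 : RootAvg.tau p e (q χ) = ((α : ℤ) : ℂ) * ∑ i, RootAvg.tau p e (c χ i * conj (c χ i)) -
        ((k : ℤ) : ℂ) * RootAvg.tau p e ((∑ i, c χ i) * conj (∑ i, c χ i)) := by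
      simp only [hq]
      rw [map_sub, show (α : ℂ) = ((α : ℤ) : ℂ) by push_cast; rfl, RootAvg.tau_intCast_mul,
        RootAvg.tau_intCast_mul, map_sum]
    rw [e1, Complex.sub_re, Int.cast_natCast, Int.cast_natCast, ← Complex.ofReal_natCast,
      ← Complex.ofReal_natCast, Complex.re_ofReal_mul, Complex.re_ofReal_mul, Complex.re_sum,
      Finset.sum_congr rfl fun i _ => hTc χ i, hTs, Finset.sum_comm, Finset.sum_sub_distrib,
      ← Finset.mul_sum, ← Finset.mul_sum]
  -- lower bound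
  have hlow : ∀ χ : IrrCharacter G, 0 ≤ (RootAvg.tau p e (q χ)).re ∧
      ((∃ i, c χ i ≠ 0) →
        ((Fintype.card ι * (p ^ e * (p - 1)) : ℕ) : ℝ) ≤ (RootAvg.tau p e (q χ)).re) := by
    intro χ
    set s : Finset ι := Finset.univ.filter (fun i => c χ i ≠ 0) with hs
    have hz0 : ∀ i ∉ s, ∀ j ∈ J, cj χ i j = 0 := by
      intro i hi j hj
      have hci : c χ i = 0 := by simpa [hs] using hi
      have h := hTc χ i
      rw [hci, zero_mul, map_zero, Complex.zero_re] at h
      have := (Finset.sum_eq_zero_iff_of_nonneg fun j _ => sq_nonneg ‖cj χ i j‖).1 h.symm j hj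
      simpa using this
    have hse : s.card ≤ Fintype.card ι := Finset.card_le_univ s
    have hmain : ((α : ℝ) - k * s.card) * ∑ i ∈ s, ∑ j ∈ J, ‖cj χ i j‖ ^ 2 ≤
        (RootAvg.tau p e (q χ)).re := by
      rw [hTq, Finset.sum_comm, Finset.mul_sum]
      refine Finset.sum_le_sum fun j hj => ?_
      have h1 : ∀ F : ι → ℂ, (∀ i ∉ s, F i = 0) → ∑ i, F i = ∑ i ∈ s, F i := fun F hF =>
        (Finset.sum_subset (Finset.subset_univ s) fun i _ hi => hF i hi).symm
      have h3 : ∑ i, ‖cj χ i j‖ ^ 2 = ∑ i ∈ s, ‖cj χ i j‖ ^ 2 :=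
        (Finset.sum_subset (Finset.subset_univ s) fun i _ hi => by simp [hz0 i hi j hj]).symm
      rw [h1 (fun i => cj χ i j) fun i hi => hz0 i hi j hj, h3]
      have h4 : ‖∑ i ∈ s, cj χ i j‖ ^ 2 ≤ (s.card : ℝ) * ∑ i ∈ s, ‖cj χ i j‖ ^ 2 :=
        (pow_le_pow_left₀ (norm_nonneg _) (norm_sum_le s _) 2).trans sq_sum_le_card_mul_sum_sq
      have := mul_le_mul_of_nonneg_left h4 (Nat.cast_nonneg (α := ℝ) k)
      nlinarith
    have hks : k * s.card ≤ α := by
      have := Nat.mul_le_mul_left k hse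
      omega
    have hsub : ((α : ℝ) - k * s.card) = ((α - k * s.card : ℕ) : ℝ) := by
      rw [Nat.cast_sub hks]; push_cast; rfl
    rw [hsub] at hmain
    refine ⟨le_trans (mul_nonneg (Nat.cast_nonneg _) (Finset.sum_nonneg fun i _ =>
      Finset.sum_nonneg fun j _ => sq_nonneg _)) hmain, fun ⟨i₀, hi₀⟩ => ?_⟩
    have hs1 : 1 ≤ s.card := Finset.card_pos.2 ⟨i₀, by simp [hs, hi₀]⟩
    obtain ⟨-, hb2⟩ := support_bound hια hkle' hs1 hse
    refine le_trans ?_ hmain
    have h5 : (s.card : ℝ) * ((p ^ e * (p - 1) : ℕ) : ℝ) ≤ ∑ i ∈ s, ∑ j ∈ J, ‖cj χ i j‖ ^ 2 := by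
      rw [← nsmul_eq_mul, ← Finset.sum_const]
      refine Finset.sum_le_sum fun i hi => ?_
      rw [← hTc]
      exact ((RootAvg.tau_norm_ge hp.out e T (W χ i) (lam x) fun θ _ => hroot θ).2
        (Finset.mem_filter.1 hi).2).1
    refine le_trans ?_ (mul_le_mul_of_nonneg_left h5 (Nat.cast_nonneg _))
    have h7 := Nat.mul_le_mul_right (p ^ e * (p - 1)) hb2
    rw [← Nat.cast_mul, ← Nat.cast_mul, ← mul_assoc (α - k * s.card)]
    exact Nat.cast_le.2 h7
  -- the characters of `p'`-degree have non-zero coordinates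
  have hnz : ∀ χ : IrrCharacter G, χ ∈ B → ¬ p ∣ charDegree (χ : G → ℂ) → ∃ i, c χ i ≠ 0 := by
    intro χ hχ hd
    by_contra hcon
    push Not at hcon
    have h1 : ¬ p ∣ orderOf (1 : Subgroup.centralizer ({x} : Set G)) := by
      rw [orderOf_one]; exact hp.out.not_dvd_one
    have hx0 : (χ : G → ℂ) x = 0 := by
      have h := blockPart_principal_section hM hz h1 χ
      rw [blockPart_sectionFun, hxb χ 1 h1, if_pos hχ, Subgroup.coe_one, mul_one] at h
      rw [← h]
      exact Finset.sum_eq_zero fun i _ => by rw [hcon i, zero_mul]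
    have hc := CfsgLib.PrincipalSq.char_congr_of_pow_eq hM (irr_isCharacter χ) (g := x) (y := 1)
      (k := e + 1) (by rw [← hx, pow_orderOf_eq_one, one_pow])
    rw [hx0, zero_sub, LinearTwist.apply_one_eq_charDegree (irr_isCharacter χ)] at hc
    exact hd ((memLocalIdeal_natCast_iff hM _).1 (by simpa using MemLocalIdeal.neg hM hc))
  -- conclusion
  have htot := congrArg (fun z => (RootAvg.tau p e z).re) htr
  simp only [map_sum, Complex.re_sum, RootAvg.tau_natCast hp.out, Complex.natCast_re] at htot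
  set S := Finset.univ.filter (fun χ : IrrCharacter G => χ ∈ B ∧ ¬ p ∣ charDegree (χ : G → ℂ)) with hS
  have hcardS : Nat.card {χ : IrrCharacter G // χ ∈ B ∧ ¬ p ∣ charDegree (χ : G → ℂ)} = S.card := by
    rw [Nat.card_eq_fintype_card, Fintype.card_subtype]
  rw [hcardS]
  rcases Nat.eq_zero_or_pos S.card with h0 | h0
  · omega
  obtain ⟨χ₀, hχ₀⟩ := Finset.card_pos.1 h0
  obtain ⟨i₀, -⟩ := hnz χ₀ (Finset.mem_filter.1 hχ₀).2.1 (Finset.mem_filter.1 hχ₀).2.2
  have hι0 : 0 < Fintype.card ι := Fintype.card_pos_iff.2 ⟨i₀⟩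
  have hJ0 : 0 < p ^ e * (p - 1) :=
    Nat.mul_pos (pow_pos hp.out.pos _) (Nat.sub_pos_of_lt hp.out.one_lt)
  have hsum : ((S.card * (Fintype.card ι * (p ^ e * (p - 1))) : ℕ) : ℝ) ≤
      ((p ^ 2 * blockRank p b * (p ^ e * (p - 1)) : ℕ) : ℝ) := by
    rw [← htot]
    refine le_trans ?_ (Finset.sum_le_sum_of_subset_of_nonneg (s := S)
      (fun χ hχ => Finset.mem_filter.2 ⟨Finset.mem_univ _, (Finset.mem_filter.1 hχ).2.1⟩)
      fun χ _ _ => (hlow χ).1)
    rw [Nat.cast_mul, ← nsmul_eq_mul, ← Finset.sum_const]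
    exact Finset.sum_le_sum fun χ hχ =>
      (hlow χ).2 (hnz χ (Finset.mem_filter.1 hχ).2.1 (Finset.mem_filter.1 hχ).2.2)
  have hsumN : S.card * (Fintype.card ι * (p ^ e * (p - 1))) ≤
      p ^ 2 * blockRank p b * (p ^ e * (p - 1)) := by exact_mod_cast hsum
  rw [← mul_assoc] at hsumN
  have h6 := (Nat.le_of_mul_le_mul_right hsumN hJ0).trans (Nat.mul_le_mul_left (p ^ 2) hrank)
  exact Nat.le_of_mul_le_mul_right h6 hι0

end CfsgLib.Blk4.SmallCount
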