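import Cfsg.Agent.Lib.PrimeDefect.Family
import Cfsg.Agent.Lib.Blocks.ThirdMain
import Cfsg.Agent.Lib.Blocks12.Bounds

/-!
# A frame of the principal block when the Sylow subgroups have order one or `p`

Integral coordinates for the `p`-regular restrictions of the principal block, together with the
quadratic form of the regular norm in these coordinates.
-/

set_option autoImplicit false
set_option linter.unusedSectionVars false
set_option linter.style.haveILetI false

noncomputable section

namespace CfsgLib.Blk4.SmallFrame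

open Cfsg CfsgLib.Characters CfsgLib.Blocks CfsgLib.Contribution
open scoped ComplexConjugate Pointwise

universe u

variable {p : ℕ} {M : Ideal AlgInt} {H : Type u} [Group H] [Fintype H]

open scoped Classical in
/-- Coordinates `a` with respect to the functions `u`, and the form of the regular norm. -/
structure Frame (p : ℕ) (M : Ideal AlgInt) (H : Type u) [Group H] [Fintype H] (α : ℕ) where
  /-- The index type. -/
  ι : Type u
  /-- The index type is finite. -/
  fin : Fintype ι
  /-- The reference functions. -/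
  f : ι → H → ℂ
  /-- The coordinates. -/
  a : IrrCharacter H → ι → ℤ
  /-- The correction. -/
  k : ℤ
  card_le : Fintype.card ι ≤ α
  k_nonneg : 0 ≤ k
  k_le : k * (Fintype.card ι : ℤ) + 1 ≤ α
  expand : ∀ π ∈ principalBlock M H, ∀ y : H, ¬ p ∣ orderOf y →
    (π : H → ℂ) y = ∑ i, (a π i : ℂ) * f i y
  form : ∀ c : ι → ℂ, (α : ℂ) * (Nat.card H : ℂ)⁻¹ *
      ∑ y ∈ Finset.univ.filter (fun y : H => ¬ p ∣ orderOf y),
        (∑ i, c i * f i y) * conj (∑ i, c i * f i y) =
      (α : ℂ) * ∑ i, c i * conj (c i) - (k : ℂ) * ((∑ i, c i) * conj (∑ i, c i))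

attribute [instance] Frame.fin

/-- The rank is at most the number of coordinates. -/
theorem blockRank_le {α : ℕ} (F : Frame p M H α) :
    blockRank p (principalBlock M H) ≤ Fintype.card F.ι := by
  classical
  unfold blockRank
  refine le_trans (Submodule.finrank_mono (t := Submodule.span ℂ
    (Set.range fun i => pRegularPart p (F.f i))) ?_) (finrank_range_le_card _)
  rw [Submodule.span_le]
  rintro _ ⟨π, hπ, rfl⟩
  have e : pRegularPart p (π : H → ℂ) = ∑ i, (F.a π i : ℂ) • pRegularPart p (F.f i) := by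
    funext y
    simp only [Finset.sum_apply, Pi.smul_apply, smul_eq_mul, pRegularPart, IsPRegular]
    by_cases hy : p ∣ orderOf y
    · simp [hy]
    · simpa [hy] using F.expand π hπ y hy
  show pRegularPart p (π : H → ℂ) ∈ _
  rw [e]
  exact Submodule.sum_mem _ fun i _ => Submodule.smul_mem _ _ (Submodule.subset_span ⟨i, rfl⟩)

open scoped Classical in
/-- For a group of order prime to `p` the principal block is trivial. -/
theorem eq_principal_of_not_dvd (hM : IsPModular p M) (hH : ¬ p ∣ Nat.card H)
    {π : IrrCharacter H} (hπ : π ∈ principalBlock M H) : π = principalIrr H := by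
  by_contra hne
  refine omega_regSum_not_mem hM hπ ?_
  have huniv : Finset.univ.filter (fun x : H => ¬ p ∣ orderOf x) = Finset.univ :=
    Finset.filter_eq_self.2 fun x _ h => hH (h.trans (orderOf_dvd_natCard x))
  have h0 := classInner_irr π (principalIrr H)
  rw [if_neg hne, classInner, mul_eq_zero] at h0
  have h1 := h0.resolve_left (inv_ne_zero (Nat.cast_ne_zero.2 Nat.card_pos.ne'))
  simp only [principalIrr_apply, map_one, mul_one] at h1
  rw [omega_regSum, huniv, h1, zero_div]
  exact memLocalIdeal_zero hM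

/-- Groups of order prime to `p`. -/
theorem exists_frame_of_not_dvd (hM : IsPModular p M) (hH : ¬ p ∣ Nat.card H) {α : ℕ}
    (hα : 1 ≤ α) : Nonempty (Frame p M H α) := by
  classical
  have huniv : Finset.univ.filter (fun x : H => ¬ p ∣ orderOf x) = Finset.univ :=
    Finset.filter_eq_self.2 fun x _ h => hH (h.trans (orderOf_dvd_natCard x))
  refine ⟨⟨PUnit, inferInstance, fun _ _ => 1, fun _ _ => 1, 0, by simpa using hα, le_rfl,
    by simpa using hα, fun π hπ y _ => ?_, fun c => ?_⟩⟩
  · rw [eq_principal_of_not_dvd hM hH hπ, principalIrr_apply]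
    simp
  · rw [huniv]
    simp only [mul_one, Finset.sum_const, Finset.card_univ, nsmul_eq_mul, Int.cast_zero, zero_mul,
      sub_zero, Finset.univ_unique, Finset.sum_singleton, Nat.card_eq_fintype_card]
    have : (Fintype.card H : ℂ) ≠ 0 := Nat.cast_ne_zero.2 Fintype.card_ne_zero
    field_simp

variable [hp : Fact p.Prime]

theorem blockDefect_principal (hM : IsPModular p M) :
    blockDefect p (principalBlock M H) = (Nat.card H).factorization p := by
  have h : sInf ((fun χ : IrrCharacter H => (charDegree (χ : H → ℂ)).factorization p) ''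
      principalBlock M H) = 0 :=
    Nat.le_zero.1 (Nat.sInf_le ⟨principalIrr H, principalIrr_mem hM, by simp [charDegree]⟩)
  rw [blockDefect, h, Nat.sub_zero]

open scoped Classical in
/-- A Sylow subgroup of order `p`. -/
theorem exists_frame_of_prime (hM : IsPModular p M) (hH : (Nat.card H).factorization p = 1) :
    Nonempty (Frame p M H p) := by
  have hH0 : Nat.card H ≠ 0 := Nat.card_pos.ne'
  have hdvd : p ∣ Nat.card H := Nat.dvd_of_factorization_pos (by omega)
  have hsq : ¬ p ^ 2 ∣ Nat.card H := fun h => by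
    have := (hp.out.pow_dvd_iff_le_factorization hH0).1 h
    omega
  obtain ⟨x, hx⟩ := exists_prime_orderOf_dvd_card' p hdvd
  obtain ⟨V, D⟩ := PrimeDefect.exists_data hx hsq
  haveI := Fintype.ofFinite (Subgroup.centralizer ({x} : Set H))
  haveI := Fintype.ofFinite V
  set B := principalBlock M H with hBdef
  have hB : IsPBlock M B := isPBlock_principalBlock M
  have hd1 : blockDefect p B = 1 := (blockDefect_principal hM).trans hH
  have hd : 0 < blockDefect p B := by omega
  obtain ⟨β, hβ⟩ := D.exists_hits_of_defect hM hB hd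
  obtain ⟨F⟩ := D.exists_family hM hB hd hβ
  let q0 : D.Orbits β := ((1 : (ZMod p)ˣ) : D.Orbits β)
  have hεsq : (F.ε : ℂ) * F.ε = 1 := by rcases F.ε_spec with h | h <;> simp [h]
  have hssq : ∀ χ ∈ F.X, (F.sign χ : ℂ) * F.sign χ = 1 := fun χ hχ => by
    rcases F.sign_spec χ hχ with h | h <;> simp [h]
  set f : {χ // χ ∈ F.X} → H → ℂ := fun i y => (F.sign i.1 : ℂ) * (i.1 : H → ℂ) y with hf
  set a : IrrCharacter H → {χ // χ ∈ F.X} → ℤ := fun π i =>
    if π ∈ F.X then (if i.1 = π then F.sign π else 0) else F.ε with ha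
  have hexp : ∀ π ∈ B, ∀ y : H, ¬ p ∣ orderOf y → (π : H → ℂ) y = ∑ i, (a π i : ℂ) * f i y := by
    intro π hπ y hy
    rcases (F.mem_iff π).1 hπ with h | ⟨q, rfl⟩
    · rw [Finset.sum_eq_single (⟨π, h⟩ : {χ // χ ∈ F.X})]
      · simp only [ha, hf, if_pos h, if_true]
        rw [← mul_assoc, hssq π h, one_mul]
      · intro i _ hi
        simp only [ha, if_pos h, if_neg fun e : i.1 = π => hi (Subtype.ext e), Int.cast_zero, zero_mul]
      · simp
    · simp only [ha, hf, if_neg (F.θ_notMem q)]
      rw [← Finset.mul_sum, Finset.sum_coe_sort F.X fun χ => (F.sign χ : ℂ) * (χ : H → ℂ) y,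
        F.relation y hy q, ← mul_assoc, hεsq, one_mul]
  -- the singular values do not depend on the coordinate
  have hsing : ∀ g : H, p ∣ orderOf g → ∀ i j, f i g = f j g := by
    intro g hg
    obtain ⟨z, hz⟩ := exists_isPPart hp.out g
    obtain ⟨w, hzw, hcomm, ⟨n, hn⟩, hw⟩ := hz
    have hn1 : n = 1 := by
      have h1 : p ^ n ∣ Nat.card H := hn ▸ orderOf_dvd_natCard z
      have h2 := (hp.out.pow_dvd_iff_le_factorization hH0).1 h1
      rcases Nat.eq_zero_or_pos n with h | h
      · rw [h, pow_zero] at hn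
        exact absurd hg (by rw [← hzw, orderOf_eq_one_iff.1 hn, one_mul]; exact hw)
      · omega
    rw [hn1, pow_one] at hn
    let P1 : Sylow p H := Sylow.ofCard (Subgroup.zpowers z) (by rw [Nat.card_zpowers, hn, hH, pow_one])
    let P2 : Sylow p H := Sylow.ofCard (Subgroup.zpowers x) (by rw [Nat.card_zpowers, hx, hH, pow_one])
    obtain ⟨h, hh⟩ := MulAction.exists_smul_eq H P1 P2
    have hzx : h * z * h⁻¹ ∈ Subgroup.zpowers x := by
      have h1 : MulAut.conj h • z ∈ MulAut.conj h • (P1 : Subgroup H) :=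
        Subgroup.smul_mem_pointwise_smul z _ _ (Subgroup.mem_zpowers z)
      rw [← Sylow.coe_subgroup_smul, hh] at h1
      rw [MulAut.smul_def, MulAut.conj_apply] at h1
      exact h1
    rw [← mem_powers_iff_mem_zpowers, Submonoid.mem_powers_iff] at hzx
    obtain ⟨m, hm⟩ := hzx
    rw [SelfCentralPrime.pow_eq_pw hx] at hm
    set i0 : ZMod p := (m : ZMod p)
    have hi0 : i0 ≠ 0 := by
      intro h0
      rw [h0, D.pw_zero] at hm
      have : z = 1 := by
        have := hm.symm
        rwa [mul_inv_eq_one, mul_eq_left] at this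
      rw [this, orderOf_one] at hn
      exact hp.out.one_lt.ne hn
    set v := h * w * h⁻¹ with hv
    have hvV : v ∈ V := by
      rw [D.hV]
      refine ⟨?_, fun hd => hw (by rwa [hv, ← MulAut.conj_apply, MulEquiv.orderOf_eq] at hd)⟩
      have hc : Commute v (SelfCentralPrime.pw x i0) := by
        rw [hm, hv]
        exact (hcomm.symm.map (MulAut.conj h).toMonoidHom :)
      have hxmem : x ∈ Subgroup.zpowers (SelfCentralPrime.pw x i0) := by
        have : Subgroup.zpowers (SelfCentralPrime.pw x i0) = Subgroup.zpowers x :=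
          Subgroup.eq_of_le_of_card_ge (by
              rw [Subgroup.zpowers_le]
              exact pow_mem (Subgroup.mem_zpowers x) _)
            (by rw [Nat.card_zpowers, Nat.card_zpowers, D.orderOf_pw hi0, hx])
        rw [this]
        exact Subgroup.mem_zpowers x
      obtain ⟨l, hl⟩ := Subgroup.mem_zpowers_iff.1 hxmem
      refine (PrimeDefect.Data.mem_C_iff D).2 ?_
      rw [← hl]
      exact hc.zpow_right l
    have hgv : h * g * h⁻¹ = SelfCentralPrime.pw x i0 * ((⟨v, hvV⟩ : V) : H) := by
      show _ = SelfCentralPrime.pw x i0 * v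
      rw [hm, ← hzw, hv]
      group
    intro i j
    simp only [hf]
    rw [← irr_isClassFunction i.1 g h, ← irr_isClassFunction j.1 g h, hgv,
      F.value_X hM hB hβ i.2 hi0, F.value_X hM hB hβ j.2 hi0, ← mul_assoc, ← mul_assoc,
      hssq _ i.2, hssq _ j.2]
  have hcardι : Fintype.card {χ // χ ∈ F.X} = Nat.card (D.expH β) := by
    rw [Fintype.card_coe, F.card_X]
  have hepos : 0 < Fintype.card {χ // χ ∈ F.X} := hcardι ▸ Nat.card_pos
  obtain ⟨i₀⟩ := Fintype.card_pos_iff.1 hepos
  set K : ℂ := ∑ g ∈ Finset.univ.filter (fun g : H => p ∣ orderOf g), f i₀ g * conj (f i₀ g) with hK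
  have hN : (Nat.card H : ℂ) ≠ 0 := Nat.cast_ne_zero.2 hH0
  -- the form, with the correction still complex
  have hform0 : ∀ c : {χ // χ ∈ F.X} → ℂ, (p : ℂ) * (Nat.card H : ℂ)⁻¹ *
      ∑ y ∈ Finset.univ.filter (fun y : H => ¬ p ∣ orderOf y),
        (∑ i, c i * f i y) * conj (∑ i, c i * f i y) =
      (p : ℂ) * ∑ i, c i * conj (c i) -
        ((p : ℂ) * (Nat.card H : ℂ)⁻¹ * K) * ((∑ i, c i) * conj (∑ i, c i)) := by
    intro c
    have hfull : ∑ y : H, (∑ i, c i * f i y) * conj (∑ i, c i * f i y) =
        (Nat.card H : ℂ) * ∑ i, c i * conj (c i) := by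
      have hij : ∀ i j : {χ // χ ∈ F.X}, ∑ y : H, f i y * conj (f j y) =
          if i = j then (Nat.card H : ℂ) else 0 := by
        intro i j
        have h0 := classInner_irr i.1 j.1
        rw [classInner, inv_mul_eq_iff_eq_mul₀ hN] at h0
        simp only [hf, map_mul, map_intCast]
        rw [Finset.sum_congr rfl fun y _ => mul_mul_mul_comm _ _ _ _, ← Finset.mul_sum, h0]
        by_cases hij : i = j
        · subst hij
          rw [if_pos rfl, if_pos rfl, mul_one, hssq _ i.2, one_mul]
        · rw [if_neg hij, if_neg fun e => hij (Subtype.ext e), mul_zero, mul_zero]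
      calc _ = ∑ i, ∑ j, c i * conj (c j) * ∑ y : H, f i y * conj (f j y) := by
            simp only [map_sum, map_mul]
            simp only [Finset.sum_mul, Finset.mul_sum]
            refine Eq.trans ?_ Finset.sum_comm
            rw [Finset.sum_comm]
            refine Finset.sum_congr rfl fun i _ => ?_
            rw [Finset.sum_comm]
            exact Finset.sum_congr rfl fun j _ => Finset.sum_congr rfl fun y _ => by ring
        _ = _ := by
            simp only [hij, mul_ite, mul_zero, Finset.sum_ite_eq, Finset.mem_univ, if_true]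
            rw [← Finset.sum_mul, mul_comm]
    have hbad : ∑ y ∈ Finset.univ.filter (fun y : H => p ∣ orderOf y),
        (∑ i, c i * f i y) * conj (∑ i, c i * f i y) = K * ((∑ i, c i) * conj (∑ i, c i)) := by
      rw [hK, Finset.sum_mul]
      refine Finset.sum_congr rfl fun y hy => ?_
      rw [Finset.sum_congr rfl (g := fun i => c i * f i₀ y) fun i _ => by
        rw [hsing y (Finset.mem_filter.1 hy).2 i i₀], ← Finset.sum_mul, map_mul]
      ring
    rw [← Finset.sum_filter_add_sum_filter_not (Finset.univ : Finset H) (fun y => p ∣ orderOf y),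
      hbad] at hfull
    rw [eq_sub_of_add_eq' hfull]
    field_simp
  -- the correction is an integer
  obtain ⟨z, hz⟩ := exists_contrib_int hM hB i₀.1 (F.mem_of_mem_X i₀.2)
  have hk : (p : ℂ) * (Nat.card H : ℂ)⁻¹ * K = (((p : ℤ) - z : ℤ) : ℂ) := by
    have h := hform0 fun i => if i = i₀ then 1 else 0
    simp only [ite_mul, one_mul, zero_mul, apply_ite conj, map_one, map_zero,
      Finset.sum_ite_eq', Finset.mem_univ, if_true, mul_one] at h
    have h2 : contrib p (blockDefect p B) i₀.1 i₀.1 = (p : ℂ) * (Nat.card H : ℂ)⁻¹ *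
        ∑ y ∈ Finset.univ.filter (fun y : H => ¬ p ∣ orderOf y), f i₀ y * conj (f i₀ y) := by
      rw [contrib, hd1, pow_one, Contribution.regSum]
      congr 1
      refine Finset.sum_congr rfl fun y _ => ?_
      simp only [hf, map_mul, map_intCast]
      rw [mul_mul_mul_comm, hssq _ i₀.2, one_mul]
    rw [← h2, hz] at h
    push_cast
    linear_combination h
  set k : ℤ := (p : ℤ) - z
  have hknn : 0 ≤ k := by
    have h1 : ((k : ℂ)).re = ((p : ℂ) * (Nat.card H : ℂ)⁻¹ * K).re := by rw [hk]
    rw [Complex.intCast_re, hK, Finset.mul_sum, Complex.re_sum] at h1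
    have : (0 : ℝ) ≤ k := h1 ▸ Finset.sum_nonneg fun g _ => by
      rw [Complex.mul_conj, show (p : ℂ) * (Nat.card H : ℂ)⁻¹ * ((Complex.normSq (f i₀ g) : ℝ) : ℂ) =
        (((p : ℝ) * (Nat.card H : ℝ)⁻¹ * Complex.normSq (f i₀ g) : ℝ) : ℂ) by push_cast; rfl,
        Complex.ofReal_re]
      exact mul_nonneg (mul_nonneg (Nat.cast_nonneg _) (inv_nonneg.2 (Nat.cast_nonneg _)))
        (Complex.normSq_nonneg _)
    exact_mod_cast this
  have hkle : k * (Fintype.card {χ // χ ∈ F.X} : ℤ) + 1 ≤ (p : ℤ) := by
    have h := hform0 fun _ => 1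
    simp only [one_mul, map_one, mul_one, Finset.sum_const, Finset.card_univ, nsmul_eq_mul,
      map_natCast] at h
    rw [hk] at h
    set e := Fintype.card {χ // χ ∈ F.X} with he
    have hpos : (0 : ℝ) < ((p : ℂ) * (Nat.card H : ℂ)⁻¹ *
        ∑ y ∈ Finset.univ.filter (fun y : H => ¬ p ∣ orderOf y),
          (∑ i, f i y) * conj (∑ i, f i y)).re := by
      rw [Finset.mul_sum, Complex.re_sum]
      refine Finset.sum_pos' (fun g _ => ?_) ⟨1, Finset.mem_filter.2 ⟨Finset.mem_univ _, by
        rw [orderOf_one]; exact hp.out.not_dvd_one⟩, ?_⟩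
      · rw [Complex.mul_conj, show (p : ℂ) * (Nat.card H : ℂ)⁻¹ *
          ((Complex.normSq (∑ i, f i g) : ℝ) : ℂ) =
          (((p : ℝ) * (Nat.card H : ℝ)⁻¹ * Complex.normSq (∑ i, f i g) : ℝ) : ℂ) by push_cast; rfl,
          Complex.ofReal_re]
        exact mul_nonneg (mul_nonneg (Nat.cast_nonneg _) (inv_nonneg.2 (Nat.cast_nonneg _)))
          (Complex.normSq_nonneg _)
      · rw [Complex.mul_conj, show (p : ℂ) * (Nat.card H : ℂ)⁻¹ *
          ((Complex.normSq (∑ i, f i 1) : ℝ) : ℂ) =
          (((p : ℝ) * (Nat.card H : ℝ)⁻¹ * Complex.normSq (∑ i, f i 1) : ℝ) : ℂ) by push_cast; rfl,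
          Complex.ofReal_re]
        refine mul_pos (mul_pos (Nat.cast_pos.2 hp.out.pos)
          (inv_pos.2 (Nat.cast_pos.2 Nat.card_pos))) (Complex.normSq_pos.2 ?_)
        simp only [hf]
        rw [Finset.sum_coe_sort F.X fun χ => (F.sign χ : ℂ) * (χ : H → ℂ) 1,
          F.relation 1 (by rw [orderOf_one]; exact hp.out.not_dvd_one) q0]
        exact mul_ne_zero (left_ne_zero_of_mul_eq_one hεsq) (irr_one_ne_zero _)
    rw [h] at hpos
    have hpos' : (0 : ℝ) < (p : ℝ) * e - k * ((e : ℝ) * e) := by
      refine lt_of_lt_of_eq hpos ?_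
      simp
    have h2 : (0 : ℤ) < (e : ℤ) * ((p : ℤ) - k * e) := by
      have : (0 : ℝ) < (((e : ℤ) * ((p : ℤ) - k * e) : ℤ) : ℝ) := by push_cast; linarith
      exact_mod_cast this
    have := (pos_of_mul_pos_right h2 (Nat.cast_nonneg e))
    omega
  refine ⟨⟨{χ // χ ∈ F.X}, inferInstance, f, a, k, ?_, hknn, hkle, hexp, fun c => ?_⟩⟩
  · rw [hcardι]
    have := D.card_expH_mul β
    have hpos : 0 < Nat.card (D.Orbits β) := Nat.card_pos
    nlinarith [Nat.sub_le p 1]
  · rw [hform0 c, hk]

end CfsgLib.Blk4.SmallFrame
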