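import Cfsg.Agent.Lib.Blk4.MajorSection
import Cfsg.Agent.Lib.Blocks.Blau
import Cfsg.Agent.Lib.BlockCover.Regular

/-!
# Contributions of an arbitrary subsection, modulo the local ideal

For a subsection `(z, b)` of a block `B`, the contribution of two members is a unit exactly when
both have height zero.
-/

set_option autoImplicit false
set_option linter.unusedSectionVars false
set_option linter.style.haveILetI false

noncomputable section

namespace CfsgLib.Blk4.Major

open Cfsg CfsgLib.Characters CfsgLib.Blocks CfsgLib.Contribution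
open scoped ComplexConjugate

universe u

variable {G : Type u} [Group G] [Fintype G] [Fintype (ConjClasses G)] {p : ℕ} {M : Ideal AlgInt}
variable (z : G) [Fintype (Subgroup.centralizer ({z} : Set G))]
  [Fintype (ConjClasses (Subgroup.centralizer ({z} : Set G)))]
  (b : Set (IrrCharacter (Subgroup.centralizer ({z} : Set G)))) {B : Set (IrrCharacter G)}

open scoped Classical in
theorem tfac_Rv_congr (hM : IsPModular p M)
    (hind : IsInducedBlock M (Subgroup.centralizer ({z} : Set G)) b B)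
    {η₀ : IrrCharacter (Subgroup.centralizer ({z} : Set G))} (hη₀ : η₀ ∈ b)
    {χ φ : IrrCharacter G} (hφ : φ ∈ B) :
    MemLocalIdeal M
      (((Nat.card (Subgroup.centralizer ({z} : Set G)) /
          p ^ (Nat.card (Subgroup.centralizer ({z} : Set G))).factorization p : ℕ) : ℂ) *
        tfac p η₀ η₀ * (Rv z b p χ : ℂ) -
      ((Nat.card G / p ^ (Nat.card G).factorization p : ℕ) : ℂ) * (red p b η₀ : ℂ) * tfac p χ φ) := by
  have hb := hind.1
  set cC : ℂ := ((Nat.card (Subgroup.centralizer ({z} : Set G)) /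
          p ^ (Nat.card (Subgroup.centralizer ({z} : Set G))).factorization p : ℕ) : ℂ) with hcC
  set θ : (Subgroup.centralizer ({z} : Set G)) → ℂ := fun h => (χ : G → ℂ) h
  have hexp : CfsgLib.Contribution.regSum p (η₀ : (Subgroup.centralizer ({z} : Set G)) → ℂ) θ /
        (η₀ : (Subgroup.centralizer ({z} : Set G)) → ℂ) 1 =
      cC * ∑ η ∈ Finset.univ.filter (· ∈ b), (nm z χ η : ℂ) * tfac p η η₀ := by
    have h1 : CfsgLib.Contribution.regSum p (η₀ : (Subgroup.centralizer ({z} : Set G)) → ℂ) θ =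
        ∑ η : IrrCharacter (Subgroup.centralizer ({z} : Set G)), (nm z χ η : ℂ) *
          CfsgLib.Contribution.regSum p (η₀ : (Subgroup.centralizer ({z} : Set G)) → ℂ)
            (η : (Subgroup.centralizer ({z} : Set G)) → ℂ) := by
      conv_lhs => rw [classFunction_eq_sum (φ := θ)
        (fun a c => by simpa [θ] using irr_isClassFunction χ (a : G) (c : G))]
      simp only [CfsgLib.Contribution.regSum, Finset.sum_apply, Pi.smul_apply, smul_eq_mul, θ,
        nm_spec, map_sum, map_mul, Complex.conj_natCast, Finset.mul_sum]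
      rw [Finset.sum_comm]
      exact Finset.sum_congr rfl fun η _ => Finset.sum_congr rfl fun x _ => by ring
    rw [h1, Finset.sum_div, Finset.mul_sum]
    refine (Finset.sum_subset (Finset.filter_subset (· ∈ b) _) fun η _ hη => ?_).symm.trans
      (Finset.sum_congr rfl fun η _ => ?_)
    · have h2 := sum_regular_eq_zero_of_not_sameBlock (χ := η₀) (ψ := η) hM fun hs =>
        hη (Finset.mem_filter.2 ⟨Finset.mem_univ _, (IsPBlock.mem_iff hM hb hη₀ η).2 hs⟩)
      rw [show CfsgLib.Contribution.regSum p (η₀ : (Subgroup.centralizer ({z} : Set G)) → ℂ)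
        (η : (Subgroup.centralizer ({z} : Set G)) → ℂ) = 0 from h2, mul_zero, zero_div]
    · rw [mul_div_assoc, regSum_div_eq hM hb η hη₀, hcC]; ring
  have h := regSum_congr_of_induced hM hind hη₀ hφ χ
  rw [show (fun h : (Subgroup.centralizer ({z} : Set G)) => (χ : G → ℂ) h) = θ from rfl, hexp,
    regSum_div_eq hM hind.2.1 χ hφ] at h
  have hr : MemLocalRing M (red p b η₀ : ℂ) := natCast_mem (lRing hM) _
  have h' := MemLocalIdeal.mul_left hM hr h
  have hs : MemLocalIdeal M (cC * ∑ η ∈ Finset.univ.filter (· ∈ b),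
      ((nm z χ η : ℂ) * ((red p b η₀ : ℂ) * tfac p η η₀) -
        (nm z χ η : ℂ) * ((red p b η : ℂ) * tfac p η₀ η₀))) := by
    refine MemLocalIdeal.mul_left hM (by rw [hcC]; exact natCast_mem (lRing hM) _)
      (MemLocalIdeal.sum hM _ fun η hη => ?_)
    have hη' := (Finset.mem_filter.1 hη).2
    rw [← contrib_eq hM hb η hη₀, contrib_symm hM hb η hη₀, contrib_eq hM hb η₀ hη', ← mul_sub,
      ← mul_sub]
    exact MemLocalIdeal.mul_left hM (natCast_mem (lRing hM) _)
      (MemLocalIdeal.mul_left hM (natCast_mem (lRing hM) _)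
        (tfac_congr hM η₀ ((IsPBlock.mem_iff hM hb hη' η₀).1 hη₀)))
  convert MemLocalIdeal.sub hM h' hs using 1
  rw [Rv_cast, Finset.sum_sub_distrib]
  simp only [Finset.mul_sum, mul_sub]
  rw [Finset.sum_congr rfl fun η _ => show cC * ((nm z χ η : ℂ) * ((red p b η₀ : ℂ) * tfac p η η₀)) =
      (red p b η₀ : ℂ) * (cC * ((nm z χ η : ℂ) * tfac p η η₀)) by ring]
  rw [Finset.sum_congr rfl fun η _ => show cC * ((nm z χ η : ℂ) * ((red p b η : ℂ) * tfac p η₀ η₀)) =
      cC * tfac p η₀ η₀ * ((nm z χ η : ℂ) * (red p b η : ℂ)) by ring]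
  ring

/-- The reduced degree of the part in `b` of the restriction is a unit exactly in height zero. -/
theorem Rv_unit_iff (hM : IsPModular p M)
    (hind : IsInducedBlock M (Subgroup.centralizer ({z} : Set G)) b B)
    {χ : IrrCharacter G} (hχ : χ ∈ B) :
    ¬ MemLocalIdeal M (Rv z b p χ : ℂ) ↔ ¬ p ∣ red p B χ := by
  obtain ⟨η₀, hη₀, h0, -⟩ := Contribution.exists_height_zero hM hind.1
  have h := tfac_Rv_congr z b hM hind hη₀ (χ := χ) hχ
  have hR : MemLocalRing M (Rv z b p χ : ℂ) := intCast_mem (lRing hM) _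
  have ht := tfac_mem (G := (Subgroup.centralizer ({z} : Set G))) hM η₀ η₀
  have htχ := tfac_mem (G := G) hM χ χ
  have hnG : ¬ MemLocalIdeal M ((Nat.card G / p ^ (Nat.card G).factorization p : ℕ) : ℂ) := fun h' =>
    cofactor_not_dvd (G := G) hM.1 ((memLocalIdeal_natCast_iff hM _).1 h')
  have hnC : ¬ MemLocalIdeal M ((Nat.card (Subgroup.centralizer ({z} : Set G)) /
      p ^ (Nat.card (Subgroup.centralizer ({z} : Set G))).factorization p : ℕ) : ℂ) := fun h' =>
    cofactor_not_dvd (G := (Subgroup.centralizer ({z} : Set G))) hM.1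
      ((memLocalIdeal_natCast_iff hM _).1 h')
  have hr : ¬ MemLocalIdeal M (red p b η₀ : ℂ) := fun h' => h0 ((memLocalIdeal_natCast_iff hM _).1 h')
  have ht0 := tfac_unit hM hind.1 hη₀ h0 hη₀
  have hN : ∀ n : ℕ, MemLocalRing M (n : ℂ) := fun n => natCast_mem (lRing hM) n
  rw [← BlockCover.blockHeight_eq_zero_iff hM.1 hχ, BlockCover.height_zero_iff_tfac hM hind.2.1 hχ hχ]
  generalize (Nat.card G / p ^ (Nat.card G).factorization p : ℕ) = nG at h hnG
  generalize (Nat.card (Subgroup.centralizer ({z} : Set G)) /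
      p ^ (Nat.card (Subgroup.centralizer ({z} : Set G))).factorization p : ℕ) = nC at h hnC
  constructor
  · intro hu h1
    refine mul_not_mem hM ((lRing hM).mul_mem (hN _) ht) hR (mul_not_mem hM (hN _) ht hnC ht0) hu ?_
    simpa using MemLocalIdeal.add hM h (MemLocalIdeal.mul_left hM ((lRing hM).mul_mem (hN nG) (hN (red p b η₀))) h1)
  · intro hu h1
    refine mul_not_mem hM ((lRing hM).mul_mem (hN _) (hN _)) htχ (mul_not_mem hM (hN _) (hN _) hnG hr) hu ?_
    simpa using MemLocalIdeal.sub hM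
      (MemLocalIdeal.mul_left hM ((lRing hM).mul_mem (hN nC) ht) h1) h

theorem cz_mem (hM : IsPModular p M) {n : ℕ} (hz : orderOf z = p ^ n) (hb : IsPBlock M b)
    (χ ψ : IrrCharacter G) : MemLocalRing M (cz z b p (blockDefect p b) χ ψ) := by
  classical
  rw [cz_expand]
  refine (lRing hM).sum_mem fun ξ _ => (lRing hM).sum_mem fun η hη =>
    (lRing hM).mul_mem ((lRing hM).mul_mem ?_ ?_) (contrib_mem hM hb ξ (Finset.mem_filter.1 hη).2)
  · simpa using (lRing hM).add_mem (MemLocalIdeal.memLocalRing (w_congr z hM hz χ ξ).1)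
      (natCast_mem (lRing hM) (nm z χ ξ))
  · simpa using (lRing hM).add_mem (MemLocalIdeal.memLocalRing (w_congr z hM hz ψ η).2)
      (natCast_mem (lRing hM) (nm z ψ η))

/-- A contribution is a unit exactly when both characters have height zero. -/
theorem cz_unit_iff (hM : IsPModular p M) {n : ℕ} (hz : orderOf z = p ^ n)
    (hind : IsInducedBlock M (Subgroup.centralizer ({z} : Set G)) b B)
    {χ ψ : IrrCharacter G} (hχ : χ ∈ B) (hψ : ψ ∈ B) :
    ¬ MemLocalIdeal M (cz z b p (blockDefect p b) χ ψ) ↔ ¬ p ∣ red p B χ ∧ ¬ p ∣ red p B ψ := by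
  rw [← Rv_unit_iff z b hM hind hχ, ← Rv_unit_iff z b hM hind hψ]
  obtain ⟨η₀, hη₀, h0, -⟩ := Contribution.exists_height_zero hM hind.1
  have hc := cz_congr z b hM hz hind.1 hη₀ χ ψ
  have ht := tfac_mem (G := (Subgroup.centralizer ({z} : Set G))) hM η₀ η₀
  have hi : ∀ φ, MemLocalRing M (Rv z b p φ : ℂ) := fun φ => intCast_mem (lRing hM) _
  have hr : ¬ MemLocalIdeal M (red p b η₀ : ℂ) := fun h' => h0 ((memLocalIdeal_natCast_iff hM _).1 h')
  constructor
  · intro h
    have h1 := isUnit_part hM (mul_not_mem hM (natCast_mem (lRing hM) _) (cz_mem z b hM hz hind.1 χ ψ) hr h) hc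
    exact ⟨fun h2 => h1 (MemLocalIdeal.mul_right hM (MemLocalIdeal.mul_left hM ht h2) (hi ψ)),
      fun h2 => h1 (MemLocalIdeal.mul_left hM ((lRing hM).mul_mem ht (hi χ)) h2)⟩
  · intro h h1
    refine mul_not_mem hM ((lRing hM).mul_mem ht (hi χ)) (hi ψ)
      (mul_not_mem hM ht (hi χ) (tfac_unit hM hind.1 hη₀ h0 hη₀) h.1) h.2 ?_
    simpa using MemLocalIdeal.sub hM (MemLocalIdeal.mul_left hM (natCast_mem (lRing hM) (red p b η₀)) h1) hc

end CfsgLib.Blk4.Major
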