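import Mathlib

/-!
Two general facts about the transfer homomorphism.
-/

namespace CfsgLib.Blk4.Transfer

open Subgroup MulAction

variable {G A B : Type*} [Group G] [CommGroup A] [CommGroup B] {H : Subgroup G} [H.FiniteIndex]

theorem diff_comp (π : A →* B) (ϕ : H →* A) (S T : H.LeftTransversal) :
    π (Subgroup.leftTransversals.diff ϕ S T) = Subgroup.leftTransversals.diff (π.comp ϕ) S T := by
  let _ := H.fintypeQuotientOfFiniteIndex
  show π (∏ q : G ⧸ H, _) = ∏ q : G ⧸ H, _
  rw [map_prod]
  exact Finset.prod_congr rfl (fun q _ => rfl)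

theorem comp_transfer (π : A →* B) (ϕ : H →* A) (g : G) :
    π (MonoidHom.transfer ϕ g) = MonoidHom.transfer (π.comp ϕ) g := by
  have T : H.LeftTransversal := default
  rw [MonoidHom.transfer_def ϕ T g, MonoidHom.transfer_def (π.comp ϕ) T g]
  exact diff_comp π ϕ T (g • T)

/-- The transfer of a homomorphism which extends to the whole group is a power of the extension. -/
theorem transfer_of_extends (ϕ : H →* A) (φ : G →* A) (h : ∀ x : H, φ x = ϕ x) (g : G) :
    MonoidHom.transfer ϕ g = φ g ^ H.index := by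
  let _ := H.fintypeQuotientOfFiniteIndex
  have T : H.LeftTransversal := default
  rw [MonoidHom.transfer_def ϕ T g]
  have hdiff : Subgroup.leftTransversals.diff ϕ T (g • T) =
      ∏ q : G ⧸ H, ((φ (T.2.leftQuotientEquiv q : G))⁻¹ *
        φ ((g • T).2.leftQuotientEquiv q : G)) := by
    show (∏ q : G ⧸ H, _) = _
    refine Finset.prod_congr rfl (fun q _ => ?_)
    rw [← h, ← map_inv, ← map_mul]
  rw [hdiff]
  simp only [smul_apply_eq_smul_apply_inv_smul, smul_eq_mul, map_mul, Finset.prod_mul_distrib,
    Finset.prod_inv_distrib, Finset.prod_const, Finset.card_univ]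
  rw [Fintype.prod_equiv (MulAction.toPerm g⁻¹) (fun q : G ⧸ H => φ (T.2.leftQuotientEquiv (g⁻¹ • q)))
    (fun q => φ (T.2.leftQuotientEquiv q)) (fun _ => rfl)]
  simp [index_eq_card, Nat.card_eq_fintype_card, mul_comm, mul_left_comm]

end CfsgLib.Blk4.Transfer
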