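import Cfsg.Agent.Lib.Blk4.SectionContrib
import Mathlib.NumberTheory.Cyclotomic.Basic
import Mathlib.RingTheory.Polynomial.Cyclotomic.Eval
import Mathlib.RingTheory.Polynomial.Cyclotomic.Roots

/-!
# Integral combinations of roots of unity of two-power order
-/

set_option autoImplicit false
set_option linter.unusedSectionVars false
set_option linter.style.haveILetI false

noncomputable section

namespace CfsgLib.Blk4.TwoCyc

open Cfsg CfsgLib.Blocks Polynomial
open scoped ComplexConjugate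

/-- The chosen root of unity of order `2 ^ (n + 1)`. -/
def zeta (n : ℕ) : ℂ := Complex.exp (2 * Real.pi * Complex.I / (2 ^ (n + 1) : ℕ))

theorem zeta_prim (n : ℕ) : IsPrimitiveRoot (zeta n) (2 ^ (n + 1)) :=
  Complex.isPrimitiveRoot_exp _ (by positivity)

theorem zeta_ne_zero (n : ℕ) : zeta n ≠ 0 :=
  (zeta_prim n).ne_zero (by positivity)

theorem zeta_half (n : ℕ) : zeta n ^ 2 ^ n = -1 := by
  have h : (zeta n ^ 2 ^ n) ^ 2 = 1 ^ 2 := by
    rw [← pow_mul, ← pow_succ, (zeta_prim n).pow_eq_one, one_pow]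
  rcases sq_eq_sq_iff_eq_or_eq_neg.1 h with h1 | h1
  · exact absurd h1 ((zeta_prim n).pow_ne_one_of_pos_of_lt (by positivity)
      (Nat.pow_lt_pow_right (by norm_num) (by omega)))
  · exact h1

theorem natDegree_minpoly (n : ℕ) : (minpoly ℚ (zeta n)).natDegree = 2 ^ n := by
  rw [← cyclotomic_eq_minpoly_rat (zeta_prim n) (by positivity), natDegree_cyclotomic,
    Nat.totient_prime_pow Nat.prime_two (by omega)]
  simp

theorem linearIndependent_zeta (n : ℕ) :
    LinearIndependent ℚ (fun i : Fin (2 ^ n) => zeta n ^ (i : ℕ)) := by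
  have h := linearIndependent_pow (K := ℚ) (zeta n)
  have e := natDegree_minpoly n
  exact h.comp (Fin.cast e.symm) (Fin.cast_injective _)

/-- Integral combinations. -/
def ev (n : ℕ) : (ℕ → ℤ) →+ ℂ where
  toFun a := ∑ j ∈ Finset.range (2 ^ n), (a j : ℂ) * zeta n ^ j
  map_zero' := by simp
  map_add' a b := by simp [add_mul, Finset.sum_add_distrib]

theorem ev_apply (n : ℕ) (a : ℕ → ℤ) :
    ev n a = ∑ j ∈ Finset.range (2 ^ n), (a j : ℂ) * zeta n ^ j := rfl

theorem ev_inj (n : ℕ) {a a' : ℕ → ℤ} (h : ev n a = ev n a') {j : ℕ} (hj : j < 2 ^ n) :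
    a j = a' j := by
  have h1 := Fintype.linearIndependent_iff.1 (linearIndependent_zeta n)
    (fun i : Fin (2 ^ n) => ((a i : ℚ) - (a' i : ℚ))) ?_ ⟨j, hj⟩
  · exact_mod_cast sub_eq_zero.1 h1
  · rw [← sub_eq_zero, ev_apply, ev_apply, ← Finset.sum_sub_distrib, Finset.sum_range] at h
    rw [← h]
    refine Finset.sum_congr rfl fun i _ => ?_
    rw [Rat.smul_def]; push_cast; ring

theorem zeta_pow_mem (n k : ℕ) : zeta n ^ k ∈ (ev n).range := by
  refine ⟨fun j => if j = k % 2 ^ n then (-1) ^ (k / 2 ^ n) else 0, ?_⟩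
  rw [ev_apply, Finset.sum_eq_single (k % 2 ^ n)]
  · conv_rhs => rw [← Nat.div_add_mod k (2 ^ n), pow_add, pow_mul, zeta_half]
    simp
  · intro j _ hj; simp [hj]
  · intro h; exact absurd (Finset.mem_range.2 (Nat.mod_lt _ (by positivity))) h

theorem natCast_mul_root_mem (n : ℕ) {x : ℂ} (hx : x ^ 2 ^ (n + 1) = 1) (c : ℤ) :
    (c : ℂ) * x ∈ (ev n).range := by
  haveI : NeZero (2 ^ (n + 1)) := ⟨by positivity⟩
  obtain ⟨k, -, rfl⟩ := (zeta_prim n).eq_pow_of_pow_eq_one hx
  rw [← zsmul_eq_mul]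
  exact (ev n).range.zsmul_mem (zeta_pow_mem n k) c

theorem intCast_mem (n : ℕ) (c : ℤ) : (c : ℂ) ∈ (ev n).range := by
  simpa using natCast_mul_root_mem n (one_pow _) c

/-- The coordinates. -/
theorem exists_coord (n : ℕ) : ∃ π : ℂ →ₗ[ℚ] (Fin (2 ^ n) → ℚ),
    ∀ i : Fin (2 ^ n), π (zeta n ^ (i : ℕ)) = Pi.single i 1 := by
  classical
  have h := linearIndependent_zeta n
  obtain ⟨g, hg⟩ := (Fintype.linearCombination ℚ (fun i : Fin (2 ^ n) => zeta n ^ (i : ℕ))).exists_leftInverse_of_injective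
    (LinearMap.ker_eq_bot.2 h.fintypeLinearCombination_injective)
  refine ⟨g, fun i => ?_⟩
  have h1 := DFunLike.congr_fun hg (Pi.single i 1)
  simpa [Fintype.linearCombination_apply_single] using h1

/-- The coefficient at one. -/
def tau (n : ℕ) : ℂ →ₗ[ℚ] ℚ :=
  (LinearMap.proj (⟨0, by positivity⟩ : Fin (2 ^ n))).comp (exists_coord n).choose

theorem tau_zeta (n : ℕ) {j : ℕ} (hj : j < 2 ^ n) :
    tau n (zeta n ^ j) = if j = 0 then 1 else 0 := by
  have h := (exists_coord n).choose_spec ⟨j, hj⟩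
  simp only [tau, LinearMap.comp_apply, LinearMap.proj_apply]
  rw [show zeta n ^ j = zeta n ^ ((⟨j, hj⟩ : Fin (2 ^ n)) : ℕ) from rfl, h, Pi.single_apply]
  simp [Fin.ext_iff, eq_comm]

theorem tau_intCast_mul (n : ℕ) (c : ℤ) (x : ℂ) : tau n ((c : ℂ) * x) = (c : ℚ) * tau n x := by
  rw [← zsmul_eq_mul, map_zsmul, zsmul_eq_mul]

theorem tau_natCast (n k : ℕ) : tau n (k : ℂ) = k := by
  have := tau_intCast_mul n k 1
  have h1 := tau_zeta n (j := 0) (by positivity)
  rw [pow_zero, if_pos rfl] at h1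
  rw [h1] at this
  simpa using this

theorem tau_ev (n : ℕ) (a : ℕ → ℤ) : tau n (ev n a) = a 0 := by
  rw [ev_apply, map_sum, Finset.sum_eq_single 0]
  · rw [tau_intCast_mul, tau_zeta n (by positivity)]; simp
  · intro j hj hj0
    rw [tau_intCast_mul, tau_zeta n (Finset.mem_range.1 hj), if_neg hj0, mul_zero]
  · intro h; exact absurd (Finset.mem_range.2 (by positivity)) h

theorem conj_zeta (n : ℕ) : conj (zeta n) = (zeta n)⁻¹ := by
  have h := (zeta_prim n).norm'_eq_one (by positivity)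
  exact (RCLike.inv_eq_conj (K := ℂ) h).symm

theorem tau_pair (n : ℕ) {i j : ℕ} (hi : i < 2 ^ n) (hj : j < 2 ^ n) :
    tau n (zeta n ^ i * conj (zeta n ^ j)) = if i = j then 1 else 0 := by
  have h0 := zeta_ne_zero n
  rw [map_pow, conj_zeta]
  rcases le_or_gt j i with h | h
  · rw [inv_pow, ← pow_sub₀ _ h0 h, tau_zeta n (by omega)]
    exact if_congr (by omega) rfl rfl
  · have e : zeta n ^ i * (zeta n)⁻¹ ^ j = ((-1 : ℤ) : ℂ) * zeta n ^ (2 ^ n - (j - i)) := by
      rw [pow_sub₀ _ h0 (by omega), zeta_half, pow_sub₀ _ h0 (by omega : i ≤ j), inv_pow]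
      push_cast
      field_simp
    rw [e, tau_intCast_mul, tau_zeta n (by omega), if_neg (by omega), if_neg (by omega), mul_zero]

/-- Sums of squares. -/
theorem tau_ev_norm (n : ℕ) (a : ℕ → ℤ) :
    tau n (ev n a * conj (ev n a)) = ((∑ j ∈ Finset.range (2 ^ n), a j ^ 2 : ℤ) : ℚ) := by
  simp only [ev_apply, map_sum, map_mul, map_intCast, Finset.sum_mul, Finset.mul_sum]
  push_cast
  refine Finset.sum_congr rfl fun i hi => ?_
  rw [Finset.sum_eq_single i]
  · rw [show (a i : ℂ) * zeta n ^ i * ((a i : ℂ) * conj (zeta n ^ i)) =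
        ((a i * a i : ℤ) : ℂ) * (zeta n ^ i * conj (zeta n ^ i)) by push_cast; ring, tau_intCast_mul,
      tau_pair n (Finset.mem_range.1 hi) (Finset.mem_range.1 hi), if_pos rfl]
    push_cast; ring
  · intro j hj hji
    rw [show (a j : ℂ) * zeta n ^ j * ((a i : ℂ) * conj (zeta n ^ i)) =
        ((a j * a i : ℤ) : ℂ) * (zeta n ^ j * conj (zeta n ^ i)) by push_cast; ring, tau_intCast_mul,
      tau_pair n (Finset.mem_range.1 hj) (Finset.mem_range.1 hi), if_neg hji, mul_zero]
  · intro h; exact absurd hi h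

/-- The coefficients of a real combination sum to the first one. -/
theorem sum_eq_first (n : ℕ) {a : ℕ → ℤ} (h : conj (ev n a) = ev n a) :
    ∑ j ∈ Finset.range (2 ^ n), a j = a 0 := by
  have h0 := zeta_ne_zero n
  have hN : 0 < 2 ^ n := by positivity
  set N := 2 ^ n with hNdef
  obtain ⟨m, hm⟩ : ∃ m, N = m + 1 := ⟨N - 1, by omega⟩
  let a' : ℕ → ℤ := fun j => if j = 0 then a 0 else -a (N - j)
  have hsum : ∀ f : ℕ → ℂ, ∑ j ∈ Finset.range N, f j = f 0 + ∑ j ∈ Finset.range m, f (j + 1) :=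
    fun f => by rw [hm, Finset.sum_range_succ' f m, add_comm]
  have h1 : ev n a' = conj (ev n a) := by
    simp only [ev_apply, map_sum, map_mul, map_intCast, map_pow, conj_zeta, ← hNdef]
    rw [hsum, hsum (fun j => (a j : ℂ) * (zeta n)⁻¹ ^ j)]
    simp only [a', if_pos, pow_zero]
    congr 1
    rw [← Finset.sum_range_reflect]
    refine Finset.sum_congr rfl fun j hj => ?_
    have hj' := Finset.mem_range.1 hj
    rw [if_neg (by omega), show N - (m - 1 - j + 1) = j + 1 by omega,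
      show m - 1 - j + 1 = N - (j + 1) by omega, pow_sub₀ _ h0 (by omega), zeta_half, inv_pow]
    push_cast; ring
  have h2 : ∀ j < N, a' j = a j := fun j hj => ev_inj n (h1.trans h) hj
  rw [hm, Finset.sum_range_succ']
  have h3 : ∑ j ∈ Finset.range m, a (j + 1) = -∑ j ∈ Finset.range m, a (j + 1) := by
    conv_lhs => rw [← Finset.sum_range_reflect]
    rw [← Finset.sum_neg_distrib]
    refine Finset.sum_congr rfl fun j hj => ?_
    have hj' := Finset.mem_range.1 hj
    have := h2 (m - 1 - j + 1) (by omega)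
    simp only [a', if_neg (show m - 1 - j + 1 ≠ 0 by omega),
      show N - (m - 1 - j + 1) = j + 1 by omega] at this
    omega
  omega

variable {M : Ideal AlgInt}

theorem zeta_congr (hM : IsPModular 2 M) (n : ℕ) : MemLocalIdeal M (zeta n - 1) :=
  Major.root_congr hM (n := n + 1) (zeta_prim n).pow_eq_one

/-- Reduction of a combination. -/
theorem ev_congr (hM : IsPModular 2 M) (n : ℕ) (a : ℕ → ℤ) :
    MemLocalIdeal M (ev n a - ((∑ j ∈ Finset.range (2 ^ n), a j : ℤ) : ℂ)) := by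
  rw [ev_apply]; push_cast
  rw [← Finset.sum_sub_distrib]
  refine MemLocalIdeal.sum hM _ fun j _ => ?_
  rw [show (a j : ℂ) * zeta n ^ j - (a j : ℂ) = (a j : ℂ) * (zeta n ^ j - 1) by ring]
  refine MemLocalIdeal.mul_left hM (_root_.intCast_mem (lRing hM) _)
    (Major.root_congr hM (n := n + 1) ?_)
  rw [← pow_mul, mul_comm, pow_mul, (zeta_prim n).pow_eq_one, one_pow]

/-- A real combination lies in the ideal exactly when its first coefficient is even. -/
theorem real_mem_iff (hM : IsPModular 2 M) (n : ℕ) {a : ℕ → ℤ} (h : conj (ev n a) = ev n a) :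
    MemLocalIdeal M (ev n a) ↔ (2 : ℤ) ∣ a 0 := by
  have h1 := ev_congr hM n a
  rw [sum_eq_first n h] at h1
  rw [show (2 : ℤ) = ((2 : ℕ) : ℤ) by rfl, ← Contribution.memLocalIdeal_intCast_iff hM]
  constructor
  · intro h2; simpa using MemLocalIdeal.sub hM h2 h1
  · intro h2; simpa using MemLocalIdeal.add hM h1 h2

/-- Two is a power of `ζ - 1` times an integral number. -/
theorem two_eq (n : ℕ) : ∃ w : ℂ, IsIntegral ℤ w ∧ (2 : ℂ) = (zeta n - 1) ^ 2 ^ n * w := by
  classical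
  have h1 : (Polynomial.cyclotomic (2 ^ (n + 1)) ℂ).eval 1 = 2 := by
    haveI : Fact (Nat.Prime 2) := ⟨Nat.prime_two⟩
    exact_mod_cast Polynomial.eval_one_cyclotomic_prime_pow (R := ℂ) (p := 2) n
  rw [Polynomial.cyclotomic_eq_prod_X_sub_primitiveRoots (zeta_prim n), Polynomial.eval_prod] at h1
  have hk : ∀ μ ∈ primitiveRoots (2 ^ (n + 1)) ℂ, ∃ v : ℂ, IsIntegral ℤ v ∧ 1 - μ = (zeta n - 1) * v := by
    intro μ hμ
    haveI : NeZero (2 ^ (n + 1)) := ⟨by positivity⟩
    obtain ⟨k, -, rfl⟩ := (zeta_prim n).eq_pow_of_pow_eq_one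
      ((mem_primitiveRoots (by positivity)).1 hμ).pow_eq_one
    refine ⟨-∑ i ∈ Finset.range k, zeta n ^ i, (IsIntegral.sum _ fun i _ =>
      ((zeta_prim n).isIntegral (by positivity)).pow i).neg, ?_⟩
    rw [mul_neg, mul_geom_sum]; ring
  choose! v hv hv' using hk
  refine ⟨∏ μ ∈ primitiveRoots (2 ^ (n + 1)) ℂ, v μ, IsIntegral.prod _ hv, ?_⟩
  rw [← h1, Finset.prod_congr rfl (fun μ hμ => by
    rw [Polynomial.eval_sub, Polynomial.eval_X, Polynomial.eval_C, hv' μ hμ]),
    Finset.prod_mul_distrib, Finset.prod_const, (zeta_prim n).card_primitiveRoots,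
    Nat.totient_prime_pow Nat.prime_two (by omega)]
  simp

/-- A combination which is twice a local integer has even coefficients. -/
theorem even_of_two_mul (hM : IsPModular 2 M) (n : ℕ) {a : ℕ → ℤ} {r : ℂ} (hr : MemLocalRing M r)
    (h : ev n a = 2 * r) : ∀ j < 2 ^ n, (2 : ℤ) ∣ a j := by
  classical
  obtain ⟨w, hwi, hw⟩ := two_eq n
  have hπ0 : zeta n - 1 ≠ 0 := by
    intro h0
    rw [h0, zero_pow (by positivity), zero_mul] at hw
    norm_num at hw
  set π : ℂ := zeta n - 1 with hπ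
  have hπI : MemLocalIdeal M π := zeta_congr hM n
  have hwm : MemLocalRing M w := memLocalRing_of_isIntegral hM hwi
  have hπm := MemLocalIdeal.memLocalRing hπI
  set P : ℤ[X] := ∑ j ∈ Finset.range (2 ^ n), C (a j) * X ^ j with hP
  set Q : ℤ[X] := P.comp (X + 1) with hQ
  have hco : ∀ j < 2 ^ n, P.coeff j = a j := by
    intro j hj
    simp [hP, Finset.mem_range.2 hj]
  suffices hall : ∀ k, (2 : ℤ) ∣ Q.coeff k by
    intro j hj
    rw [← hco j hj]
    obtain ⟨R, hR⟩ := (Polynomial.C_dvd_iff_dvd_coeff 2 Q).2 hall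
    have : P = C 2 * R.comp (X - 1) := by
      rw [← C_comp (p := (X - 1 : ℤ[X])), ← mul_comp, ← hR, hQ, Polynomial.comp_assoc]
      simp
    rw [this, Polynomial.coeff_C_mul]
    exact dvd_mul_right _ _
  have hdeg : Q.natDegree < 2 ^ n := by
    have h1 : P.natDegree ≤ 2 ^ n - 1 := by
      refine Polynomial.natDegree_sum_le_of_forall_le _ _ fun j hj => ?_
      exact (Polynomial.natDegree_C_mul_X_pow_le _ _).trans (by have := Finset.mem_range.1 hj; omega)
    have h2 : (X + 1 : ℤ[X]).natDegree = 1 := by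
      rw [show (1 : ℤ[X]) = C 1 from C_1.symm, natDegree_X_add_C]
    have h3 := Polynomial.natDegree_comp_le (p := P) (q := (X + 1 : ℤ[X]))
    rw [h2, mul_one] at h3
    have : 0 < 2 ^ n := by positivity
    rw [hQ]; omega
  have hx : ev n a = ∑ j ∈ Finset.range (2 ^ n), (Q.coeff j : ℂ) * π ^ j := by
    have h1 : aeval π Q = ev n a := by
      rw [hQ, aeval_comp, show aeval π (X + 1 : ℤ[X]) = zeta n by simp [hπ], hP, ev_apply, map_sum]
      simp
    rw [← h1, Polynomial.aeval_eq_sum_range' hdeg]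
    simp [zsmul_eq_mul]
  by_contra hne
  push Not at hne
  have hk := Nat.find_spec hne
  set k := Nat.find hne
  have hkN : k < 2 ^ n := by
    by_contra hk'
    exact hk (by rw [Polynomial.coeff_eq_zero_of_natDegree_lt (by omega)]; exact dvd_zero _)
  apply hk
  rw [show (2 : ℤ) = ((2 : ℕ) : ℤ) by rfl, ← Contribution.memLocalIdeal_intCast_iff hM]
  have e : (Q.coeff k : ℂ) = r * w * π ^ (2 ^ n - k) -
      ∑ j ∈ (Finset.range (2 ^ n)).erase k, (Q.coeff j : ℂ) * (π ^ j / π ^ k) := by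
    rw [eq_sub_iff_add_eq]
    apply mul_right_cancel₀ (pow_ne_zero k hπ0)
    rw [add_mul, Finset.sum_mul, mul_assoc (r * w), ← pow_add,
      show 2 ^ n - k + k = 2 ^ n by omega,
      show r * w * π ^ 2 ^ n = 2 * r by rw [hw]; ring, ← h, hx,
      ← Finset.add_sum_erase _ _ (Finset.mem_range.2 hkN)]
    congr 1
    refine Finset.sum_congr rfl fun j _ => ?_
    rw [mul_assoc, div_mul_cancel₀ _ (pow_ne_zero k hπ0)]
  rw [e]
  have hpow : ∀ m, 0 < m → MemLocalIdeal M (π ^ m) := fun m hm => by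
    rw [show m = (m - 1) + 1 by omega, pow_succ]
    exact MemLocalIdeal.mul_left hM ((lRing hM).pow_mem hπm _) hπI
  refine MemLocalIdeal.sub hM (MemLocalIdeal.mul_left hM ((lRing hM).mul_mem hr hwm) (hpow _ (by omega)))
    (MemLocalIdeal.sum hM _ fun j hj => ?_)
  obtain ⟨hjk, hjN⟩ := Finset.mem_erase.1 hj
  rcases Nat.lt_or_gt_of_ne hjk with hlt | hgt
  · have heven : (2 : ℤ) ∣ Q.coeff j := by
      by_contra h'; exact Nat.find_min hne hlt h'
    obtain ⟨c, hc⟩ := heven
    rw [hc, show ((2 * c : ℤ) : ℂ) * (π ^ j / π ^ k) = (c : ℂ) * w * π ^ (2 ^ n + j - k) by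
      push_cast
      rw [hw, pow_sub₀ _ hπ0 (by omega), pow_add]
      ring]
    exact MemLocalIdeal.mul_left hM
      ((lRing hM).mul_mem (_root_.intCast_mem (lRing hM) _) hwm) (hpow _ (by omega))
  · rw [div_eq_mul_inv, ← pow_sub₀ _ hπ0 hgt.le]
    exact MemLocalIdeal.mul_left hM (_root_.intCast_mem (lRing hM) _) (hpow _ (by omega))

end CfsgLib.Blk4.TwoCyc
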