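import Cfsg.Agent.Lib.Blk4.SubsectionShape
import Cfsg.Agent.Lib.Blk4.TwoCyclotomic

/-!
# Coefficients of the contributions of a 2-subsection
-/

set_option autoImplicit false
set_option linter.unusedSectionVars false
set_option linter.style.haveILetI false

noncomputable section

namespace CfsgLib.Blk4.TwoContrib

open Cfsg CfsgLib.Blocks CfsgLib.Contribution CfsgLib.Blk4
open scoped ComplexConjugate

universe u

variable {G : Type u} [Group G] [Fintype G] [Fintype (ConjClasses G)] {M : Ideal AlgInt}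
variable (z : G) [Fintype (Subgroup.centralizer ({z} : Set G))]
  [Fintype (ConjClasses (Subgroup.centralizer ({z} : Set G)))]
  (b : Set (IrrCharacter (Subgroup.centralizer ({z} : Set G)))) {B : Set (IrrCharacter G)}

theorem cz_mem_range (hM : IsPModular 2 M) {m : ℕ} (hz : orderOf z = 2 ^ m) (hb : IsPBlock M b)
    (χ φ : IrrCharacter G) :
    Major.cz z b 2 (blockDefect 2 b) χ φ ∈ (TwoCyc.ev m).range := by
  classical
  have hpow : z ^ 2 ^ m = 1 := hz ▸ pow_orderOf_eq_one z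
  simp only [Major.cz_expand]
  refine sum_mem fun ξ hξ => sum_mem fun η hη => ?_
  rw [← contribInt_cast hM hb ξ (Finset.mem_filter.1 hη).2, Major.w, Major.w, map_mul,
    Complex.conj_natCast]
  rw [show (Major.nm z χ ξ : ℂ) * Major.lam z ξ * ((Major.nm z φ η : ℂ) * conj (Major.lam z η)) *
      (contribInt 2 b ξ η : ℂ) =
    ((Major.nm z χ ξ * Major.nm z φ η * contribInt 2 b ξ η : ℤ) : ℂ) *
      (Major.lam z ξ * conj (Major.lam z η)) by push_cast; ring]
  refine TwoCyc.natCast_mul_root_mem m ?_ _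
  rw [pow_succ, pow_mul, mul_pow, ← map_pow, Major.lam_pow z hpow, Major.lam_pow z hpow]
  simp

variable {m : ℕ} (hM : IsPModular 2 M) (hz : orderOf z = 2 ^ m)
  (hind : IsInducedBlock M (Subgroup.centralizer ({z} : Set G)) b B)

/-- The coefficients. -/
def cof (χ φ : IrrCharacter G) : ℕ → ℤ := (cz_mem_range z b hM hz hind.1 χ φ).choose

theorem ev_cof (χ φ : IrrCharacter G) :
    TwoCyc.ev m (cof z b hM hz hind χ φ) = Major.cz z b 2 (blockDefect 2 b) χ φ :=
  (cz_mem_range z b hM hz hind.1 χ φ).choose_spec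

/-- The square norm of an entry. -/
def sq (χ φ : IrrCharacter G) : ℤ :=
  ∑ j ∈ Finset.range (2 ^ m), cof z b hM hz hind χ φ j ^ 2

theorem sq_nonneg' (χ φ : IrrCharacter G) : 0 ≤ sq z b hM hz hind χ φ :=
  Finset.sum_nonneg fun j _ => sq_nonneg _

/-- Row norms. -/
theorem row (χ : IrrCharacter G) :
    ∑ φ ∈ members B, sq z b hM hz hind χ φ =
      2 ^ blockDefect 2 b * cof z b hM hz hind χ χ 0 := by
  classical
  haveI : Fact (Nat.Prime 2) := ⟨Nat.prime_two⟩
  have h := Major.cz_mul' z b hM hz hind χ χ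
  push_cast at h
  rw [Finset.sum_congr rfl fun φ _ => show
      Major.cz z b 2 (blockDefect 2 b) χ φ * Major.cz z b 2 (blockDefect 2 b) φ χ =
        Major.cz z b 2 (blockDefect 2 b) χ φ * conj (Major.cz z b 2 (blockDefect 2 b) χ φ) by
    rw [Major.cz_conj]] at h
  have h2 := congrArg (TwoCyc.tau m) h
  rw [map_sum, show (2 : ℂ) ^ blockDefect 2 b * Major.cz z b 2 (blockDefect 2 b) χ χ =
      (((2 : ℤ) ^ blockDefect 2 b : ℤ) : ℂ) * Major.cz z b 2 (blockDefect 2 b) χ χ by push_cast; rfl,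
    TwoCyc.tau_intCast_mul] at h2
  simp only [← ev_cof z b hM hz hind, TwoCyc.tau_ev, TwoCyc.tau_ev_norm] at h2
  unfold sq members
  exact_mod_cast h2

/-- The trace. -/
theorem trace : ∑ χ ∈ members B, cof z b hM hz hind χ χ 0 =
    2 ^ blockDefect 2 b * (blockRank 2 b : ℤ) := by
  classical
  haveI : Fact (Nat.Prime 2) := ⟨Nat.prime_two⟩
  have h := Major.cz_trace z b hM hz hind (blockDefect 2 b)
  rw [show ((2 : ℕ) : ℂ) ^ blockDefect 2 b * (blockRank 2 b : ℂ) =
    ((2 ^ blockDefect 2 b * blockRank 2 b : ℕ) : ℂ) by push_cast; rfl] at h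
  have h2 := congrArg (TwoCyc.tau m) h
  rw [map_sum, TwoCyc.tau_natCast] at h2
  simp only [← ev_cof z b hM hz hind, TwoCyc.tau_ev] at h2
  unfold members
  exact_mod_cast h2

theorem diag_nonneg (χ : IrrCharacter G) : 0 ≤ cof z b hM hz hind χ χ 0 := by
  have h := row z b hM hz hind χ
  have h1 : 0 ≤ (2 : ℤ) ^ blockDefect 2 b * cof z b hM hz hind χ χ 0 :=
    h ▸ Finset.sum_nonneg fun φ _ => sq_nonneg' z b hM hz hind χ φ
  exact (mul_nonneg_iff_of_pos_left (by positivity)).1 h1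

theorem one_le_sq {χ φ : IrrCharacter G} (h : Major.cz z b 2 (blockDefect 2 b) χ φ ≠ 0) :
    1 ≤ sq z b hM hz hind χ φ := by
  obtain ⟨j, hj, hj0⟩ : ∃ j ∈ Finset.range (2 ^ m), cof z b hM hz hind χ φ j ≠ 0 := by
    by_contra h'
    push Not at h'
    apply h
    rw [← ev_cof z b hM hz hind, TwoCyc.ev_apply]
    exact Finset.sum_eq_zero fun j hj => by simp [h' j hj]
  exact le_trans (by have : 0 < cof z b hM hz hind χ φ j ^ 2 := pow_two_pos_of_ne_zero hj0; omega)
    (Finset.single_le_sum (fun i _ => sq_nonneg (cof z b hM hz hind χ φ i)) hj)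

theorem diag_odd {χ : IrrCharacter G} (hχ : χ ∈ B) (h0 : ¬ 2 ∣ red 2 B χ) :
    ¬ (2 : ℤ) ∣ cof z b hM hz hind χ χ 0 := by
  rw [← TwoCyc.real_mem_iff hM m (by rw [ev_cof, Major.cz_conj]), ev_cof]
  exact (Major.cz_unit_iff z b hM hz hind hχ hχ).2 ⟨h0, h0⟩

include hM hz hind in
theorem entry_ne_zero {χ φ : IrrCharacter G} (hχ : χ ∈ B) (hφ : φ ∈ B) (h0 : ¬ 2 ∣ red 2 B χ)
    (h0' : ¬ 2 ∣ red 2 B φ) : Major.cz z b 2 (blockDefect 2 b) χ φ ≠ 0 := fun h =>
  (Major.cz_unit_iff z b hM hz hind hχ hφ).2 ⟨h0, h0'⟩ (h ▸ memLocalIdeal_zero hM)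

/-- At height zero there are at most `2 ^ q` times the diagonal coefficient many such characters. -/
theorem count_le {χ : IrrCharacter G} (hχ : χ ∈ B) (h0 : ¬ 2 ∣ red 2 B χ) :
    (((members B).filter (fun φ => ¬ 2 ∣ red 2 B φ)).card : ℤ) ≤
      2 ^ blockDefect 2 b * cof z b hM hz hind χ χ 0 := by
  rw [← row z b hM hz hind χ, Finset.card_eq_sum_ones, Nat.cast_sum, Finset.sum_filter]
  refine Finset.sum_le_sum fun φ hφ => ?_
  by_cases h : 2 ∣ red 2 B φ
  · rw [if_neg (not_not.2 h)]; exact sq_nonneg' z b hM hz hind χ φ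
  · rw [if_pos h]
    simpa using one_le_sq z b hM hz hind (entry_ne_zero z b hM hz hind hχ (mem_members.1 hφ) h0 h)

/-- Coefficients of multiples of a power of two. -/
theorem pow_dvd_coeff {h : ℕ} : ∀ {a : ℕ → ℤ} {r : ℂ}, MemLocalRing M r →
    TwoCyc.ev m a = (2 : ℂ) ^ h * r → IsPModular 2 M →
    ∃ a' : ℕ → ℤ, (∀ j < 2 ^ m, a j = 2 ^ h * a' j) ∧ TwoCyc.ev m a' = r := by
  induction h with
  | zero => intro a r _ he _; exact ⟨a, fun j _ => by simp, by simpa using he⟩
  | succ h ih =>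
    intro a r hr he hM
    have hr2 : MemLocalRing M ((2 : ℂ) ^ h * r) :=
      (lRing hM).mul_mem ((lRing hM).pow_mem (natCast_mem (lRing hM) 2) h) hr
    have hev := TwoCyc.even_of_two_mul hM m hr2 (by rw [he, pow_succ']; ring)
    have hhalf : TwoCyc.ev m (fun j => a j / 2) = (2 : ℂ) ^ h * r := by
      refine mul_left_cancel₀ (two_ne_zero (α := ℂ)) ?_
      rw [← mul_assoc, ← pow_succ', ← he, TwoCyc.ev_apply, TwoCyc.ev_apply, Finset.mul_sum]
      refine Finset.sum_congr rfl fun j hj => ?_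
      obtain ⟨q, hq⟩ := hev j (Finset.mem_range.1 hj)
      simp only [hq, Int.mul_ediv_cancel_left _ (two_ne_zero (α := ℤ))]
      push_cast; ring
    obtain ⟨a', ha', hr'⟩ := ih hr hhalf hM
    refine ⟨a', fun j hj => ?_, hr'⟩
    obtain ⟨q, hq⟩ := hev j hj
    have h3 := ha' j hj
    rw [hq, Int.mul_ediv_cancel_left _ (two_ne_zero (α := ℤ))] at h3
    rw [hq, h3, pow_succ']; ring

end CfsgLib.Blk4.TwoContrib
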